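import Groth.Agent.AlgStLib.SpaceTest
import Groth.Agent.AlgSpLib.FpqcMore
import Groth.Agent.AlgSpLib.Fppf
import Groth.Agent.AlgSpLib.Sep
import Groth.Agent.AlgSpLib.UnivClosed
import Groth.Agent.AlgSpLib.SrcScheme

/-!
# Classes of morphisms of algebraic spaces: base change, composition, testing on schemes, cancellation
-/

set_option autoImplicit false

universe u

open CategoryTheory CategoryTheory.Limits AlgebraicGeometry Opposite AlgSp AlgSpLib

namespace AlgStLib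

variable {S : Scheme.{u}}

/-- A property of morphisms of algebraic spaces which can be tested on base changes to schemes. -/
def SchTest (P : MorphismProperty (Sp S)) : Prop :=
  ∀ ⦃X Y : Sp S⦄, IsAlgSpace X → IsAlgSpace Y → ∀ f : X ⟶ Y,
    (∀ (Z : Over S) (g : (yon S).obj Z ⟶ Y), P (pullback.snd f g)) → P f

/-- Stability under composition, for morphisms of algebraic spaces. -/
def CompSp (P : MorphismProperty (Sp S)) : Prop :=
  ∀ ⦃X Y Z : Sp S⦄, IsAlgSpace X → IsAlgSpace Y → IsAlgSpace Z →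
    ∀ (a : X ⟶ Y) (b : Y ⟶ Z), P a → P b → P (a ≫ b)

/-- Base change, composition and testing on schemes. -/
structure Good (P : MorphismProperty (Sp S)) : Prop where
  bc : StableBC P
  comp : CompSp P
  test : SchTest P

lemma schTest_of_local {τ : CovNotion S} {P : MorphismProperty (Sp S)}
    (hτ : ∀ {Y : Sp S} {U : Over S} {p : (yon S).obj U ⟶ Y}, IsAlgSpace Y → RepWith @Etale p →
      RepWith @Surjective p → τ (fun _ : PUnit.{u + 1} => (yon S).obj U) (fun _ => p))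
    (hP : IsLocalOnBase τ P) : SchTest P := by
  intro X Y hX hY f h
  obtain ⟨U, p, hp, hp'⟩ := hY.atlas
  exact (hP (ι := PUnit.{u + 1}) _ (fun _ => p) hY (fun _ => IsAlgSpace.yon_obj U) (hτ hY hp hp') f hX
    _ (fun _ => pullback.snd f p) (fun _ => pullback.fst f p)
    (fun _ => isAlgSpace_pullback hX (IsAlgSpace.yon_obj U) hY f p)
    (fun _ => IsPullback.of_hasPullback f p)).mpr fun _ => h U p

lemma schTest_of_etale {P : MorphismProperty (Sp S)} (hP : IsLocalOnBase IsEtCover P) : SchTest P :=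
  schTest_of_local (fun _ hp hp' => ⟨fun _ => isEtaleMor_of_repWith hp,
    fun x => ⟨⟨⟩, map_surjective_of_repWith hp' x⟩⟩) hP

lemma schTest_of_fppf {P : MorphismProperty (Sp S)} (hP : IsLocalOnBase IsFppfCover P) : SchTest P :=
  schTest_of_local (fun _ hp hp' => isFppfCover_atlas hp hp') hP

lemma schTest_of_fpqc {P : MorphismProperty (Sp S)} (hP : IsLocalOnBase IsFpqcCover P) : SchTest P :=
  schTest_of_local (fun hY hp hp' => isFpqcCover_of_isFppfCover hY (fun _ => IsAlgSpace.yon_obj _)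
    (isFppfCover_atlas hp hp')) hP

lemma Good.inf {P Q : MorphismProperty (Sp S)} (hP : Good P) (hQ : Good Q) : Good (P ⊓ Q) :=
  ⟨fun _ _ _ _ h₁ h₂ h₃ h₄ a b a' b' sq h =>
      ⟨hP.bc h₁ h₂ h₃ h₄ a b a' b' sq h.1, hQ.bc h₁ h₂ h₃ h₄ a b a' b' sq h.2⟩,
    fun _ _ _ h₁ h₂ h₃ a b ha hb => ⟨hP.comp h₁ h₂ h₃ a b ha.1 hb.1, hQ.comp h₁ h₂ h₃ a b ha.2 hb.2⟩,
    fun _ _ h₁ h₂ f h => ⟨hP.test h₁ h₂ f fun Z g => (h Z g).1, hQ.test h₁ h₂ f fun Z g => (h Z g).2⟩⟩

lemma good_top : Good (⊤ : MorphismProperty (Sp S)) :=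
  ⟨fun _ _ _ _ _ _ _ _ _ _ _ _ _ _ => trivial, fun _ _ _ _ _ _ _ _ _ _ => trivial, fun _ _ _ _ _ _ => trivial⟩

lemma good_locP (P : MorphismProperty Scheme.{u}) [EtLocProp P] [P.IsStableUnderComposition] :
    Good (LocP P : MorphismProperty (Sp S)) :=
  ⟨fun _ _ _ _ h₁ h₂ _ h₄ _ _ _ _ sq h => locP_of_isPullback h₁ h₂ h₄ sq h,
    fun _ _ _ h₁ h₂ h₃ _ _ ha hb => locP_comp h₁ h₂ h₃ ha hb,
    schTest_of_etale (isLocalOnBase_locP S P)⟩

instance isStableUnderComposition_unramified :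
    (@LocallyOfFiniteType ⊓ @FormallyUnramified : MorphismProperty Scheme.{u}).IsStableUnderComposition :=
  isStableUnderComposition_of_list (Or.inr (Or.inr (Or.inr (Or.inr (Or.inr (Or.inr fun _ _ _ => Iff.rfl))))))

instance isStableUnderComposition_lqf :
    (@LocallyQuasiFinite ⊓ @LocallyOfFiniteType : MorphismProperty Scheme.{u}).IsStableUnderComposition :=
  isStableUnderComposition_of_list (Or.inr (Or.inr (Or.inr (Or.inr (Or.inr (Or.inl fun _ _ _ => Iff.rfl))))))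

lemma good_lft : Good (LocP @LocallyOfFiniteType : MorphismProperty (Sp S)) := good_locP _

lemma good_unramified :
    Good (LocP (@LocallyOfFiniteType ⊓ @FormallyUnramified) : MorphismProperty (Sp S)) := good_locP _

lemma good_lqf :
    Good (LocP (@LocallyQuasiFinite ⊓ @LocallyOfFiniteType) : MorphismProperty (Sp S)) := good_locP _

lemma good_qc : Good (IsQuasiCompactMor : MorphismProperty (Sp S)) :=
  ⟨fun _ _ _ _ _ _ _ _ _ _ _ _ sq h => isQuasiCompactMor_of_isPullback sq h,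
    fun _ _ _ _ h₂ h₃ _ _ ha hb => isQuasiCompactMor_comp h₂ h₃ ha hb,
    schTest_of_fpqc (isLocalOnBase_fpqc_isQuasiCompactMor S)⟩

lemma good_qs : Good (IsQuasiSeparatedMor : MorphismProperty (Sp S)) :=
  ⟨fun _ _ _ _ _ _ _ _ _ _ _ _ sq h => repWith_diagonal_of_isPullback sq h,
    fun _ _ _ _ _ _ _ _ ha hb => repWith_diagonal_comp ha hb,
    schTest_of_fpqc (isLocalOnBase_fpqc_isQuasiSeparatedMor S)⟩

lemma good_separated : Good (IsSeparatedMor : MorphismProperty (Sp S)) :=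
  ⟨fun _ _ _ _ _ _ _ _ _ _ _ _ sq h => repWith_diagonal_of_isPullback sq h,
    fun _ _ _ _ _ _ _ _ ha hb => repWith_diagonal_comp ha hb,
    schTest_of_fpqc (isLocalOnBase_fpqc_isSeparatedMor S)⟩

lemma compSp_univClosed : CompSp (IsUnivClosedMor : MorphismProperty (Sp S)) := by
  intro X Y Z _ hY hZ a b ha hb T T' hT g fst snd sq
  have sq₁ := IsPullback.of_hasPullback b g
  have e : (fst ≫ a) ≫ b = snd ≫ g := (Category.assoc _ _ _).trans sq.w
  have h₁ := hb hT g _ _ sq₁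
  have sq₂ : IsPullback fst (sq₁.lift _ _ e) a (pullback.fst b g) :=
    IsPullback.of_bot (by rw [sq₁.lift_snd]; exact sq) (sq₁.lift_fst _ _ _).symm sq₁
  have h₂ := ha (isAlgSpace_pullback hY hT hZ b g) (pullback.fst b g) fst (sq₁.lift _ _ e) sq₂
  change IsClosedMap (Points.map snd)
  rw [show snd = sq₁.lift _ _ e ≫ pullback.snd b g from (sq₁.lift_snd _ _ _).symm,
    funext (Points.map_comp (sq₁.lift _ _ e) (pullback.snd b g))]
  exact IsClosedMap.comp h₁ h₂

lemma good_proper : Good (IsProperMor : MorphismProperty (Sp S)) := by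
  refine ⟨fun _ _ _ _ h₁ h₂ _ h₄ _ _ _ _ sq h => ⟨repWith_diagonal_of_isPullback sq h.1,
      ⟨locP_of_isPullback h₁ h₂ h₄ sq h.2.1.1, isQuasiCompactMor_of_isPullback sq h.2.1.2⟩,
      univSp_of_isPullback sq h.2.2⟩, ?_, ?_⟩
  · intro X Y Z hX hY hZ a b ha hb
    exact ⟨good_separated.comp hX hY hZ a b ha.1 hb.1,
      ⟨good_lft.comp hX hY hZ a b ha.2.1.1 hb.2.1.1, good_qc.comp hX hY hZ a b ha.2.1.2 hb.2.1.2⟩,
      compSp_univClosed hX hY hZ a b ha.2.2 hb.2.2⟩
  · exact schTest_of_fpqc (isLocalOnBase_and (isLocalOnBase_fpqc_isSeparatedMor S) (isLocalOnBase_and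
      (isLocalOnBase_and (isLocalOnBase_fpqc_locP_of_descendsAlong S @LocallyOfFiniteType) (isLocalOnBase_fpqc_isQuasiCompactMor S))
      (isLocalOnBase_fpqc_univSp S descends_isClosedMor qdescends_isClosedMor)))

lemma good_mono : Good (MorphismProperty.monomorphisms (Sp S)) := by
  refine ⟨fun _ _ _ _ _ _ _ _ a b a' b' sq h => ?_, fun _ _ _ _ _ _ a b ha hb => ?_, fun X Y _ _ f h => ?_⟩
  · have : Mono a := h
    exact ⟨fun x y e => sq.hom_ext ((cancel_mono a).1 (by
      rw [Category.assoc, Category.assoc, sq.w, ← Category.assoc, e, Category.assoc])) e⟩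
  · have : Mono a := ha
    have : Mono b := hb
    exact (inferInstance : Mono (a ≫ b))
  · refine mono_of_injective fun T x y e => ?_
    have : Mono (pullback.snd f (x ≫ f)) := h T (x ≫ f)
    have hxy : pullback.lift (f := f) (g := x ≫ f) x (𝟙 _) (by rw [Category.id_comp]) =
        pullback.lift y (𝟙 _) (by rw [Category.id_comp, e]) := by
      rw [← cancel_mono (pullback.snd f (x ≫ f)), pullback.lift_snd, pullback.lift_snd]
    have hh := congrArg (· ≫ pullback.fst f (x ≫ f)) hxy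
    exact (pullback.lift_fst _ _ _).symm.trans (hh.trans (pullback.lift_fst _ _ _))

lemma good_repWith (P : MorphismProperty Scheme.{u}) [P.IsStableUnderComposition] :
    Good (RepWith P : MorphismProperty (Sp S)) := by
  refine ⟨fun _ _ _ _ _ _ _ _ _ _ _ _ sq h => repWith_of_isPullback sq h,
    fun _ _ _ _ _ _ _ _ ha hb => repWith_comp ha hb, fun X Y _ _ f h => ⟨fun Z g => ?_, ?_⟩⟩
  · obtain ⟨W, s, t, sq⟩ := (h Z g).rep (𝟙 _)
    exact ⟨W, s, t ≫ pullback.fst f g,
      by simpa using sq.paste_horiz (IsPullback.of_hasPullback f g)⟩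
  · intro a b g fst snd sq
    refine (h a g).property (𝟙 _)
      ((IsPullback.of_hasPullback f g).lift fst ((yon S).map snd) sq.w) snd ?_
    refine IsPullback.of_right ?_ (by rw [Category.comp_id, IsPullback.lift_snd]) (IsPullback.of_hasPullback f g)
    simpa using sq

/-- Affineness of base changes to affine schemes, with a property of the projection. -/
def AffWith (Q : MorphismProperty Scheme.{u}) : MorphismProperty (Sp S) := fun F G f =>
  ∀ ⦃Z : Over S⦄, IsAffine Z.left → ∀ (g : (yon S).obj Z ⟶ G),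
    ∃ (W : Over S) (i : W ⟶ Z) (fst : (yon S).obj W ⟶ F),
      IsPullback fst ((yon S).map i) f g ∧ IsAffine W.left ∧ Q i.left

lemma good_affWith (Q : MorphismProperty Scheme.{u}) [Q.IsStableUnderComposition] :
    Good (AffWith Q : MorphismProperty (Sp S)) := by
  refine ⟨fun _ _ _ _ _ _ _ _ a b a' b' sq h Z hZ g => ?_, fun _ _ _ _ _ _ a b ha hb Z hZ g => ?_,
    fun X Y _ _ f h Z hZ g => ?_⟩
  · obtain ⟨W, i, fst, sqW, hW⟩ := h hZ (g ≫ b)
    exact ⟨W, i, sq.lift fst ((yon S).map i ≫ g) (by rw [sqW.w, Category.assoc]),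
      IsPullback.of_right (by rw [sq.lift_fst]; exact sqW) (sq.lift_snd _ _ _) sq, hW⟩
  · obtain ⟨W₁, i₁, f₁, sq₁, hW₁, hi₁⟩ := hb hZ g
    obtain ⟨W₂, i₂, f₂, sq₂, hW₂, hi₂⟩ := ha hW₁ f₁
    refine ⟨W₂, i₂ ≫ i₁, f₂, ?_, hW₂, Q.comp_mem _ _ hi₂ hi₁⟩
    rw [Functor.map_comp]
    exact sq₂.paste_vert sq₁
  · obtain ⟨W, i, fst, sq, hW⟩ := h Z g hZ (𝟙 _)
    exact ⟨W, i, fst ≫ pullback.fst f g, by simpa using sq.paste_horiz (IsPullback.of_hasPullback f g), hW⟩

lemma isAffineMor_eq_affWith : (IsAffineMor : MorphismProperty (Sp S)) = AffWith ⊤ := by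
  ext X Y f
  constructor
  · intro h Z hZ g
    obtain ⟨W, i, fst, sq, hW⟩ := h hZ g
    exact ⟨W, i, fst, sq, hW, trivial⟩
  · intro h Z hZ g
    obtain ⟨W, i, fst, sq, hW, -⟩ := h hZ g
    exact ⟨W, i, fst, sq, hW⟩

lemma good_affine : Good (IsAffineMor : MorphismProperty (Sp S)) := by
  rw [isAffineMor_eq_affWith]
  exact @good_affWith S ⊤ ⟨fun _ _ _ _ => trivial⟩

lemma good_integral : Good (IsIntegralMor : MorphismProperty (Sp S)) :=
  good_affWith (S := S) @IsIntegralHom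

lemma good_finite : Good (IsFiniteMor : MorphismProperty (Sp S)) :=
  good_affWith (S := S) @IsFinite

/-- Cancellation along the graph. -/
lemma cancel_of_graph {P : MorphismProperty (Sp S)} (hP : Good P) {P₀ : MorphismProperty Scheme.{u}}
    (h₀ : ∀ ⦃X Y : Sp S⦄, IsAlgSpace X → IsAlgSpace Y → ∀ s : X ⟶ Y, Mono s → RepWith P₀ s → P s)
    {X Y Z : Sp S} (hX : IsAlgSpace X) (hY : IsAlgSpace Y) (hZ : IsAlgSpace Z) {a : X ⟶ Y} {b : Y ⟶ Z}
    (hab : P (a ≫ b)) (hb : RepWith P₀ (pullback.diagonal b)) : P a := by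
  have sq := IsPullback.of_hasPullback (a ≫ b) b
  have hW := isAlgSpace_pullback hX hY hZ (a ≫ b) b
  let Γ : X ⟶ pullback (a ≫ b) b := pullback.lift (𝟙 X) a (by simp)
  have h1 : Γ ≫ pullback.fst (a ≫ b) b = 𝟙 X := pullback.lift_fst _ _ _
  have h2 : Γ ≫ pullback.snd (a ≫ b) b = a := pullback.lift_snd _ _ _
  have hm : Mono Γ := (SplitMono.mk (pullback.fst (a ≫ b) b) h1).mono
  rw [← h2]
  exact hP.comp hX hW hY _ _
    (h₀ hX hW Γ hm (repWith_section h1 (repWith_diagonal_of_isPullback sq.flip hb)))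
    (hP.bc hX hZ hW hY (a ≫ b) b _ _ sq hab)

lemma isProperMor_of_closedImmersion {X Y : Sp S} (hX : IsAlgSpace X) (hY : IsAlgSpace Y) {i : X ⟶ Y}
    (hi : RepWith @IsClosedImmersion i) : IsProperMor i := by
  haveI : Mono i := mono_of_repWith (fun g (_ : IsClosedImmersion g) => inferInstance) hi
  refine ⟨repWith_of_isIso _, ⟨locP_of_repWith (repWith_mono
      (fun _ _ g (_ : IsClosedImmersion g) => (inferInstance : LocallyOfFiniteType g)) hi),
      isQuasiCompactMor_of_repWith hX hY (repWith_mono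
        (fun _ _ g (_ : IsClosedImmersion g) => (inferInstance : QuasiCompact g)) hi)⟩, ?_⟩
  intro Z Z' hZ g fst snd sq
  have hi' : RepWith @IsClosedImmersion snd := repWith_of_isPullback sq hi
  change IsClosedMap (Points.map snd)
  intro s hs
  exact isClosed_image_of_closedImmersion (isAlgSpace_of_representable hZ snd hi'.rep) hZ hi' hs

lemma cancel_proper {X Y Z : Sp S} (hX : IsAlgSpace X) (hY : IsAlgSpace Y) (hZ : IsAlgSpace Z) {a : X ⟶ Y}
    {b : Y ⟶ Z} (hab : IsProperMor (a ≫ b)) (hb : IsSeparatedMor b) : IsProperMor a :=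
  cancel_of_graph good_proper (fun _ _ h₁ h₂ _ _ h => isProperMor_of_closedImmersion h₁ h₂ h) hX hY hZ hab hb

lemma cancel_qcqs {X Y Z : Sp S} (hX : IsAlgSpace X) (hY : IsAlgSpace Y) (hZ : IsAlgSpace Z) {a : X ⟶ Y}
    {b : Y ⟶ Z} (hab : (IsQuasiCompactMor ⊓ IsQuasiSeparatedMor : MorphismProperty (Sp S)) (a ≫ b))
    (hb : IsQuasiSeparatedMor b) : (IsQuasiCompactMor ⊓ IsQuasiSeparatedMor : MorphismProperty (Sp S)) a :=
  cancel_of_graph (good_qc.inf good_qs)
    (fun _ _ h₁ h₂ s (_ : Mono s) h => ⟨isQuasiCompactMor_of_repWith h₁ h₂ h, repWith_of_isIso _⟩)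
    hX hY hZ hab hb

lemma cancel_unramified {X Y Z : Sp S} (hX : IsAlgSpace X) (hY : IsAlgSpace Y) (hZ : IsAlgSpace Z) {a : X ⟶ Y}
    {b : Y ⟶ Z} (hab : LocP (@LocallyOfFiniteType ⊓ @FormallyUnramified) (a ≫ b)) :
    LocP (@LocallyOfFiniteType ⊓ @FormallyUnramified) a :=
  locP_of_comp unramified_of_comp hX hY hZ hab

lemma cancel_lqf {X Y Z : Sp S} (hX : IsAlgSpace X) (hY : IsAlgSpace Y) (hZ : IsAlgSpace Z) {a : X ⟶ Y}
    {b : Y ⟶ Z} (hab : LocP (@LocallyQuasiFinite ⊓ @LocallyOfFiniteType) (a ≫ b)) :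
    LocP (@LocallyQuasiFinite ⊓ @LocallyOfFiniteType) a :=
  locP_of_comp lqf_lft_of_comp hX hY hZ hab

end AlgStLib
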