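import Groth.Agent.AlgStLib.Rows2
import Mathlib.AlgebraicGeometry.ZariskisMainTheorem

/-!
# Descent of properties along flat coverings, and the diagonal of a functor versus that of its base changes
-/

set_option autoImplicit false
set_option backward.isDefEq.respectTransparency false
set_option backward.isDefEq.respectTransparency.types false

universe u

open CategoryTheory CategoryTheory.Limits AlgebraicGeometry Opposite AlgSp FibCat FibLib AlgSpLib

namespace AlgStLib

variable {S : Scheme.{u}}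

lemma good_surjective : Good (IsSurjectiveMor : MorphismProperty (Sp S)) := by
  refine ⟨fun _ _ _ _ _ _ _ _ _ _ _ _ sq h => map_surjective_of_isPullback sq h,
    fun _ _ _ _ _ _ a b ha hb => ?_, fun X Y _ hY f h y => ?_⟩
  · change Function.Surjective (Points.map (a ≫ b))
    rw [funext (Points.map_comp a b)]
    exact hb.comp ha
  · obtain ⟨U, p, -, hp⟩ := hY.atlas
    obtain ⟨y', rfl⟩ := map_surjective_of_repWith hp y
    obtain ⟨w, rfl⟩ := h U p y'
    exact ⟨Points.map (pullback.fst f p) w, by rw [← Points.map_comp, ← Points.map_comp, pullback.condition]⟩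

lemma good_flat : Good (LocP @Flat : MorphismProperty (Sp S)) := good_locP _

lemma good_lfp : Good (LocP @LocallyOfFinitePresentation : MorphismProperty (Sp S)) := good_locP _

lemma isClosedImmersion_of_univClosed_mono {X Y : Sp S} {f : X ⟶ Y}
    (hm : RepWith (MorphismProperty.monomorphisms Scheme.{u}) f) (hl : RepWith @LocallyOfFiniteType f)
    (hc : IsUnivClosedMor f) : RepWith @IsClosedImmersion f := by
  have hu : RepWith (topologically @IsClosedMap).universally f :=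
    (repWith_universally_iff (Q' := topologically @IsClosedMap) descends_isClosedMor
      (fun φ => isClosedMap_map_yon_iff φ)
      (fun e _ p (h : IsClosedMap (Points.map p)) => by
        show IsClosedMap (Points.map (e ≫ p))
        rw [funext (Points.map_comp e p)]
        exact h.comp (isHomeomorph_map_of_isIso e).isClosedMap) hm.rep).2 hc
  rw [← universallyClosed_eq] at hu
  refine ⟨hm.rep, fun A B g fst snd sq => ?_⟩
  haveI : Mono snd.left := hm.property g fst snd sq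
  haveI : LocallyOfFiniteType snd.left := hl.property g fst snd sq
  haveI : UniversallyClosed snd.left := hu.property g fst snd sq
  exact (IsClosedImmersion.iff_isProper_and_mono (f := snd.left)).2 ⟨{}, ‹_›⟩

variable {𝒳 𝒴 𝒵 : AlgSt.Cat S} {P : MorphismProperty (Sp S)}

/-- The diagonal of the space of a base change is a base change of the diagonal. -/
theorem prop_diagonal_of_diag (hPb : StableBC P) (hPt : SchTest P) {f : 𝒳 ⥤ᵇ 𝒴}
    (hd : AlgSt.RepByAlgSpWith P (diag f)) {U : Over S} {z : AlgSt.ofSch U ⥤ᵇ 𝒴} {K : Sp S}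
    {a : K ⟶ (yon S).obj U} (hK : IsAlgSpace K) (ha : Along z f a.hom) : P (pullback.diagonal a) := by
  obtain ⟨e, he, ⟨β⟩⟩ := ha
  have hp := repByAlgSpWith_diag_fpFst f z hd
  let p := FibCat.fpFst z f
  have hU := IsAlgSpace.yon_obj (S := S) U
  haveI := full_id (AlgSt.ofSch U)
  haveI := faithful_id (AlgSt.ofSch U)
  let D : fp (Stk.ofPshMap a.hom) (Stk.ofPshMap a.hom) ⥤ᵇ fp p p :=
    fpMap (a := e) (b := e) (c := BasedFunctor.id _) β β
  have sqa := isPullback_sheaf (IsPullback.of_hasPullback a a)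
  let α : BasedFunctor.comp (Stk.ofPshMap (pullback.fst a a).hom) (Stk.ofPshMap a.hom) ≅
      BasedFunctor.comp (Stk.ofPshMap (pullback.snd a a).hom) (Stk.ofPshMap a.hom) :=
    eqToIso (by rw [← ofPshMap_comp, ← ofPshMap_comp, sqa.w])
  let E : AlgSt.ofSp (pullback a a) ⥤ᵇ fp p p := BasedFunctor.comp (fpLift _ _ α) D
  have hE : IsEquivOver E := isEquivOver_comp
    (isEquivOver_fpLift_of_bijective sqa.w α (fun T => bijective_toPairs_of_isPullback sqa T))
    (isEquivOver_fpMap _ _ he he)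
  have hΔ : BasedFunctor.comp (Stk.ofPshMap (pullback.diagonal a).hom) E ≅ BasedFunctor.comp e (diag p) := by
    have h₁ : (pullback.diagonal a).hom ≫ (pullback.fst a a).hom = 𝟙 K.obj :=
      congrArg (fun t : K ⟶ K => t.hom) (pullback.diagonal_fst a)
    have h₂ : (pullback.diagonal a).hom ≫ (pullback.snd a a).hom = 𝟙 K.obj :=
      congrArg (fun t : K ⟶ K => t.hom) (pullback.diagonal_snd a)
    refine fpIsoExtPsh _ _ ?_ ?_
    · exact whiskerRightIso' (eqToIso (by rw [← ofPshMap_comp, h₁, ofPshMap_id]) :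
        BasedFunctor.comp (Stk.ofPshMap (pullback.diagonal a).hom) (Stk.ofPshMap (pullback.fst a a).hom) ≅
          BasedFunctor.id _) e
    · exact whiskerRightIso' (eqToIso (by rw [← ofPshMap_comp, h₂, ofPshMap_id]) :
        BasedFunctor.comp (Stk.ofPshMap (pullback.diagonal a).hom) (Stk.ofPshMap (pullback.snd a a).hom) ≅
          BasedFunctor.id _) e
  refine hPt hK (isAlgSpace_pullback hK hK hU a a) _ fun Z g => ?_
  exact prop_of_along hPb.precomp_iso hp
    ((along_of_square he hE hΔ (Stk.ofPshMap g.hom) _).mp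
      (along_ofPshMap (isPullback_sheaf (IsPullback.of_hasPullback (pullback.diagonal a) g))))

/-- The diagonal has a property as soon as those of the base changes to schemes have it. -/
theorem repByAlgSpWith_diag_of_forall {f : 𝒳 ⥤ᵇ 𝒴}
    (h : ∀ (T : Over S) (y : overCat T ⥤ᵇ 𝒴), AlgSt.RepByAlgSpWith P (diag (FibCat.fpFst y f))) :
    AlgSt.RepByAlgSpWith P (diag f) := by
  intro U u
  let y₀ := BasedFunctor.comp u (FibCat.fpSnd f f)
  let z := BasedFunctor.comp y₀ f
  let lx : overCat U ⥤ᵇ fp z f :=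
    fpLift (BasedFunctor.id _) (BasedFunctor.comp u (FibCat.fpFst f f)) (whiskerLeftIso' u (fpIso f f)).symm
  let ly : overCat U ⥤ᵇ fp z f := fpLift (BasedFunctor.id _) y₀ (Iso.refl _)
  let L : overCat U ⥤ᵇ fp (FibCat.fpFst z f) (FibCat.fpFst z f) := fpLift lx ly (Iso.refl _)
  have hLM : BasedFunctor.comp L (selfMap f z) ≅ u := by
    refine fpIsoExt _ _ (Iso.refl _) (Iso.refl _) fun o => ?_
    change f.map (𝟙 ((BasedFunctor.comp u (FibCat.fpFst f f)).obj o)) ≫ (u.obj o).obj.iso.hom =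
      ((u.obj o).obj.iso.hom ≫ z.map (𝟙 o) ≫ 𝟙 _) ≫ f.map (𝟙 (y₀.obj o))
    simp only [f.toFunctor.map_id, z.toFunctor.map_id]
    erw [Category.comp_id, Category.comp_id, Category.comp_id, Category.id_comp]
  let L' : AlgSt.ofSch U ⥤ᵇ fp (FibCat.fpFst z f) (FibCat.fpFst z f) :=
    BasedFunctor.comp (AlgSt.toOverCat U) L
  obtain ⟨H, a, hH, ha, hPa⟩ := (repByAlgSpWith_iff P _).mp (h U z) U L'
  have h2 := (along_of_square (f := FibCat.fpFst (selfMap f z) (diag f)) (f' := diag (FibCat.fpFst z f))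
    (b := BasedFunctor.id _) (isTwoCartOver_diag_fpFst f z) (isEquivOver_id _) (Iso.refl _) L' _).mp ha
  obtain ⟨k, hk, ⟨κ⟩⟩ := (Along.of_fpFst h2).congr (whiskerLeftIso' (AlgSt.toOverCat U) hLM) (Iso.refl _)
  haveI := full_id (fp f f)
  haveI := faithful_id (fp f f)
  let M := fpMap (a := AlgSt.toOverCat U) (b := BasedFunctor.id 𝒳) (c := BasedFunctor.id (fp f f))
    (F := u) (G := diag f) (F' := BasedFunctor.comp (AlgSt.toOverCat U) u) (G' := diag f) (Iso.refl _) (Iso.refl _)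
  refine ⟨⟨H, hH⟩, BasedFunctor.comp k M,
    isEquivOver_comp hk (isEquivOver_fpMap _ _ (isEquivOver_toOverCat U) (isEquivOver_id _)), ?_⟩
  have e : AlgSt.spMapOfOver (BasedFunctor.comp (BasedFunctor.comp k M) (FibCat.fpFst u (diag f))) = a :=
    (spMapOfOver_eq_iff _ _).mpr ⟨κ⟩
  rw [e]; exact hPa

/-- Properties which are fppf local on the base descend along flat coverings. -/
theorem repByAlgSpWith_of_fppf_cover [IsFibGrpd 𝒳.p] [IsFibGrpd 𝒴.p] [IsFibGrpd 𝒵.p] (hPb : StableBC P)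
    (hP : IsLocalOnBase IsFppfCover P) {f : 𝒳 ⥤ᵇ 𝒴} (hf : AlgSt.RepByAlgSp1 f) {z : 𝒵 ⥤ᵇ 𝒴}
    (hz₁ : AlgSt.RepByAlgSpWith (LocP @Flat) z)
    (hz₂ : AlgSt.RepByAlgSpWith (LocP @LocallyOfFinitePresentation) z)
    (hz₃ : AlgSt.RepByAlgSpWith IsSurjectiveMor z)
    (h : AlgSt.RepByAlgSpWith P (FibCat.fpFst z f)) : AlgSt.RepByAlgSpWith P f := by
  haveI : IsFibGrpd (fp z f).p := isFibGrpd_fp
  refine repByAlgSpWith_of_forall hf fun U u H a hH ha => ?_
  have hU := IsAlgSpace.yon_obj (S := S) U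
  obtain ⟨W, c, hW, hc, hc₁⟩ := (repByAlgSpWith_iff _ z).mp hz₁ U u
  have hc₂ := prop_of_along good_lfp.bc.precomp_iso hz₂ hc
  have hc₃ := prop_of_along good_surjective.bc.precomp_iso hz₃ hc
  have sq := IsPullback.of_hasPullback a c
  have hHW := isAlgSpace_pullback hH hW hU a c
  refine (hP (ι := PUnit.{u + 1}) _ (fun _ => c) hU (fun _ => hW)
    ⟨fun _ => ⟨hc₁, hc₂⟩, fun x => ⟨⟨⟩, hc₃ x⟩⟩ a hH _ (fun _ => pullback.snd a c)
    (fun _ => pullback.fst a c) (fun _ => hHW) (fun _ => sq)).mpr fun _ => ?_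
  obtain ⟨e, he, ⟨β⟩⟩ := hc
  let v : AlgSt.ofSp W ⥤ᵇ 𝒵 := BasedFunctor.comp e (FibCat.fpSnd u z)
  have hv : BasedFunctor.comp v z ≅ BasedFunctor.comp (Stk.ofPshMap c.hom) u :=
    (whiskerLeftIso' e (fpIso u z)).symm ≪≫ whiskerRightIso' β u
  obtain ⟨H', a', hH', ha', hP'⟩ := exists_along_test hPb (schTest_of_fppf hP) h hW v
  obtain ⟨i, hi⟩ := along_hom_unique (ha.of_isPullback (isPullback_sheaf sq))
    ((Along.of_fpFst ha').congr hv (Iso.refl _))
  rw [← hi]
  exact hPb.precomp_iso i a' hH' hW hP'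

/-- Descent of a property of the diagonal along a flat covering of the target. -/
theorem repByAlgSpWith_diag_of_fppf_cover [IsFibGrpd 𝒳.p] [IsFibGrpd 𝒴.p] [IsFibGrpd 𝒵.p] (hPb : StableBC P)
    (hP : IsLocalOnBase IsFppfCover P) {f : 𝒳 ⥤ᵇ 𝒴} (hf : AlgSt.RepByAlgSp1 (diag f)) {w : 𝒵 ⥤ᵇ 𝒴}
    (hw₁ : AlgSt.RepByAlgSpWith (LocP @Flat) w)
    (hw₂ : AlgSt.RepByAlgSpWith (LocP @LocallyOfFinitePresentation) w)
    (hw₃ : AlgSt.RepByAlgSpWith IsSurjectiveMor w)
    (h : AlgSt.RepByAlgSpWith P (diag (FibCat.fpFst w f))) : AlgSt.RepByAlgSpWith P (diag f) := by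
  let q := BasedFunctor.comp (FibCat.fpFst f f) f
  let z₀ := FibCat.fpSnd w q
  let N₁ : fp w q ⥤ᵇ fp w f :=
    fpLift (FibCat.fpFst w q) (BasedFunctor.comp z₀ (FibCat.fpFst f f)) (fpIso w q)
  let N₂ : fp w q ⥤ᵇ fp w f :=
    fpLift (FibCat.fpFst w q) (BasedFunctor.comp z₀ (FibCat.fpSnd f f))
      (fpIso w q ≪≫ whiskerLeftIso' z₀ (fpIso f f))
  let N : fp w q ⥤ᵇ fp (FibCat.fpFst w f) (FibCat.fpFst w f) := fpLift N₁ N₂ (Iso.refl _)
  have hN : BasedFunctor.comp N (selfMap f w) ≅ z₀ := by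
    refine fpIsoExt _ _ (Iso.refl _) (Iso.refl _) fun x => ?_
    change f.map (𝟙 x.obj.snd.obj.fst) ≫ x.obj.snd.obj.iso.hom =
      (x.obj.iso.inv ≫ w.map (𝟙 x.obj.fst) ≫ (x.obj.iso.hom ≫ x.obj.snd.obj.iso.hom)) ≫ f.map (𝟙 x.obj.snd.obj.snd)
    simp only [f.toFunctor.map_id, w.toFunctor.map_id]
    erw [Category.comp_id, Category.id_comp, Category.id_comp, Iso.inv_hom_id_assoc]
  have h1 : AlgSt.RepByAlgSpWith P (FibCat.fpFst (selfMap f w) (diag f)) :=
    (repByAlgSpWith_square_iff (f := FibCat.fpFst (selfMap f w) (diag f)) (f' := diag (FibCat.fpFst w f))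
      (b := BasedFunctor.id _) (isTwoCartOver_diag_fpFst f w) (isEquivOver_id _) (Iso.refl _) P).mpr h
  have h2 : AlgSt.RepByAlgSpWith P (FibCat.fpFst (BasedFunctor.comp N (selfMap f w)) (diag f)) :=
    (repByAlgSpWith_square_iff (f := FibCat.fpFst (BasedFunctor.comp N (selfMap f w)) (diag f))
      (f' := FibCat.fpFst N (FibCat.fpFst (selfMap f w) (diag f))) (b := BasedFunctor.id _)
      (isEquivOver_fpPaste N (selfMap f w) (diag f)) (isEquivOver_id _) (Iso.refl _) P).mpr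
      (repByAlgSpWith_fpFst P N h1)
  haveI := full_id (fp f f)
  haveI := faithful_id (fp f f)
  let M := fpMap (a := BasedFunctor.id (fp w q)) (b := BasedFunctor.id 𝒳) (c := BasedFunctor.id (fp f f))
    (F := z₀) (G := diag f) (F' := BasedFunctor.comp N (selfMap f w)) (G' := diag f) hN.symm (Iso.refl _)
  have h3 : AlgSt.RepByAlgSpWith P (FibCat.fpFst z₀ (diag f)) :=
    (repByAlgSpWith_square_iff (f := FibCat.fpFst z₀ (diag f)) (f' := FibCat.fpFst (BasedFunctor.comp N (selfMap f w)) (diag f))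
      (a := M) (b := BasedFunctor.id _) (isEquivOver_fpMap _ _ (isEquivOver_id _) (isEquivOver_id _))
      (isEquivOver_id _) (Iso.refl _) P).mpr h2
  haveI : IsFibGrpd (fp f f).p := isFibGrpd_fp
  haveI : IsFibGrpd (fp w q).p := isFibGrpd_fp
  exact repByAlgSpWith_of_fppf_cover hPb hP hf (repByAlgSpWith_fpSnd q hw₁) (repByAlgSpWith_fpSnd q hw₂)
    (repByAlgSpWith_fpSnd q hw₃) h3

end AlgStLib
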