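import Groth.Agent.AlgSpLib.SrcDescent
import Groth.Agent.AlgSpLib.SrcScheme
import Groth.Agent.AlgSpLib.LocalST
import Groth.Agent.AlgStLib.Classes

/-!
# Flatness and finiteness are smooth local on source and target
-/

set_option autoImplicit false

universe u

open CategoryTheory CategoryTheory.Limits AlgebraicGeometry AlgSp AlgSpLib

noncomputable section

namespace AlgStLib

variable {S : Scheme.{u}}

/-- Smooth surjective covers of an affine scheme can be refined by one affine scheme. -/
theorem exists_affine_smooth_surjective {X X' : Scheme.{u}} [IsAffine X] (g : X' ⟶ X) [Smooth g] [Surjective g] :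
    ∃ (E : Scheme.{u}) (k : E ⟶ X'), IsAffine E ∧ Smooth k ∧ Surjective (k ≫ g) ∧
      ∀ (P : MorphismProperty Scheme.{u}) [IsZariskiLocalAtSource P] {Y : Scheme.{u}} (h : X' ⟶ Y),
        P h → P (k ≫ h) := by
  choose x' hx' using g.surjective
  choose O hO hxO using fun x : X => exists_isAffineOpen_mem_and_subset (U := ⊤) (x := x' x) trivial
  have hopen : ∀ x, IsOpen (g '' (O x : Set X')) := fun x => g.isOpenMap _ (O x).2
  obtain ⟨t, ht⟩ := isCompact_univ.elim_finite_subcover (fun x : X => g '' (O x : Set X')) hopen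
    (fun x _ => Set.mem_iUnion.2 ⟨x, x' x, (hxO x).1, hx' x⟩)
  let Z : t → Scheme.{u} := fun i => (O i.1).toScheme
  have : ∀ i, IsAffine (Z i) := fun i => hO i.1
  have : Smooth (Sigma.desc fun i : t => (O i.1).ι) :=
    IsZariskiLocalAtSource.sigmaDesc (P := @Smooth) fun i => inferInstance
  refine ⟨∐ Z, Sigma.desc fun i => (O i.1).ι, inferInstance, this, ⟨fun x => ?_⟩, fun P _ Y h hh => ?_⟩
  · obtain ⟨i, hi, y, hy, rfl⟩ := Set.mem_iUnion₂.1 (ht (Set.mem_univ x))
    refine ⟨Sigma.ι Z ⟨i, hi⟩ ⟨y, hy⟩, ?_⟩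
    rw [← Scheme.Hom.comp_apply, Sigma.ι_desc_assoc, Scheme.Hom.comp_apply]
    rfl
  · have : Sigma.desc (fun i : t => (O i.1).ι) ≫ h = Sigma.desc fun i : t => (O i.1).ι ≫ h := by
      ext i; simp
    rw [this]
    exact IsZariskiLocalAtSource.sigmaDesc fun i => IsZariskiLocalAtSource.comp hh _

/-- Descent to the source along a smooth surjection for a property given by ring maps. -/
theorem of_smooth_surjective_comp {P : MorphismProperty Scheme.{u}}
    {Q : ∀ {R S : Type u} [CommRing R] [CommRing S], (R →+* S) → Prop} [HasRingHomProperty P Q]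
    (hQ : ∀ {R A B : Type u} [CommRing R] [CommRing A] [CommRing B] (φ : R →+* A) (ψ : A →+* B),
      ψ.Smooth → ψ.FaithfullyFlat → Q (ψ.comp φ) → Q φ)
    {U U' Y : Scheme.{u}} (g : U' ⟶ U) [Smooth g] [Surjective g] (f : U ⟶ Y) (h : P (g ≫ f)) : P f := by
  have key : ∀ {X Y' X' : Scheme.{u}} [IsAffine X] [IsAffine Y'] (f' : X ⟶ Y') (g' : X' ⟶ X)
      [Smooth g'] [Surjective g'], P (g' ≫ f') → P f' := by
    intro X Y' X' _ _ f' g' _ _ hh
    obtain ⟨E, k, _, _, hk, hloc⟩ := exists_affine_smooth_surjective g'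
    have hE : P (k ≫ g' ≫ f') := hloc P _ hh
    rw [← Category.assoc, HasRingHomProperty.iff_of_isAffine (P := P), Scheme.Hom.comp_appTop,
      CommRingCat.hom_comp] at hE
    rw [HasRingHomProperty.iff_of_isAffine (P := P)]
    refine hQ _ _ ((HasRingHomProperty.iff_of_isAffine (P := @Smooth)).1 inferInstance) ?_ hE
    rw [RingHom.FaithfullyFlat.iff_flat_and_comap_surjective]
    refine ⟨(HasRingHomProperty.iff_of_isAffine (P := @Flat)).1 inferInstance, ?_⟩
    have : Surjective (Spec.map (k ≫ g').appTop) := by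
      have e1 := Scheme.isoSpec_hom_naturality (k ≫ g')
      have : Surjective (E.isoSpec.hom ≫ Spec.map (k ≫ g').appTop) := by
        rw [e1]; infer_instance
      exact .of_comp E.isoSpec.hom _
    exact (Spec.map (k ≫ g').appTop).surjective
  rw [IsZariskiLocalAtTarget.iff_of_openCover (P := P) Y.affineCover]
  intro i
  let c := Y.affineCover.f i
  change P (pullback.snd f c)
  let gA := pullback.snd g (pullback.fst f c)
  have sq : IsPullback (pullback.fst g (pullback.fst f c)) (gA ≫ pullback.snd f c) (g ≫ f) c :=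
    (IsPullback.of_hasPullback g (pullback.fst f c)).paste_vert (IsPullback.of_hasPullback f c)
  have hA : P (gA ≫ pullback.snd f c) := IsZariskiLocalAtTarget.of_isPullback sq h
  rw [IsZariskiLocalAtSource.iff_of_openCover (P := P) (pullback f c).affineCover]
  intro j
  refine key _ (pullback.snd gA ((pullback f c).affineCover.f j)) ?_
  rw [← pullback.condition_assoc]
  exact IsZariskiLocalAtSource.comp hA _

/-- The criterion for a property of schemes to give a smooth local property of spaces. -/
theorem isSmoothLocalST_locP (P : MorphismProperty Scheme.{u}) [EtLocProp P] [P.IsStableUnderComposition]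
    [IsZariskiLocalAtSource P] (hle : (@Smooth : MorphismProperty Scheme.{u}) ≤ P)
    (hd : ∀ {U' U Y : Scheme.{u}} (π : U' ⟶ U) (k : U ⟶ Y), Smooth π → Surjective π → P (π ≫ k) → P k) :
    IsSmoothLocalST (LocP P : MorphismProperty (Sp S)) where
  precomp _ _ _ hX hY hZ _ _ hf hg := locP_comp hX hY hZ (locP_mono hle hf) hg
  baseChange _ _ _ _ hX hY _ hY' _ _ _ _ sq _ hf := locP_of_isPullback hX hY hY' sq hf
  locality X Y hX hY f := by
    refine ⟨fun hf x => ⟨X, Y, 𝟙 X, 𝟙 Y, f, x, hX, hY, AlgSpLib.locP_smooth_id X, AlgSpLib.locP_smooth_id Y,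
      (Category.id_comp f).trans (Category.comp_id f).symm, Points.map_id x, hf⟩, fun H => ?_⟩
    obtain ⟨U₀, p, hp, hps⟩ := hX.atlas
    choose U V a b h v hU hV ha hb e hv hPh using fun u : U₀.left => H (Points.ofPt p u)
    refine locP_of_src_cover P @Smooth (fun π k hπ hs hh => hd π k hπ hs hh) hX hU a ha (fun x => ?_) fun u => ?_
    · obtain ⟨u, rfl⟩ := surjective_ofPt hps x
      exact ⟨u, v u, hv u⟩
    · rw [e u]
      exact locP_comp (hU u) (hV u) hY (hPh u) (locP_mono hle (hb u))

theorem isSmoothLocalST_flat : IsSmoothLocalST (LocP @Flat : MorphismProperty (Sp S)) :=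
  isSmoothLocalST_locP _ (fun _ _ f (_ : Smooth f) => (inferInstance : Flat f)) fun π k _ _ h =>
    flat_of_flat_surjective_comp π k h

theorem isSmoothLocalST_lft : IsSmoothLocalST (LocP @LocallyOfFiniteType : MorphismProperty (Sp S)) :=
  isSmoothLocalST_locP _ (fun _ _ f (_ : Smooth f) => (inferInstance : LocallyOfFiniteType f)) fun π k _ _ h =>
    of_smooth_surjective_comp (P := @LocallyOfFiniteType) (Q := RingHom.FiniteType)
      (fun {R A B} _ _ _ φ ψ h1 h2 h3 => by
        algebraize [φ, ψ, ψ.comp φ]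
        exact finiteType_of_smooth_faithfullyFlat_comp R A B) π k h

theorem isSmoothLocalST_lfp : IsSmoothLocalST (LocP @LocallyOfFinitePresentation : MorphismProperty (Sp S)) :=
  isSmoothLocalST_locP _ (fun _ _ f (_ : Smooth f) => (inferInstance : LocallyOfFinitePresentation f))
    fun π k _ _ h =>
    of_smooth_surjective_comp (P := @LocallyOfFinitePresentation) (Q := RingHom.FinitePresentation)
      (fun {R A B} _ _ _ φ ψ h1 h2 h3 => by
        algebraize [φ, ψ, ψ.comp φ]
        exact finitePresentation_of_smooth_faithfullyFlat_comp R A B) π k h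

end AlgStLib
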