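import Groth.Agent.AlgStLib.Descent

/-!
# Products of functors, atlases and diagonals
-/

set_option autoImplicit false
set_option backward.isDefEq.respectTransparency false
set_option backward.isDefEq.respectTransparency.types false

universe u

open CategoryTheory CategoryTheory.Limits AlgebraicGeometry Opposite AlgSp FibCat FibLib AlgSpLib

namespace AlgStLib

variable {S : Scheme.{u}} {P : MorphismProperty (Sp S)} {𝒳 𝒴 𝒳' 𝒴' 𝒵 : AlgSt.Cat S}
  {K K' : Precoverage Scheme.{u}}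

/-- The diagonal along a square of equivalences. -/
lemma repByAlgSpWith_diag_square_iff {f : 𝒳 ⥤ᵇ 𝒴} {f' : 𝒳' ⥤ᵇ 𝒴'} {a : 𝒳' ⥤ᵇ 𝒳} {b : 𝒴' ⥤ᵇ 𝒴}
    (ha : IsEquivOver a) (hb : IsEquivOver b) (e : BasedFunctor.comp f' b ≅ BasedFunctor.comp a f) :
    AlgSt.RepByAlgSpWith P (diag f) ↔ AlgSt.RepByAlgSpWith P (diag f') := by
  obtain ⟨⟨_, _⟩, -⟩ := (isEquivOver_iff b).mp hb
  let C := fpMap (a := a) (b := a) (c := b) (F := f) (G := f) (F' := f') (G' := f') e.symm e.symm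
  refine repByAlgSpWith_square_iff (f := diag f) (f' := diag f') (a := a) (b := C) ha
    (isEquivOver_fpMap _ _ ha ha) ?_ P
  refine fpIsoExt _ _ (Iso.refl _) (Iso.refl _) fun x => ?_
  change f.map (𝟙 (a.obj x)) ≫ 𝟙 (f.obj (a.obj x)) =
    ((appIso e x).inv ≫ b.map (𝟙 (f'.obj x)) ≫ (appIso e x).hom) ≫ f.map (𝟙 (a.obj x))
  simp only [f.toFunctor.map_id, b.toFunctor.map_id]
  erw [Category.id_comp, Category.comp_id]
  exact ((congrArg ((appIso e x).inv ≫ ·) (Category.id_comp _)).trans (appIso e x).inv_hom_id).symm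

section Pair

variable (a : 𝒳 ⥤ᵇ 𝒳') (b : 𝒴 ⥤ᵇ 𝒴') (p : 𝒳' ⥤ᵇ 𝒵) (q : 𝒴' ⥤ᵇ 𝒵)

/-- `a × id`. -/
def pairLeft : fp (BasedFunctor.comp a p) q ⥤ᵇ fp p q :=
  fpMap (a := a) (b := BasedFunctor.id 𝒴') (c := BasedFunctor.id 𝒵) (F' := BasedFunctor.comp a p) (G' := q)
    (Iso.refl _) (Iso.refl _)

/-- `id × b`. -/
def pairRight : fp p (BasedFunctor.comp b q) ⥤ᵇ fp p q :=
  fpMap (a := BasedFunctor.id 𝒳') (b := b) (c := BasedFunctor.id 𝒵) (F' := p) (G' := BasedFunctor.comp b q)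
    (Iso.refl _) (Iso.refl _)

/-- `a × b`. -/
def pairBoth : fp (BasedFunctor.comp a p) (BasedFunctor.comp b q) ⥤ᵇ fp p q :=
  fpMap (a := a) (b := b) (c := BasedFunctor.id 𝒵) (F' := BasedFunctor.comp a p) (G' := BasedFunctor.comp b q)
    (Iso.refl _) (Iso.refl _)

/-- `(a × id)` after `(id × b)` is `a × b`. -/
def pairBothIso :
    BasedFunctor.comp (pairRight b (BasedFunctor.comp a p) q) (pairLeft a p q) ≅ pairBoth a b p q :=
  fpIsoExt _ _ (Iso.refl _) (Iso.refl _) fun x => by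
    change p.map (𝟙 _) ≫ 𝟙 _ ≫ x.obj.iso.hom ≫ 𝟙 _ =
      (𝟙 _ ≫ (𝟙 _ ≫ x.obj.iso.hom ≫ 𝟙 _) ≫ 𝟙 _) ≫ q.map (𝟙 _)
    simp only [p.toFunctor.map_id, q.toFunctor.map_id]
    erw [Category.id_comp, Category.id_comp, Category.id_comp, Category.comp_id, Category.comp_id, Category.comp_id]

/-- `a × id` is a base change of `a`. -/
def pairLeftIso : BasedFunctor.comp (fpSnd a (fpFst p q)) (BasedFunctor.id (fp p q)) ≅
    BasedFunctor.comp (fpPaste a p q) (pairLeft a p q) :=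
  fpIsoExt _ _ (fpIso a (fpFst p q)).symm (Iso.refl _) fun x => by
    change p.map x.obj.iso.inv ≫ 𝟙 _ ≫ ((fpPaste a p q).obj x).obj.iso.hom ≫ 𝟙 _ =
      x.obj.snd.obj.iso.hom ≫ q.map (𝟙 _)
    rw [fpPaste_obj_iso]
    simp only [q.toFunctor.map_id]
    erw [Category.id_comp, Category.comp_id, Category.comp_id]
    exact (p.toFunctor.map_comp_assoc _ _ _).symm.trans (by
      rw [x.obj.iso.inv_hom_id, p.toFunctor.map_id]; exact Category.id_comp _)

theorem repByAlgSpWith_pairLeft (ha : AlgSt.RepByAlgSpWith P a) :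
    AlgSt.RepByAlgSpWith P (pairLeft a p q) :=
  (repByAlgSpWith_square_iff (f := pairLeft a p q) (f' := fpSnd a (fpFst p q))
    (a := fpPaste a p q) (b := BasedFunctor.id _)
    (isEquivOver_fpPaste a p q) (isEquivOver_id _) (pairLeftIso a p q) P).mpr
    (repByAlgSpWith_fpSnd (fpFst p q) ha)

/-- `id × b` is a base change of `b`. -/
def pairRightIso : BasedFunctor.comp (fpFst (fpSnd p q) b) (BasedFunctor.id (fp p q)) ≅
    BasedFunctor.comp (fpCompRight p b q) (pairRight b p q) :=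
  fpIsoExt _ _ (Iso.refl _) (fpIso (fpSnd p q) b) fun x => by
    change p.map (𝟙 _) ≫ 𝟙 _ ≫ (x.obj.fst.obj.iso.hom ≫ q.map x.obj.iso.hom) ≫ 𝟙 _ =
      x.obj.fst.obj.iso.hom ≫ q.map x.obj.iso.hom
    simp only [p.toFunctor.map_id]
    erw [Category.id_comp, Category.id_comp, Category.comp_id]

theorem repByAlgSpWith_pairRight (hb : AlgSt.RepByAlgSpWith P b) :
    AlgSt.RepByAlgSpWith P (pairRight b p q) :=
  (repByAlgSpWith_square_iff (f := pairRight b p q) (f' := FibCat.fpFst (fpSnd p q) b)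
    (a := fpCompRight p b q) (b := BasedFunctor.id _)
    (isEquivOver_fpCompRight p b q) (isEquivOver_id _) (pairRightIso b p q) P).mpr
    (repByAlgSpWith_fpFst P (fpSnd p q) hb)

theorem repByAlgSpWith_pairBoth [IsFibGrpd 𝒳.p] [IsFibGrpd 𝒴.p] [IsFibGrpd 𝒳'.p] [IsFibGrpd 𝒴'.p]
    [IsFibGrpd 𝒵.p] (hP : Good P) (ha : AlgSt.RepByAlgSpWith P a) (hb : AlgSt.RepByAlgSpWith P b) :
    AlgSt.RepByAlgSpWith P (pairBoth a b p q) := by
  haveI : IsFibGrpd (fp (BasedFunctor.comp a p) (BasedFunctor.comp b q)).p := isFibGrpd_fp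
  haveI : IsFibGrpd (fp (BasedFunctor.comp a p) q).p := isFibGrpd_fp
  exact repByAlgSpWith_congr (pairBothIso a b p q) (repByAlgSpWith_comp' hP
    (repByAlgSpWith_pairRight b (BasedFunctor.comp a p) q hb) (repByAlgSpWith_pairLeft a p q ha))

theorem repByAlgSpWith_diag_pairBoth [IsFibGrpd 𝒳.p] [IsFibGrpd 𝒴.p] [IsFibGrpd 𝒳'.p] [IsFibGrpd 𝒴'.p]
    [IsFibGrpd 𝒵.p] (hP : Good P) (ha : AlgSt.RepByAlgSpWith P (diag a))
    (hb : AlgSt.RepByAlgSpWith P (diag b)) : AlgSt.RepByAlgSpWith P (diag (pairBoth a b p q)) := by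
  haveI : IsFibGrpd (fp (BasedFunctor.comp a p) (BasedFunctor.comp b q)).p := isFibGrpd_fp
  haveI : IsFibGrpd (fp (BasedFunctor.comp a p) q).p := isFibGrpd_fp
  refine repByAlgSpWith_diag_congr (pairBothIso a b p q).symm (repByAlgSpWith_diag_comp hP ?_ ?_)
  · exact (repByAlgSpWith_diag_square_iff (f := pairRight b (BasedFunctor.comp a p) q)
      (a := fpCompRight _ b q) (b := BasedFunctor.id _) (isEquivOver_fpCompRight _ b q) (isEquivOver_id _)
      (pairRightIso b _ q)).mpr (repByAlgSpWith_diag_fpFst b (fpSnd _ q) hb)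
  · refine (repByAlgSpWith_diag_square_iff (f := pairLeft a p q) (a := fpPaste a p q) (b := BasedFunctor.id _)
      (isEquivOver_fpPaste a p q) (isEquivOver_id _) (pairLeftIso a p q)).mpr ?_
    exact (repByAlgSpWith_diag_square_iff (f := FibCat.fpFst (fpFst p q) a)
      (a := fpSwap a (fpFst p q)) (b := BasedFunctor.id _) (isEquivOver_fpSwap a (fpFst p q)) (isEquivOver_id _)
      (Iso.refl _)).mp (repByAlgSpWith_diag_fpFst a (fpFst p q) ha)

end Pair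

section Atlas

/-- The final object of schemes over `S` represents the trivial stack. -/
lemma repByAlgSp_selfOver : AlgSt.RepByAlgSp (selfOver (Over S)) := by
  let T : Over S := Over.mk (𝟙 S)
  haveI : (toSelf (overCat T)).toFunctor.Faithful :=
    ⟨fun {a b f g} h => Over.OverMorphism.ext h⟩
  haveI : (toSelf (overCat T)).toFunctor.Full := ⟨fun {a b} f => by
    refine ⟨Over.homMk f ?_, rfl⟩
    apply Over.OverMorphism.ext
    have h1 := Over.w a.hom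
    have h2 := Over.w b.hom
    have h3 := Over.w f
    change f.left ≫ b.hom.left = a.hom.left
    have ha : a.hom.left = a.left.hom := by simpa [T] using h1
    have hb : b.hom.left = b.left.hom := by simpa [T] using h2
    rw [ha, hb]
    exact h3⟩
  have h : IsEquivOver (toSelf (overCat T)) := by
    refine isEquivOver_of_vertEssSurj _ fun W => ⟨Over.mk (Over.homMk W.hom (Category.comp_id _) : W ⟶ T), Iso.refl _, ?_⟩
    exact IsHomLift.id rfl
  exact RepByAlgSp.of_equivTo (EquivTo.symm ⟨_, h⟩) (repByAlgSp_overCat T)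

lemma repByAlgSp1_comp_toSelf (hX : AlgSt.RepByAlgSp 𝒳) (w : 𝒳 ⥤ᵇ 𝒴) :
    AlgSt.RepByAlgSp1 (BasedFunctor.comp w (toSelf 𝒴)) :=
  repByAlgSp1_of_repByAlgSp hX repByAlgSp_selfOver _

lemma isLocalOnBase_fppf_of_fpqc (h : IsLocalOnBase IsFpqcCover P) : IsLocalOnBase IsFppfCover P :=
  fun _ _ Yi g hY hYi hτ _ f hX Xi p q hXi sq =>
    h Yi g hY hYi (isFpqcCover_of_isFppfCover hY hYi hτ) f hX Xi p q hXi sq

/-- A property of the projection of `W ×_X W` descends to the diagonal of `X`. -/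
theorem repByAlgSpWith_diag_toSelf_of_cover [IsFibGrpd 𝒳.p] (hPb : StableBC P)
    (hP : IsLocalOnBase IsFppfCover P)
    (hc : ∀ ⦃X Y Z : Sp S⦄, IsAlgSpace X → IsAlgSpace Y → IsAlgSpace Z →
      ∀ (a : X ⟶ Y) (b : Y ⟶ Z), P (a ≫ b) → P a)
    (hΔ : AlgSt.RepByAlgSp1 (diag (toSelf 𝒳))) (hW : AlgSt.RepByAlgSp 𝒵) (w : 𝒵 ⥤ᵇ 𝒳)
    (hw₁ : AlgSt.RepByAlgSpWith (LocP @Flat) w)
    (hw₂ : AlgSt.RepByAlgSpWith (LocP @LocallyOfFinitePresentation) w)
    (hw₃ : AlgSt.RepByAlgSpWith IsSurjectiveMor w) (hw : AlgSt.RepByAlgSpWith P w) :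
    AlgSt.RepByAlgSpWith P (diag (toSelf 𝒳)) := by
  haveI := isFibGrpd_of_repByAlgSp hW
  haveI := isFibGrpd_of_repByAlgSp (repByAlgSp_selfOver (S := S))
  haveI : IsFibGrpd (fp (toSelf 𝒳) (toSelf 𝒳)).p := isFibGrpd_fp
  let p := BasedFunctor.comp w (toSelf 𝒳)
  haveI : IsFibGrpd (fp p p).p := isFibGrpd_fp
  refine repByAlgSpWith_of_fppf_cover hPb hP hΔ (z := pairBoth w w (toSelf 𝒳) (toSelf 𝒳))
    (repByAlgSpWith_pairBoth w w _ _ good_flat hw₁ hw₁) (repByAlgSpWith_pairBoth w w _ _ good_lfp hw₂ hw₂)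
    (repByAlgSpWith_pairBoth w w _ _ good_surjective hw₃ hw₃) ?_
  have h1 : AlgSt.RepByAlgSpWith P (fpPush w w (toSelf 𝒳)) :=
    repByAlgSpWith_of_comp hPb (Q := ⊤) (G := FibCat.fpFst p p)
      (repByAlgSpWith_fpFst P w hw)
      (repByAlgSpWith_fpFst ⊤ p ((repByAlgSp1_iff_with_top _).mp (repByAlgSp1_comp_toSelf hW w)))
      fun _ _ _ h₁ h₂ h₃ a b hab _ => hc h₁ h₂ h₃ a b hab
  exact (repByAlgSpWith_square_iff (f := FibCat.fpFst (fpPair w w (toSelf 𝒳)) (diag (toSelf 𝒳)))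
    (f' := fpPush w w (toSelf 𝒳)) (b := BasedFunctor.id _) (isEquivOver_fpMagic w w (toSelf 𝒳))
    (isEquivOver_id _) (Iso.refl _) P).mpr h1

/-- The diagonal of an algebraic stack is locally of finite type. -/
theorem repByAlgSpWith_lft_diag_toSelf (h : AlgSt.IsAlgStack K 𝒳) :
    AlgSt.RepByAlgSpWith (LocP @LocallyOfFiniteType) (diag (toSelf 𝒳)) := by
  haveI := isFibGrpd_of_isAlgStack h
  obtain ⟨U, x, hx, hxs⟩ := h.atlas
  have m : ∀ (Q : MorphismProperty Scheme.{u}), (@Smooth : MorphismProperty Scheme.{u}) ≤ Q →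
      AlgSt.RepByAlgSpWith (LocP Q) x := fun Q hQ =>
    repByAlgSpWith_mono (fun _ _ a _ _ ha => locP_mono hQ ha) hx
  refine repByAlgSpWith_diag_toSelf_of_cover good_lft.bc
    (isLocalOnBase_fppf_of_fpqc (isLocalOnBase_fpqc_locP_of_descendsAlong S @LocallyOfFiniteType))
    (fun _ _ _ h₁ h₂ h₃ _ _ hab => locP_of_comp lft_of_comp h₁ h₂ h₃ hab) h.diag (repByAlgSp_overCat U) x
    (m _ fun _ _ f hf => ?_) (m _ fun _ _ f hf => ?_) hxs (m _ fun _ _ f hf => ?_)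
  · haveI : Smooth f := hf
    exact (inferInstance : Flat f)
  · haveI : Smooth f := hf
    exact (inferInstance : LocallyOfFinitePresentation f)
  · haveI : Smooth f := hf
    exact (inferInstance : LocallyOfFiniteType f)

/-- The diagonal of a morphism of algebraic stacks is locally of finite type. -/
theorem repByAlgSpWith_lft_diag (h𝒳 : AlgSt.IsAlgStack K 𝒳) (h𝒴 : AlgSt.IsAlgStack K' 𝒴) (f : 𝒳 ⥤ᵇ 𝒴) :
    AlgSt.RepByAlgSpWith (LocP @LocallyOfFiniteType) (diag f) :=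
  repByAlgSpWith_diag_of_comp good_lft.bc
    (repByAlgSpWith_diag_congr (compToSelfIso f) (repByAlgSpWith_lft_diag_toSelf h𝒳))
    (repByAlgSpWith_lft_diag_toSelf h𝒴)
    fun _ _ _ h₁ h₂ h₃ _ _ hab _ => locP_of_comp lft_of_comp h₁ h₂ h₃ hab

end Atlas

section Tfae

variable {f : 𝒳 ⥤ᵇ 𝒴}

lemma isClosedImm_diag_of_separated (hf : AlgSt.RepByAlgSpWith IsSeparatedMor f) : AlgSt.IsClosedImm (diag f) :=
  repByAlgSpWith_diag_of_rep (good_repWith @IsClosedImmersion).bc hf fun _ _ _ _ ha => ha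

lemma repByAlgSpWith_qs_of_rep (hf : AlgSt.RepByAlgSp1 f) :
    AlgSt.RepByAlgSpWith IsQuasiSeparatedMor (diag f) :=
  repByAlgSpWith_diag_of_rep1 good_qs.bc hf fun _ _ a hK => by
    haveI := prop_diagonal_mono hK a
    exact repWith_of_isIso _

theorem tfae_separated (hf : AlgSt.RepByAlgSp1 f) :
    [AlgSt.RepByAlgSpWith IsSeparatedMor f, AlgSt.IsClosedImm (diag f),
      AlgSt.IsSeparatedMor f, AlgSt.RepByAlgSpWith IsUnivClosedMor (diag f)].TFAE := by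
  tfae_have 1 → 2 := isClosedImm_diag_of_separated
  tfae_have 2 → 3 := repByAlgSpWith_mono fun _ _ _ hH hG h => isProperMor_of_closedImmersion hH hG h
  tfae_have 3 → 4 := repByAlgSpWith_mono fun _ _ _ _ _ h => h.2.2
  tfae_have 4 → 1 := fun h => by
    refine repByAlgSpWith_of_forall hf fun U u H a hH ha => ?_
    have hd := prop_diagonal_of_diag (P := IsUnivClosedMor)
      (fun _ _ _ _ _ _ _ _ _ _ _ _ sq h => univSp_of_isPullback sq h)
      (schTest_of_fpqc (isLocalOnBase_fpqc_univSp S descends_isClosedMor qdescends_isClosedMor)) h hH ha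
    obtain ⟨-, h₁, -, -, h₂⟩ := repWith_diagonal_properties hH a
    exact isClosedImmersion_of_univClosed_mono h₂ h₁ hd
  tfae_finish

theorem isQuasiSeparatedMor_iff_qc (hf : AlgSt.RepByAlgSp1 f) :
    AlgSt.IsQuasiSeparatedMor f ↔ AlgSt.RepByAlgSpWith IsQuasiCompactMor (diag f) :=
  ⟨repByAlgSpWith_mono fun _ _ _ _ _ h => h.1,
    fun h => repByAlgSpWith_inf good_qs.bc.precomp_iso h (repByAlgSpWith_qs_of_rep hf)⟩

theorem tfae_quasiSeparated (hf : AlgSt.RepByAlgSp1 f) :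
    [AlgSt.RepByAlgSpWith IsQuasiSeparatedMor f,
      AlgSt.RepByAlgSpWith IsQuasiCompactMor (diag f),
      AlgSt.RepByAlgSpWith IsFiniteTypeMor (diag f)].TFAE := by
  tfae_have 1 → 2 := fun h => repByAlgSpWith_diag_of_rep good_qc.bc h fun K U a hK ha =>
    isQuasiCompactMor_of_repWith hK (isAlgSpace_pullback hK hK (IsAlgSpace.yon_obj U) a a) ha
  tfae_have 2 → 3 := fun h => repByAlgSpWith_inf good_qc.bc.precomp_iso
    (repByAlgSpWith_diag_of_rep1 good_lft.bc hf fun _ _ a hK =>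
      locP_of_repWith (repWith_diagonal_properties hK a).2.1) h
  tfae_have 3 → 1 := fun h => by
    refine repByAlgSpWith_of_forall hf fun U u H a hH ha => ?_
    have hd := prop_diagonal_of_diag good_qc.bc good_qc.test
      (repByAlgSpWith_mono (fun _ _ _ _ _ h => h.2) h) hH ha
    exact (repWith_quasiCompact_iff hH (isAlgSpace_pullback hH hH (IsAlgSpace.yon_obj U) a a)
      (repWith_diagonal_properties hH a).1).2 hd
  tfae_finish

theorem isQuasiSeparatedMor_iff_rep (hf : AlgSt.RepByAlgSp1 f) :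
    AlgSt.IsQuasiSeparatedMor f ↔ AlgSt.RepByAlgSpWith IsQuasiSeparatedMor f :=
  (isQuasiSeparatedMor_iff_qc hf).trans (((tfae_quasiSeparated hf).out 0 1).symm)

theorem isQuasiSeparatedMor_iff_diag_diag (h𝒳 : AlgSt.IsAlgStack K 𝒳) (h𝒴 : AlgSt.IsAlgStack K' 𝒴) :
    AlgSt.IsQuasiSeparatedMor f ↔ AlgSt.RepByAlgSpWith IsQuasiCompactMor (diag f) ∧
      AlgSt.RepByAlgSpWith IsQuasiCompactMor (diag (diag f)) := by
  have hΔ := repByAlgSp1_diag h𝒳 h𝒴 f
  have e := (tfae_quasiSeparated hΔ).out 0 1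
  constructor
  · intro h
    exact ⟨repByAlgSpWith_mono (fun _ _ _ _ _ h => h.1) h, e.mp (repByAlgSpWith_mono (fun _ _ _ _ _ h => h.2) h)⟩
  · rintro ⟨h1, h2⟩
    exact repByAlgSpWith_inf good_qs.bc.precomp_iso h1 (e.mpr h2)

end Tfae

lemma repByAlgSpWith_iff_space [IsFibGrpd 𝒳.p] [IsFibGrpd 𝒴.p] (hPb : StableBC P) (hP : SchTest P) {f : 𝒳 ⥤ᵇ 𝒴} :
    AlgSt.RepByAlgSpWith P f ↔
      ∀ (Z : AlgSp.Space S) (z : AlgSt.ofSp Z.obj ⥤ᵇ 𝒴),
        ∃ (V : AlgSp.Space S) (a : V ⟶ Z) (e : AlgSt.ofSp V.obj ⥤ᵇ FibCat.fp z f),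
          FibCat.IsEquivOver e ∧
            Nonempty (BasedFunctor.comp e (FibCat.fpFst z f) ≅ AlgSt.ofSpMap a.hom) ∧ P a.hom := by
  constructor
  · intro h Z z
    obtain ⟨H, a, hH, ⟨e, he, hα⟩, hPa⟩ := exists_along_test hPb hP h Z.property z
    exact ⟨⟨H, hH⟩, ObjectProperty.homMk a, e, he, hα, hPa⟩
  · intro h
    rw [repByAlgSpWith_iff]
    intro U u
    obtain ⟨V, a, e, he, hα, hPa⟩ := h ⟨(yon S).obj U, IsAlgSpace.yon_obj U⟩ u
    exact ⟨V.obj, a.hom, V.property, ⟨e, he, hα⟩, hPa⟩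

section Product

variable {S : Scheme.{u}} {𝒳 𝒴 𝒳' 𝒴' 𝒵 : AlgSt.Cat S}

/-- The map induced on fibre products, with its given 2-isomorphism, is `a × b`. -/
def fpLiftPairBothIso (p' : 𝒳' ⥤ᵇ 𝒵) (q' : 𝒴' ⥤ᵇ 𝒵) (f : 𝒳 ⥤ᵇ 𝒳') (g : 𝒴 ⥤ᵇ 𝒴')
    (e : BasedFunctor.comp (BasedFunctor.comp (FibCat.fpFst (BasedFunctor.comp f p') (BasedFunctor.comp g q')) f) p' ≅
      BasedFunctor.comp (BasedFunctor.comp (FibCat.fpSnd (BasedFunctor.comp f p') (BasedFunctor.comp g q')) g) q')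
    (he : ∀ x, e.hom.toNatTrans.app x = x.obj.iso.hom) :
    fpLift (BasedFunctor.comp (FibCat.fpFst (BasedFunctor.comp f p') (BasedFunctor.comp g q')) f)
      (BasedFunctor.comp (FibCat.fpSnd (BasedFunctor.comp f p') (BasedFunctor.comp g q')) g) e ≅
      pairBoth f g p' q' :=
  fpIsoExt _ _ (Iso.refl _) (Iso.refl _) fun x => by
    change p'.map (𝟙 _) ≫ 𝟙 _ ≫ x.obj.iso.hom ≫ 𝟙 _ = e.hom.toNatTrans.app x ≫ q'.map (𝟙 _)
    rw [he, p'.toFunctor.map_id, q'.toFunctor.map_id]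
    erw [Category.id_comp, Category.id_comp]
    rfl

end Product

end AlgStLib
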