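import Groth.Agent.AlgSpLib.FpqcMore
import Mathlib.AlgebraicGeometry.Morphisms.Immersion

/-!
# Immersions descend along fppf morphisms
-/

set_option autoImplicit false

universe u

open CategoryTheory CategoryTheory.Limits AlgebraicGeometry

namespace AlgStLib

instance descendsAlong_isImmersion :
    MorphismProperty.DescendsAlong (@IsImmersion : MorphismProperty Scheme.{u})
      (@Surjective ⊓ @Flat ⊓ @LocallyOfFinitePresentation) := by
  refine MorphismProperty.DescendsAlong.mk' fun {X Y Z} f g _ hf hg => ?_
  obtain ⟨⟨hs, hfl⟩, hp⟩ := id hf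
  haveI : Surjective f := hs
  haveI : Flat f := hfl
  haveI : LocallyOfFinitePresentation f := hp
  haveI : IsImmersion (pullback.fst f g) := hg
  have hrange : Set.range (pullback.fst f g) = f ⁻¹' Set.range g := Scheme.Pullback.range_fst f g
  have hlc : IsOpen (coborder (Set.range g)) := by
    rw [← (IsOpenMap.isQuotientMap f.isOpenMap f.continuous f.surjective).isOpen_preimage,
      ← coborder_preimage f.isOpenMap f.continuous, ← hrange]
    exact (pullback.fst f g).isLocallyClosed_range.isOpen_coborder
  let U : Z.Opens := ⟨coborder (Set.range g), hlc⟩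
  have hsub : Set.range g ⊆ Set.range U.ι := by rw [U.range_ι]; exact subset_coborder
  let g' := IsOpenImmersion.lift U.ι g hsub
  have hfac : g' ≫ U.ι = g := IsOpenImmersion.lift_fac _ _ _
  let f' := pullback.snd f U.ι
  have sq : IsPullback (pullback.fst f g) (pullback.snd f g) f (g' ≫ U.ι) := by
    rw [hfac]; exact IsPullback.of_hasPullback f g
  let a : pullback f g ⟶ pullback f U.ι :=
    (IsPullback.of_hasPullback f U.ι).lift (pullback.fst f g) (pullback.snd f g ≫ g')
      (by rw [Category.assoc]; exact sq.w)
  have sq' : IsPullback a (pullback.snd f g) f' g' := by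
    refine IsPullback.of_right ?_ ?_ (IsPullback.of_hasPullback f U.ι)
    · rw [IsPullback.lift_fst]; exact sq
    · exact IsPullback.lift_snd _ _ _ _
  haveI : IsImmersion a := by
    haveI : IsImmersion (a ≫ pullback.fst f U.ι) := by rw [IsPullback.lift_fst]; infer_instance
    exact IsImmersion.of_comp a (pullback.fst f U.ι)
  have hclosed : IsClosed (Set.range a) := by
    have h1 : Set.range a = (pullback.fst f U.ι) ⁻¹' Set.range (pullback.fst f g) := by
      have e : ∀ y, pullback.fst f U.ι (a y) = pullback.fst f g y := fun y => by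
        rw [← Scheme.Hom.comp_apply, IsPullback.lift_fst]
      ext x
      constructor
      · rintro ⟨y, rfl⟩; exact ⟨y, (e y).symm⟩
      · rintro ⟨y, hy⟩
        exact ⟨y, (pullback.fst f U.ι).isOpenEmbedding.injective (by rw [e, hy])⟩
    have hU : IsClosed (U.ι ⁻¹' Set.range g) := isClosed_preimage_val_coborder
    have h2 : Set.range a = f' ⁻¹' (U.ι ⁻¹' Set.range g) := by
      rw [h1, hrange, ← Set.preimage_comp, ← Set.preimage_comp]
      congr 1
      funext x
      change f (pullback.fst f U.ι x) = U.ι (f' x)
      rw [← Scheme.Hom.comp_apply, pullback.condition, Scheme.Hom.comp_apply]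
    rw [h2]
    exact hU.preimage f'.continuous
  haveI : IsClosedImmersion a := IsClosedImmersion.of_isPreimmersion a hclosed
  have hf' : (@Surjective ⊓ @Flat ⊓ @LocallyOfFinitePresentation : MorphismProperty Scheme.{u}) f' :=
    ⟨⟨(inferInstance : Surjective (pullback.snd f U.ι)), (inferInstance : Flat (pullback.snd f U.ι))⟩,
      (inferInstance : LocallyOfFinitePresentation (pullback.snd f U.ι))⟩
  haveI : IsClosedImmersion g' := MorphismProperty.of_isPullback_of_descendsAlong
    (P := @IsClosedImmersion) (Q := @Surjective ⊓ @Flat ⊓ @LocallyOfFinitePresentation) sq' hf' inferInstance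
  rw [← hfac]
  infer_instance

end AlgStLib
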