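import Groth.Agent.FibLib.RepMor

/-!
# Cartesian squares around diagonals, for categories over a category
-/

set_option autoImplicit false
set_option backward.isDefEq.respectTransparency false
set_option backward.isDefEq.respectTransparency.types false

universe v₁ u₁ v₂ u₂ v₃ u₃ v₄ u₄ v₅ u₅ v u

open CategoryTheory FibCat FibLib

namespace AlgStLib

variable {C : Type u} [Category.{v} C] {𝒳 : BasedCategory.{v₁, u₁} C} {𝒴 : BasedCategory.{v₂, u₂} C}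
  {𝒵 : BasedCategory.{v₃, u₃} C} {𝒲 : BasedCategory.{v₄, u₄} C} {𝒯 : BasedCategory.{v₅, u₅} C}

section Ext

variable {F : 𝒳 ⥤ᵇ 𝒵} {G : 𝒴 ⥤ᵇ 𝒵} (K L : 𝒲 ⥤ᵇ fp F G)
  (i₁ : BasedFunctor.comp K (fpFst F G) ≅ BasedFunctor.comp L (fpFst F G))
  (i₂ : BasedFunctor.comp K (fpSnd F G) ≅ BasedFunctor.comp L (fpSnd F G))

/-- Functors into a fibre product are isomorphic when their components are, compatibly. -/
def fpIsoExt (w : ∀ x, F.map (appIso i₁ x).hom ≫ (L.obj x).obj.iso.hom =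
    (K.obj x).obj.iso.hom ≫ G.map (appIso i₂ x).hom) : K ≅ L :=
  BasedNatIso.mkNatIso (NatIso.ofComponents
    (fun x => fpIsoMk (x := K.obj x) (y := L.obj x) (appIso i₁ x) (appIso i₂ x) (w x))
    (fun m => fp_hom_ext (appIso_naturality i₁ m) (appIso_naturality i₂ m)))
    (fun x => by
      have h := appIso_lift i₁ (a := x) (S := 𝒲.p.obj x) rfl
      exact IsHomLift.of_fac _ _ _ (K.w_obj x) (L.w_obj x)
        (@IsHomLift.fac _ _ _ _ 𝒳.p _ _ _ _ (𝟙 (𝒲.p.obj x)) (appIso i₁ x).hom h))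

end Ext

@[simp] lemma appIso_refl (F : 𝒳 ⥤ᵇ 𝒴) (x : 𝒳.obj) : (appIso (Iso.refl F) x).hom = 𝟙 (F.obj x) := rfl

section Graph

variable (g : 𝒳 ⥤ᵇ 𝒴)

/-- `𝒳 ≅ 𝒳 ×_𝒴 𝒴`. -/
def fpGraph : 𝒳 ⥤ᵇ fp g (BasedFunctor.id 𝒴) := fpLift (BasedFunctor.id 𝒳) g (Iso.refl _)

/-- The comparison `fpFst ⋙ g ≅ fpSnd` on `𝒳 ×_𝒴 𝒴`. -/
def fpGraphIso : BasedFunctor.comp (fpFst g (BasedFunctor.id 𝒴)) g ≅ fpSnd g (BasedFunctor.id 𝒴) :=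
  fpIso g (BasedFunctor.id 𝒴)

lemma isEquivOver_fpGraph : IsEquivOver (fpGraph g) := by
  refine ⟨fpFst g (BasedFunctor.id 𝒴), ⟨Iso.refl _⟩, ⟨?_⟩⟩
  refine fpIsoExt _ _ (Iso.refl _) (fpGraphIso g) fun x => ?_
  change g.map (𝟙 _) ≫ x.obj.iso.hom = 𝟙 _ ≫ x.obj.iso.hom
  rw [g.toFunctor.map_id]

end Graph

section Diag

variable (f : 𝒳 ⥤ᵇ 𝒴)

/-- The map `𝒯 ×_𝒴 𝒳 ⟶ 𝒯 ×_𝒵 𝒳`. -/
def fpPush (a : 𝒯 ⥤ᵇ 𝒴) (b : 𝒳 ⥤ᵇ 𝒴) (g : 𝒴 ⥤ᵇ 𝒵) :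
    fp a b ⥤ᵇ fp (BasedFunctor.comp a g) (BasedFunctor.comp b g) :=
  BasedFunctor.comp (fpMagic a b g) (fpFst _ _)

lemma fpPush_obj_iso (a : 𝒯 ⥤ᵇ 𝒴) (b : 𝒳 ⥤ᵇ 𝒴) (g : 𝒴 ⥤ᵇ 𝒵) (x : (fp a b).obj) :
    ((fpPush a b g).obj x).obj.iso.hom = g.map x.obj.iso.hom := rfl

/-- The diagonal of a composite. -/
def diagCompIso (g : 𝒴 ⥤ᵇ 𝒵) :
    diag (BasedFunctor.comp f g) ≅ BasedFunctor.comp (diag f) (fpPush f f g) :=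
  fpIsoExt _ _ (Iso.refl _) (Iso.refl _) fun x => by
    change g.map (f.map (𝟙 x)) ≫ g.map (𝟙 (f.obj x)) = 𝟙 _ ≫ g.map (f.map (𝟙 x))
    simp only [f.toFunctor.map_id, g.toFunctor.map_id]

variable (g : 𝒵 ⥤ᵇ 𝒴)

/-- The map of self fibre products of a base change. -/
def selfMap : fp (fpFst g f) (fpFst g f) ⥤ᵇ fp f f :=
  fpMap (a := fpSnd g f) (b := fpSnd g f) (c := g) (fpIso g f).symm (fpIso g f).symm

lemma selfMap_obj_iso (ξ : (fp (fpFst g f) (fpFst g f)).obj) :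
    ((selfMap f g).obj ξ).obj.iso.hom =
      ξ.obj.fst.obj.iso.inv ≫ g.map ξ.obj.iso.hom ≫ ξ.obj.snd.obj.iso.hom := rfl

/-- The square of diagonals of a base change commutes. -/
def diagBcIso : BasedFunctor.comp (diag (fpFst g f)) (selfMap f g) ≅ BasedFunctor.comp (fpSnd g f) (diag f) :=
  fpIsoExt _ _ (Iso.refl _) (Iso.refl _) fun w => by
    change f.map (𝟙 w.obj.snd) ≫ 𝟙 (f.obj w.obj.snd) =
      (w.obj.iso.inv ≫ g.map (𝟙 w.obj.fst) ≫ w.obj.iso.hom) ≫ f.map (𝟙 w.obj.snd)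
    simp only [f.toFunctor.map_id, g.toFunctor.map_id, Category.id_comp]
    exact (Category.comp_id _).symm.trans (congrArg (· ≫ 𝟙 _) w.obj.iso.inv_hom_id.symm)

lemma diagBcIso_app (w : (fp g f).obj) :
    (appIso (diagBcIso f g) w).hom.hom.fst = 𝟙 w.obj.snd ∧ (appIso (diagBcIso f g) w).hom.hom.snd = 𝟙 w.obj.snd :=
  ⟨rfl, rfl⟩

/-- The diagonal of a base change is a base change of the diagonal. -/
theorem isTwoCartOver_diag_fpFst :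
    IsTwoCartOver (diag (fpFst g f)) (fpSnd g f) (diagBcIso f g) := by
  set Φ := fpLift (diag (fpFst g f)) (fpSnd g f) (diagBcIso f g)
  haveI : Φ.toFunctor.Faithful := ⟨fun {x y φ ψ} h => congrArg (fun t => t.hom.fst.hom.fst) h⟩
  haveI : Φ.toFunctor.Full := ⟨fun {x y} φ => by
    have hA : φ.hom.fst.hom.fst.hom.fst ≫ 𝟙 y.obj.fst = 𝟙 x.obj.fst ≫ φ.hom.fst.hom.snd.hom.fst :=
      φ.hom.fst.hom.w
    have h1 : φ.hom.fst.hom.fst.hom.fst = φ.hom.fst.hom.snd.hom.fst :=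
      (Category.comp_id _).symm.trans (hA.trans (Category.id_comp _))
    have hB : φ.hom.fst.hom.fst.hom.snd ≫ 𝟙 y.obj.snd = 𝟙 x.obj.snd ≫ φ.hom.snd :=
      congrArg (fun t => t.hom.fst) φ.hom.w
    have hC : φ.hom.fst.hom.snd.hom.snd ≫ 𝟙 y.obj.snd = 𝟙 x.obj.snd ≫ φ.hom.snd :=
      congrArg (fun t => t.hom.snd) φ.hom.w
    have h2 : φ.hom.fst.hom.fst.hom.snd = φ.hom.snd :=
      (Category.comp_id _).symm.trans (hB.trans (Category.id_comp _))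
    have h3 : φ.hom.fst.hom.snd.hom.snd = φ.hom.snd :=
      (Category.comp_id _).symm.trans (hC.trans (Category.id_comp _))
    exact ⟨φ.hom.fst.hom.fst, fp_hom_ext (fp_hom_ext rfl (fp_hom_ext h1 (h2.trans h3.symm))) h2⟩⟩
  refine isEquivOver_of_vertEssSurj _ fun η => ?_
  obtain ⟨⟨⟨⟨w₁, w₂, c⟩, hc⟩, x, k⟩, hk⟩ := η
  let T := 𝒵.p.obj w₁.obj.fst
  let k₁ : w₁.obj.snd ≅ x := fstIso k
  let k₂ : w₂.obj.snd ≅ x := sndIso k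
  haveI hc' : 𝒵.p.IsHomLift (𝟙 T) c.hom := hc
  haveI hk' : (fp f f).p.IsHomLift (𝟙 T) k.hom := hk
  haveI l1 : 𝒳.p.IsHomLift (𝟙 T) k₁.hom :=
    @isHomLift_fst _ _ _ _ _ _ _ _ _ (𝟙 T) _ _ k.hom hk'
  have hw := k.hom.hom.w
  rw [selfMap_obj_iso] at hw
  have hw' : f.map k₁.hom ≫ 𝟙 (f.obj x) =
      (w₁.obj.iso.inv ≫ g.map c.hom ≫ w₂.obj.iso.hom) ≫ f.map k₂.hom := hw
  have key : g.map c.hom ≫ w₂.obj.iso.hom = w₁.obj.iso.hom ≫ f.map (k₁.hom ≫ k₂.inv) := by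
    rw [f.toFunctor.map_comp, ← Category.comp_id (f.map k₁.hom), hw']
    simp only [Category.assoc, ← f.toFunctor.map_comp, Iso.hom_inv_id, Iso.hom_inv_id_assoc,
      f.toFunctor.map_id, Category.comp_id]
  let j : w₁ ≅ w₂ := fpIsoMk c (k₁ ≪≫ k₂.symm) key
  let d : ((Φ.obj w₁).obj.fst) ≅ ⟨⟨w₁, w₂, c⟩, hc⟩ :=
    fpIsoMk (x := (Φ.obj w₁).obj.fst) (y := ⟨⟨w₁, w₂, c⟩, hc⟩) (Iso.refl w₁) j (by
      change 𝟙 w₁.obj.fst ≫ c.hom = 𝟙 w₁.obj.fst ≫ c.hom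
      rfl)
  let ε : Φ.obj w₁ ≅ ⟨⟨⟨⟨w₁, w₂, c⟩, hc⟩, x, k⟩, hk⟩ :=
    fpIsoMk (x := Φ.obj w₁) (y := ⟨⟨⟨⟨w₁, w₂, c⟩, hc⟩, x, k⟩, hk⟩) d k₁ (by
      apply fp_hom_ext
      · change 𝟙 w₁.obj.snd ≫ k₁.hom = 𝟙 w₁.obj.snd ≫ k₁.hom
        rfl
      · change (k₁.hom ≫ k₂.inv) ≫ k₂.hom = 𝟙 w₁.obj.snd ≫ k₁.hom
        simp)
  refine ⟨w₁, ε, IsHomLift.of_fac' _ _ _ rfl rfl ?_⟩
  change 𝒵.p.map (𝟙 w₁.obj.fst) = 𝟙 T ≫ 𝟙 T ≫ 𝟙 T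
  simp [T]

end Diag

end AlgStLib
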