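import Groth.Agent.AlgStLib.Psh
import Groth.Agent.AlgStLib.Sq
import Mathlib.CategoryTheory.Sites.IsSheafFor
import Mathlib.CategoryTheory.Sites.SheafOfTypes

/-!
# Stacks: invariance under equivalence, fibre products, presheaves, and descent along a morphism
-/

set_option autoImplicit false
set_option backward.isDefEq.respectTransparency false
set_option backward.isDefEq.respectTransparency.types false

universe w v₁ u₁ v₂ u₂ v₃ u₃ v₄ u₄ v₅ u₅ v u

open CategoryTheory Opposite FibCat FibLib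
open CategoryTheory.Functor (Fiber)

namespace AlgStLib

variable {C : Type u} [Category.{v} C] {𝒳 : BasedCategory.{v₁, u₁} C} {𝒴 : BasedCategory.{v₂, u₂} C}
  {𝒵 : BasedCategory.{v₃, u₃} C} {𝒜 : BasedCategory.{v₄, u₄} C} {ℬ : BasedCategory.{v₅, u₅} C}

section Hom

lemma bnt_ext {F G : 𝒳 ⥤ᵇ 𝒴} {α β : F ⟶ G} (h : ∀ a, α.toNatTrans.app a = β.toNatTrans.app a) : α = β := by
  apply BasedNatTrans.homCategory.ext
  ext a
  exact h a

/-- A morphism of functors into a category fibred in groupoids is an isomorphism. -/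
lemma isIso_bnt [IsFibGrpd 𝒴.p] {F G : 𝒳 ⥤ᵇ 𝒴} (α : F ⟶ G) : IsIso α := by
  haveI : ∀ a, IsIso (α.toNatTrans.app a) := fun a => by
    haveI := α.isHomLift' a
    exact isIso_of_isHomLift (p := 𝒴.p) (𝟙 (𝒳.p.obj a)) (α.toNatTrans.app a)
  haveI : IsIso (X := F.toFunctor) α.toNatTrans := NatIso.isIso_of_isIso_app _
  exact BasedNatIso.isIso_of_toNatTrans_isIso α

/-- Postcomposition. -/
def postFun (F : 𝒳 ⥤ᵇ 𝒴) (𝒲 : BasedCategory.{v₄, u₄} C) : (𝒲 ⥤ᵇ 𝒳) ⥤ (𝒲 ⥤ᵇ 𝒴) where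
  obj K := BasedFunctor.comp K F
  map α := BasedCategory.whiskerRight α F
  map_id K := bnt_ext fun a => F.toFunctor.map_id _
  map_comp α β := bnt_ext fun a => F.toFunctor.map_comp _ _

lemma isEquivalence_postFun {F : 𝒳 ⥤ᵇ 𝒴} (hF : IsEquivOver F) (𝒲 : BasedCategory.{v₄, u₄} C) :
    (postFun F 𝒲).IsEquivalence := by
  obtain ⟨G, ⟨α⟩, ⟨β⟩⟩ := hF
  exact (CategoryTheory.Equivalence.mk (postFun F 𝒲) (postFun G 𝒲)
    (NatIso.ofComponents (fun K => (whiskerLeftIso' K α).symm)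
      (fun {K L} γ => bnt_ext fun a => (α.inv.toNatTrans.naturality (γ.toNatTrans.app a))))
    (NatIso.ofComponents (fun K => whiskerLeftIso' K β)
      (fun {K L} γ => bnt_ext fun a => (β.hom.toNatTrans.naturality (γ.toNatTrans.app a))))).isEquivalence_functor

/-- Restriction and postcomposition commute. -/
def restrPostIso (ι : 𝒜 ⥤ᵇ ℬ) (F : 𝒳 ⥤ᵇ 𝒴) :
    postFun F ℬ ⋙ Stk.restr ι 𝒴 ≅ Stk.restr ι 𝒳 ⋙ postFun F 𝒜 :=
  NatIso.ofComponents (fun _ => Iso.refl _) (fun {K L} γ => bnt_ext fun a => by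
    change F.map (γ.toNatTrans.app (ι.obj a)) ≫ 𝟙 _ = 𝟙 _ ≫ F.map (γ.toNatTrans.app (ι.obj a))
    rw [Category.id_comp, Category.comp_id])

lemma restr_transfer {F : 𝒳 ⥤ᵇ 𝒴} (hF : IsEquivOver F) (ι : 𝒜 ⥤ᵇ ℬ) :
    ((Stk.restr ι 𝒳).Full → (Stk.restr ι 𝒴).Full) ∧ ((Stk.restr ι 𝒳).Faithful → (Stk.restr ι 𝒴).Faithful) ∧
      ((Stk.restr ι 𝒳).IsEquivalence → (Stk.restr ι 𝒴).IsEquivalence) := by
  haveI := isEquivalence_postFun hF ℬ
  haveI := isEquivalence_postFun hF 𝒜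
  let E := (postFun F ℬ).asEquivalence
  let i : E.inverse ⋙ (Stk.restr ι 𝒳 ⋙ postFun F 𝒜) ≅ Stk.restr ι 𝒴 :=
    Functor.isoWhiskerLeft E.inverse (restrPostIso ι F).symm ≪≫ (Functor.associator _ _ _).symm ≪≫
      Functor.isoWhiskerRight E.counitIso _ ≪≫ (Stk.restr ι 𝒴).leftUnitor
  exact ⟨fun h => Functor.Full.of_iso i, fun h => Functor.Faithful.of_iso i,
    fun h => Functor.isEquivalence_of_iso i⟩

lemma restr_iff {F : 𝒳 ⥤ᵇ 𝒴} (hF : IsEquivOver F) (ι : 𝒜 ⥤ᵇ ℬ) :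
    (((Stk.restr ι 𝒳).Full ∧ (Stk.restr ι 𝒳).Faithful) ↔ ((Stk.restr ι 𝒴).Full ∧ (Stk.restr ι 𝒴).Faithful)) ∧
      ((Stk.restr ι 𝒳).IsEquivalence ↔ (Stk.restr ι 𝒴).IsEquivalence) := by
  obtain ⟨G, hG⟩ := isEquivOver_symm hF
  obtain ⟨a, b, c⟩ := restr_transfer hF ι
  obtain ⟨a', b', c'⟩ := restr_transfer hG ι
  exact ⟨⟨fun h => ⟨a h.1, b h.2⟩, fun h => ⟨a' h.1, b' h.2⟩⟩, ⟨c, c'⟩⟩

lemma isFibGrpd_iff_of_isEquivOver {F : 𝒳 ⥤ᵇ 𝒴} (hF : IsEquivOver F) : IsFibGrpd 𝒳.p ↔ IsFibGrpd 𝒴.p := by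
  obtain ⟨G, hG⟩ := isEquivOver_symm hF
  exact ⟨fun h => @isFibGrpd_of_isEquivOver _ _ _ _ G hG h, fun h => @isFibGrpd_of_isEquivOver _ _ _ _ F hF h⟩

variable {J : GrothendieckTopology C}

theorem isPrestack_iff_of_isEquivOver {F : 𝒳 ⥤ᵇ 𝒴} (hF : IsEquivOver F) :
    Stk.IsPrestack J 𝒳 ↔ Stk.IsPrestack J 𝒴 :=
  and_congr (isFibGrpd_iff_of_isEquivOver hF)
    (forall_congr' fun _ => forall₂_congr fun R _ => (restr_iff hF (Stk.sieveIncl R)).1)

theorem isStack_iff_of_isEquivOver {F : 𝒳 ⥤ᵇ 𝒴} (hF : IsEquivOver F) :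
    Stk.IsStack J 𝒳 ↔ Stk.IsStack J 𝒴 :=
  and_congr (isFibGrpd_iff_of_isEquivOver hF)
    (forall_congr' fun _ => forall₂_congr fun R _ => (restr_iff hF (Stk.sieveIncl R)).2)

lemma isPrestack_of_isStack (h : Stk.IsStack J 𝒳) : Stk.IsPrestack J 𝒳 :=
  ⟨h.1, fun _ R hR => by
    haveI : (Stk.resSieve R 𝒳).IsEquivalence := h.2 R hR
    exact ⟨inferInstanceAs (Stk.resSieve R 𝒳).Full, inferInstanceAs (Stk.resSieve R 𝒳).Faithful⟩⟩

end Hom

section FibreProduct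

variable {F : 𝒳 ⥤ᵇ 𝒵} {G : 𝒴 ⥤ᵇ 𝒵} {ι : 𝒜 ⥤ᵇ ℬ}

lemma restr_fp_faithful (hX : (Stk.restr ι 𝒳).Faithful) (hY : (Stk.restr ι 𝒴).Faithful) :
    (Stk.restr ι (fp F G)).Faithful := ⟨fun {K L α β} h => by
  have hh : ∀ a, α.toNatTrans.app (ι.obj a) = β.toNatTrans.app (ι.obj a) := fun a =>
    congrArg (fun t => t.toNatTrans.app a) h
  have h1 : (postFun (fpFst F G) ℬ).map α = (postFun (fpFst F G) ℬ).map β :=
    (Stk.restr ι 𝒳).map_injective (bnt_ext fun a => congrArg (fun t => t.hom.fst) (hh a))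
  have h2 : (postFun (fpSnd F G) ℬ).map α = (postFun (fpSnd F G) ℬ).map β :=
    (Stk.restr ι 𝒴).map_injective (bnt_ext fun a => congrArg (fun t => t.hom.snd) (hh a))
  exact bnt_ext fun b => fp_hom_ext (congrArg (fun t => t.toNatTrans.app b) h1)
    (congrArg (fun t => t.toNatTrans.app b) h2)⟩

lemma restr_fp_full (hX : (Stk.restr ι 𝒳).Full) (hY : (Stk.restr ι 𝒴).Full)
    (hZ : (Stk.restr ι 𝒵).Faithful) : (Stk.restr ι (fp F G)).Full := ⟨fun {K L} γ => by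
  obtain ⟨α, hα⟩ := (Stk.restr ι 𝒳).map_surjective (X := BasedFunctor.comp K (fpFst F G))
    (Y := BasedFunctor.comp L (fpFst F G)) (BasedCategory.whiskerRight γ (fpFst F G))
  obtain ⟨β, hβ⟩ := (Stk.restr ι 𝒴).map_surjective (X := BasedFunctor.comp K (fpSnd F G))
    (Y := BasedFunctor.comp L (fpSnd F G)) (BasedCategory.whiskerRight γ (fpSnd F G))
  have hα' : ∀ a, α.toNatTrans.app (ι.obj a) = (γ.toNatTrans.app a).hom.fst := fun a =>
    congrArg (fun t => t.toNatTrans.app a) hα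
  have hβ' : ∀ a, β.toNatTrans.app (ι.obj a) = (γ.toNatTrans.app a).hom.snd := fun a =>
    congrArg (fun t => t.toNatTrans.app a) hβ
  have key : BasedCategory.whiskerRight α F ≫ BasedCategory.whiskerLeft L (fpIso F G).hom =
      BasedCategory.whiskerLeft K (fpIso F G).hom ≫ BasedCategory.whiskerRight β G :=
    (Stk.restr ι 𝒵).map_injective (bnt_ext fun a => by
      change F.map (α.toNatTrans.app (ι.obj a)) ≫ (L.obj (ι.obj a)).obj.iso.hom =
        (K.obj (ι.obj a)).obj.iso.hom ≫ G.map (β.toNatTrans.app (ι.obj a))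
      rw [hα', hβ']
      exact (γ.toNatTrans.app a).hom.w)
  let comp : ∀ b, K.obj b ⟶ L.obj b := fun b =>
    fpHom (α.toNatTrans.app b) (β.toNatTrans.app b) (congrArg (fun t => t.toNatTrans.app b) key)
  let δ : K ⟶ L :=
    { app := comp
      naturality := fun b b' m => fp_hom_ext (α.toNatTrans.naturality m) (β.toNatTrans.naturality m)
      isHomLift' := fun b => by
        have h : 𝒳.p.IsHomLift (𝟙 (ℬ.p.obj b)) (α.toNatTrans.app b) := α.isHomLift' b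
        exact @isHomLift_of_fst _ _ _ _ _ _ _ _ _ (𝟙 (ℬ.p.obj b)) _ _ (comp b) h }
  exact ⟨δ, bnt_ext fun a => fp_hom_ext (hα' a) (hβ' a)⟩⟩

lemma restr_fp_essSurj (hX : (Stk.restr ι 𝒳).EssSurj) (hY : (Stk.restr ι 𝒴).EssSurj)
    (hZ : (Stk.restr ι 𝒵).Full) (hZ' : (Stk.restr ι 𝒵).Faithful) : (Stk.restr ι (fp F G)).EssSurj := ⟨fun K => by
  obtain ⟨x, ⟨ex⟩⟩ := hX.mem_essImage (BasedFunctor.comp K (fpFst F G))
  obtain ⟨y, ⟨ey⟩⟩ := hY.mem_essImage (BasedFunctor.comp K (fpSnd F G))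
  let θ : (Stk.restr ι 𝒵).obj (BasedFunctor.comp x F) ≅ (Stk.restr ι 𝒵).obj (BasedFunctor.comp y G) :=
    whiskerRightIso' ex F ≪≫ whiskerLeftIso' K (fpIso F G) ≪≫ (whiskerRightIso' ey G).symm
  let ε := (Stk.restr ι 𝒵).preimageIso θ
  refine ⟨fpLift x y ε, ⟨fpIsoExt _ _ ex ey fun a => ?_⟩⟩
  have h : ε.hom.toNatTrans.app (ι.obj a) = θ.hom.toNatTrans.app a :=
    congrArg (fun t => t.toNatTrans.app a) ((Stk.restr ι 𝒵).map_preimage θ.hom)
  change F.map (appIso ex a).hom ≫ (K.obj a).obj.iso.hom =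
    ε.hom.toNatTrans.app (ι.obj a) ≫ G.map (appIso ey a).hom
  rw [h]
  change F.map (appIso ex a).hom ≫ (K.obj a).obj.iso.hom =
    (F.map (appIso ex a).hom ≫ (K.obj a).obj.iso.hom ≫ G.map (appIso ey a).inv) ≫ G.map (appIso ey a).hom
  rw [Category.assoc, Category.assoc, ← G.toFunctor.map_comp, Iso.inv_hom_id, G.toFunctor.map_id]
  exact ((congrArg (F.map (appIso ex a).hom ≫ ·) (Category.comp_id _))).symm⟩

variable {J : GrothendieckTopology C}

theorem isStack_fp (h𝒳 : Stk.IsStack J 𝒳) (h𝒴 : Stk.IsStack J 𝒴) (h𝒵 : Stk.IsPrestack J 𝒵) :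
    Stk.IsStack J (fp F G) := by
  haveI := h𝒳.1
  haveI := h𝒴.1
  haveI := h𝒵.1
  refine ⟨isFibGrpd_fp, fun U R hR => ?_⟩
  haveI hx : (Stk.resSieve R 𝒳).IsEquivalence := h𝒳.2 R hR
  haveI hy : (Stk.resSieve R 𝒴).IsEquivalence := h𝒴.2 R hR
  have hz := h𝒵.2 R hR
  exact
    { full := restr_fp_full hx.full hy.full hz.2
      faithful := restr_fp_faithful hx.faithful hy.faithful
      essSurj := restr_fp_essSurj hx.essSurj hy.essSurj hz.1 hz.2 }

theorem isFibSetoid_fp' [IsFibGrpd 𝒵.p] (h𝒳 : IsFibSetoid 𝒳.p) (h𝒴 : IsFibSetoid 𝒴.p) :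
    IsFibSetoid (fp F G).p := by
  haveI := h𝒳.1
  haveI := h𝒴.1
  haveI : IsFibGrpd (fp F G).p := isFibGrpd_fp
  refine ⟨inferInstance, fun U a b => ⟨fun φ ψ => ?_⟩⟩
  haveI h1 : (fp F G).p.IsHomLift (𝟙 U) φ.1 := φ.2
  haveI h2 : (fp F G).p.IsHomLift (𝟙 U) ψ.1 := ψ.2
  haveI := isHomLift_fst (𝟙 U) φ.1
  haveI := isHomLift_fst (𝟙 U) ψ.1
  haveI := isHomLift_snd (𝟙 U) φ.1
  haveI := isHomLift_snd (𝟙 U) ψ.1
  exact Fiber.hom_ext (fp_hom_ext (hom_eq_of_thin h𝒳.2 (𝟙 U) φ.1.hom.fst ψ.1.hom.fst)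
    (hom_eq_of_thin h𝒴.2 (𝟙 U) φ.1.hom.snd ψ.1.hom.snd))

end FibreProduct

section Presheaf

variable {P : Cᵒᵖ ⥤ Type w} {U : C}

/-- The functor on `C/U` of a section over `U`. -/
def secFun (P : Cᵒᵖ ⥤ Type w) (x : P.obj (op U)) : overCat U ⥤ᵇ Stk.ofPsh P where
  toFunctor :=
    { obj := fun g => ⟨g.left, P.map g.hom.op x⟩
      map := fun {g h} φ => ⟨φ.left, by
        show P.map φ.left.op (P.map h.hom.op x) = P.map g.hom.op x
        rw [← Functor.map_comp_apply, ← op_comp, Over.w φ]⟩ }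
  w := rfl

@[simp] lemma secOf_secFun (x : P.obj (op U)) (g : Over U) : secOf (secFun P x) g = P.map g.hom.op x := by
  change P.map (𝟙 (op g.left)) (P.map g.hom.op x) = _
  rw [FunctorToTypes.map_id_apply]

lemma secOf_over (Φ : overCat U ⥤ᵇ Stk.ofPsh P) (g : Over U) :
    secOf Φ g = P.map g.hom.op (secOf Φ (Over.mk (𝟙 U))) :=
  (secOf_naturality Φ (Over.homMk g.hom (Category.comp_id _) : g ⟶ Over.mk (𝟙 U))).symm

lemma secOf_eq_of_hom {𝒲 : BasedCategory.{v₁, u₁} C} {Φ Ψ : 𝒲 ⥤ᵇ Stk.ofPsh P} (α : Φ ⟶ Ψ) (a : 𝒲.obj) :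
    secOf Φ a = secOf Ψ a :=
  haveI := isIso_bnt α
  secOf_iso (asIso α) a

lemma hom_unique {𝒲 : BasedCategory.{v₁, u₁} C} {Φ Ψ : 𝒲 ⥤ᵇ Stk.ofPsh P} (α β : Φ ⟶ Ψ) : α = β :=
  bnt_ext fun a => by
    haveI := α.isHomLift' a
    haveI := β.isHomLift' a
    exact elt_hom_eq (𝟙 (𝒲.p.obj a)) _ _

variable {R : Sieve U}

/-- The family of sections of a functor on a sieve. -/
def famOf (Φ : Stk.sieveCat R ⥤ᵇ Stk.ofPsh P) : Presieve.FamilyOfElements P R.arrows :=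
  fun _ f hf => secOf Φ ⟨Over.mk f, hf⟩

lemma famOf_compatible (Φ : Stk.sieveCat R ⥤ᵇ Stk.ofPsh P) : (famOf Φ).Compatible :=
  Presieve.compatible_iff_sieveCompatible _ |>.mpr fun Y Z f g hf =>
    (secOf_naturality Φ (ObjectProperty.homMk (Over.homMk g rfl) :
      (⟨Over.mk (g ≫ f), R.downward_closed hf g⟩ : (Stk.sieveCat R).obj) ⟶ ⟨Over.mk f, hf⟩)).symm

/-- The functor of a compatible family. -/
def famFun {x : Presieve.FamilyOfElements P R.arrows} (hx : x.Compatible) :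
    Stk.sieveCat R ⥤ᵇ Stk.ofPsh P where
  toFunctor :=
    { obj := fun g => ⟨g.obj.left, x g.obj.hom g.property⟩
      map := fun {g h} φ => ⟨φ.hom.left, by
        show P.map φ.hom.left.op (x h.obj.hom h.property) = x g.obj.hom g.property
        rw [← (Presieve.compatible_iff_sieveCompatible x).mp hx h.obj.hom φ.hom.left h.property]
        congr 1
        exact Over.w φ.hom⟩ }
  w := rfl

lemma restr_ofPsh_faithful : (Stk.resSieve R (Stk.ofPsh P)).Faithful := ⟨fun _ => hom_unique _ _⟩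

lemma secOf_resSieve (Φ : overCat U ⥤ᵇ Stk.ofPsh P) (g : (Stk.sieveCat R).obj) :
    secOf ((Stk.resSieve R (Stk.ofPsh P)).obj Φ) g = P.map g.obj.hom.op (secOf Φ (Over.mk (𝟙 U))) := by
  change secOf (BasedFunctor.comp (Stk.sieveIncl R) Φ) g = _
  rw [secOf_comp]
  change P.map (𝟙 _) (secOf Φ g.obj) = _
  rw [secOf_over Φ g.obj]
  simp

theorem isPrestackFor_ofPsh_iff :
    Stk.IsPrestackFor R (Stk.ofPsh P) ↔ Presieve.IsSeparatedFor P R.arrows := by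
  constructor
  · rintro ⟨h, -⟩ x s t hs ht
    obtain ⟨α⟩ := nonempty_iso_of_sec (Φ := (Stk.resSieve R (Stk.ofPsh P)).obj (secFun P s))
      (Ψ := (Stk.resSieve R (Stk.ofPsh P)).obj (secFun P t)) fun g => by
        rw [secOf_resSieve, secOf_resSieve, secOf_secFun, secOf_secFun]
        simp [hs g.obj.hom g.property, ht g.obj.hom g.property]
    obtain ⟨β, -⟩ := h.map_surjective α.hom
    simpa using secOf_eq_of_hom β (Over.mk (𝟙 U))
  · intro h
    refine ⟨⟨fun {Φ Ψ} γ => ?_⟩, restr_ofPsh_faithful⟩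
    have e : secOf Φ (Over.mk (𝟙 U)) = secOf Ψ (Over.mk (𝟙 U)) :=
      h.ext fun V f hf => by
        have := secOf_eq_of_hom γ ⟨Over.mk f, hf⟩
        rwa [secOf_resSieve, secOf_resSieve] at this
    obtain ⟨α⟩ := nonempty_iso_of_sec (Φ := Φ) (Ψ := Ψ) fun g => by rw [secOf_over Φ, secOf_over Ψ, e]
    exact ⟨α.hom, hom_unique _ _⟩

theorem isStackFor_ofPsh_iff : Stk.IsStackFor R (Stk.ofPsh P) ↔ Presieve.IsSheafFor P R.arrows := by
  constructor
  · intro h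
    haveI : (Stk.resSieve R (Stk.ofPsh P)).IsEquivalence := h
    rw [← Presieve.isSeparatedFor_and_exists_isAmalgamation_iff_isSheafFor]
    refine ⟨isPrestackFor_ofPsh_iff.mp ⟨Functor.IsEquivalence.full, Functor.IsEquivalence.faithful⟩, fun x hx => ?_⟩
    obtain ⟨Φ, ⟨α⟩⟩ := (Functor.IsEquivalence.essSurj (F := Stk.resSieve R (Stk.ofPsh P))).mem_essImage (famFun hx)
    refine ⟨secOf Φ (Over.mk (𝟙 U)), fun V f hf => ?_⟩
    have := secOf_iso α ⟨Over.mk f, hf⟩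
    rw [secOf_resSieve] at this
    refine this.trans ?_
    simp only [secOf, famFun]
    exact FunctorToTypes.map_id_apply P _
  · intro h
    obtain ⟨hF, hF'⟩ := isPrestackFor_ofPsh_iff.mpr h.isSeparatedFor
    refine { full := hF, faithful := hF', essSurj := ⟨fun Φ => ?_⟩ }
    refine ⟨secFun P (h.amalgamate (famOf Φ) (famOf_compatible Φ)), nonempty_iso_of_sec fun g => ?_⟩
    rw [secOf_resSieve, secOf_secFun]
    simp [Presieve.IsSheafFor.valid_glue h (famOf_compatible Φ) g.obj.hom g.property, famOf]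
    rfl

variable {J : GrothendieckTopology C}

theorem isStack_ofPsh_iff : Stk.IsStack J (Stk.ofPsh P) ↔ Presieve.IsSheaf J P :=
  ⟨fun h _ R hR => isStackFor_ofPsh_iff.mp (h.2 R hR),
    fun h => ⟨Stk.isFibGrpd_ofPsh P, fun _ R hR => isStackFor_ofPsh_iff.mpr (h R hR)⟩⟩

/-- `C/U` is the category of the presheaf `h_U`. -/
def yonedaToOverCat (U : C) : Stk.ofPsh (yoneda.obj U) ⥤ᵇ overCat U where
  toFunctor :=
    { obj := fun a => Over.mk a.sec
      map := fun {a b} f => Over.homMk f.hom f.map_sec }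
  w := rfl

lemma isEquivOver_yonedaToOverCat (U : C) : IsEquivOver (yonedaToOverCat U) :=
  ⟨{ toFunctor :=
      { obj := fun g => ⟨g.left, g.hom⟩
        map := fun {g h} φ => ⟨φ.left, Over.w φ⟩ }
     w := rfl }, ⟨Iso.refl _⟩, ⟨Iso.refl _⟩⟩

end Presheaf

section Descent

variable {J : GrothendieckTopology C} {j : 𝒳 ⥤ᵇ 𝒴}

lemma overCat_vert_eq {U : C} {g : Over U} {R : C} (θ : g ⟶ g) (h : (overCat U).p.IsHomLift (𝟙 R) θ) :
    θ = 𝟙 g := by
  have e : θ.left = eqToHom _ ≫ 𝟙 R ≫ eqToHom _ :=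
    @IsHomLift.fac' _ _ _ _ (overCat U).p _ _ _ _ (𝟙 R) θ h
  apply Over.OverMorphism.ext
  rw [e, Category.id_comp, eqToHom_trans, eqToHom_refl]
  rfl

/-- A category over a stack whose fibre products with slices are stacks is a stack. -/
theorem isStack_of_fp_over [IsFibGrpd 𝒳.p] (h𝒴 : Stk.IsStack J 𝒴)
    (h : ∀ (U : C) (y : overCat U ⥤ᵇ 𝒴), Stk.IsStack J (fp y j)) : Stk.IsStack J 𝒳 := by
  haveI := h𝒴.1
  refine ⟨inferInstance, fun U R hR => ?_⟩
  haveI hY : (Stk.resSieve R 𝒴).IsEquivalence := h𝒴.2 R hR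
  let ι := Stk.sieveIncl R
  -- a morphism `γ` with given image gives an isomorphism of lifts
  have hlift : ∀ {a b : overCat U ⥤ᵇ 𝒳} (γ : a ⟶ b) (β : BasedFunctor.comp a j ⟶ BasedFunctor.comp b j)
      [IsIso β], BasedCategory.whiskerRight γ j = β →
      ∀ g, j.map (γ.toNatTrans.app g) = β.toNatTrans.app g :=
    fun γ β _ h g => congrArg (fun t => t.toNatTrans.app g) h
  suffices hfull : (Stk.resSieve R 𝒳).Full ∧ (Stk.resSieve R 𝒳).Faithful ∧ (Stk.resSieve R 𝒳).EssSurj by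
    exact { full := hfull.1, faithful := hfull.2.1, essSurj := hfull.2.2 }
  refine ⟨⟨?_⟩, ⟨?_⟩, ⟨?_⟩⟩
  · intro a b α
    obtain ⟨β, hβ⟩ := (Stk.resSieve R 𝒴).map_surjective (X := BasedFunctor.comp a j)
      (Y := BasedFunctor.comp b j) (BasedCategory.whiskerRight α j)
    haveI := isIso_bnt β
    haveI := isIso_bnt α
    let y := BasedFunctor.comp b j
    haveI hZ : (Stk.resSieve R (fp y j)).IsEquivalence := (h U y).2 R hR
    let A : overCat U ⥤ᵇ fp y j := fpLift (BasedFunctor.id _) a (asIso β).symm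
    let B : overCat U ⥤ᵇ fp y j := fpLift (BasedFunctor.id _) b (Iso.refl _)
    have hβ' : ∀ x, β.toNatTrans.app (ι.obj x) = j.map (α.toNatTrans.app x) := fun x =>
      congrArg (fun t => t.toNatTrans.app x) hβ
    let φ : (Stk.resSieve R (fp y j)).obj A ≅ (Stk.resSieve R (fp y j)).obj B :=
      fpIsoExt _ _ (Iso.refl _) (asIso α) fun x => by
        change y.map (𝟙 _) ≫ 𝟙 _ = (asIso β).inv.toNatTrans.app (ι.obj x) ≫ j.map (α.toNatTrans.app x)
        rw [← hβ', y.toFunctor.map_id]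
        exact (Category.comp_id _).trans (congrArg (fun t => t.toNatTrans.app (ι.obj x)) (asIso β).inv_hom_id).symm
    obtain ⟨Φ, hΦ⟩ := (Stk.resSieve R (fp y j)).map_surjective φ.hom
    exact ⟨BasedCategory.whiskerRight Φ (fpSnd y j),
      bnt_ext fun x => congrArg (fun t => (t.toNatTrans.app x).hom.snd) hΦ⟩
  · intro a b γ γ' hγ
    have hj : BasedCategory.whiskerRight γ j = BasedCategory.whiskerRight γ' j :=
      (Stk.resSieve R 𝒴).map_injective (bnt_ext fun x =>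
        congrArg j.map (congrArg (fun (t : (Stk.resSieve R 𝒳).obj a ⟶ (Stk.resSieve R 𝒳).obj b) =>
          t.toNatTrans.app x) hγ))
    set β := BasedCategory.whiskerRight γ j with hβ
    haveI := isIso_bnt β
    haveI := isIso_bnt γ
    haveI := isIso_bnt γ'
    let y := BasedFunctor.comp b j
    haveI hZ : (Stk.resSieve R (fp y j)).IsEquivalence := (h U y).2 R hR
    let A : overCat U ⥤ᵇ fp y j := fpLift (BasedFunctor.id _) a (asIso β).symm
    let B : overCat U ⥤ᵇ fp y j := fpLift (BasedFunctor.id _) b (Iso.refl _)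
    have mk : ∀ δ : a ⟶ b, BasedCategory.whiskerRight δ j = β → ∃ Φ : A ⟶ B,
        BasedCategory.whiskerRight Φ (fpSnd y j) = δ ∧
          ∀ g, (Φ.toNatTrans.app g).hom.fst = 𝟙 g := fun δ hδ => by
      haveI := isIso_bnt δ
      refine ⟨(fpIsoExt A B (Iso.refl _) (asIso δ) fun g => ?_).hom, bnt_ext fun g => rfl, fun g => rfl⟩
      change y.map (𝟙 g) ≫ 𝟙 _ = (asIso β).inv.toNatTrans.app g ≫ j.map (δ.toNatTrans.app g)
      rw [hlift δ β hδ, y.toFunctor.map_id]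
      exact (Category.comp_id _).trans (congrArg (fun t => t.toNatTrans.app g) (asIso β).inv_hom_id).symm
    obtain ⟨Φ, hΦ, hΦ₁⟩ := mk γ rfl
    obtain ⟨Φ', hΦ', hΦ'₁⟩ := mk γ' hj.symm
    have e : Φ = Φ' := (Stk.resSieve R (fp y j)).map_injective (bnt_ext fun x => by
      refine fp_hom_ext ((hΦ₁ _).trans (hΦ'₁ _).symm) ?_
      have h1 := congrArg (fun t => t.toNatTrans.app (ι.obj x)) hΦ
      have h2 := congrArg (fun t => t.toNatTrans.app (ι.obj x)) hΦ'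
      exact h1.trans ((congrArg (fun t => t.toNatTrans.app x) hγ).trans h2.symm))
    rw [← hΦ, ← hΦ', e]
  · intro K
    obtain ⟨y, ⟨ey⟩⟩ := (Functor.IsEquivalence.essSurj (F := Stk.resSieve R 𝒴)).mem_essImage (BasedFunctor.comp K j)
    haveI hZ : (Stk.resSieve R (fp y j)).IsEquivalence := (h U y).2 R hR
    let K' : Stk.sieveCat R ⥤ᵇ fp y j := fpLift ι K ey
    obtain ⟨B, ⟨eB⟩⟩ := (Functor.IsEquivalence.essSurj (F := Stk.resSieve R (fp y j))).mem_essImage K'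
    exact ⟨BasedFunctor.comp B (fpSnd y j), ⟨whiskerRightIso' eB (fpSnd y j)⟩⟩

end Descent

end AlgStLib
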