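import Groth.Agent.AlgStLib.Rep
import Groth.Agent.AlgSpLib.Basic
import Groth.Prelude.Def_AlgSt3
import Groth.Prelude.Def_AlgSpRep

/-!
# Functors representable by algebraic spaces, in terms of representing maps of sheaves
-/

set_option autoImplicit false
set_option backward.isDefEq.respectTransparency false
set_option backward.isDefEq.respectTransparency.types false

universe w' v' w v u

open CategoryTheory CategoryTheory.Limits AlgebraicGeometry Opposite AlgSp FibCat FibLib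

namespace AlgStLib

variable {S : Scheme.{u}}

lemma isEquivOver_toOverCat (U : Over S) : IsEquivOver (AlgSt.toOverCat U) :=
  ⟨AlgSt.ofOverCat U, ⟨Iso.refl _⟩, ⟨Iso.refl _⟩⟩

lemma isEquivOver_ofOverCat (U : Over S) : IsEquivOver (AlgSt.ofOverCat U) :=
  ⟨AlgSt.toOverCat U, ⟨Iso.refl _⟩, ⟨Iso.refl _⟩⟩

lemma spMapOfOver_hom {F : Sp S} {U : Over S} (Φ : AlgSt.ofSp F ⥤ᵇ overCat U) :
    (AlgSt.spMapOfOver Φ).hom = mapOf (P := F.obj) (Q := ((yon S).obj U).obj)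
      (BasedFunctor.comp Φ (AlgSt.ofOverCat U)) := by
  ext T x
  apply ULift.ext
  rfl

lemma spMapOfOver_eq_iff {F : Sp S} {U : Over S} (Φ : AlgSt.ofSp F ⥤ᵇ overCat U) (a : F ⟶ (yon S).obj U) :
    AlgSt.spMapOfOver Φ = a ↔
      Nonempty (BasedFunctor.comp Φ (AlgSt.ofOverCat U) ≅ Stk.ofPshMap a.hom) := by
  constructor
  · rintro rfl
    rw [spMapOfOver_hom]
    exact nonempty_iso_mapOf _
  · rintro ⟨α⟩
    apply ObjectProperty.hom_ext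
    rw [spMapOfOver_hom, mapOf_congr α, mapOf_ofPshMap]

lemma spMapOfOver_congr {F : Sp S} {U : Over S} {Φ Ψ : AlgSt.ofSp F ⥤ᵇ overCat U} (α : Φ ≅ Ψ) :
    AlgSt.spMapOfOver Φ = AlgSt.spMapOfOver Ψ := by
  apply ObjectProperty.hom_ext
  rw [spMapOfOver_hom, spMapOfOver_hom, mapOf_congr (whiskerRightIso' α _)]

variable {𝒳 : BasedCategory.{v, w} (Over S)} {𝒴 : BasedCategory.{v', w'} (Over S)}

/-- There is a representing algebraic space with property `P` for the base change along `u`. -/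
def RepFor (P : MorphismProperty (Sp S)) {G : Sp S} (u : AlgSt.ofSp G ⥤ᵇ 𝒴) (f : 𝒳 ⥤ᵇ 𝒴) : Prop :=
  ∃ (H : Sp S) (a : H ⟶ G), IsAlgSpace H ∧ Along u f a.hom ∧ P a

lemma repByAlgSpWith_iff (P : MorphismProperty (Sp S)) (f : 𝒳 ⥤ᵇ 𝒴) :
    AlgSt.RepByAlgSpWith P f ↔ ∀ (U : Over S) (u : AlgSt.ofSch U ⥤ᵇ 𝒴), RepFor P u f := by
  haveI : (BasedFunctor.id 𝒴).toFunctor.Full := inferInstanceAs (𝟭 _).Full
  haveI : (BasedFunctor.id 𝒴).toFunctor.Faithful := inferInstanceAs (𝟭 _).Faithful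
  constructor
  · intro h U u
    obtain ⟨F, e, he, hP⟩ := h U (BasedFunctor.comp (AlgSt.ofOverCat U) u)
    let M := fpMap (a := AlgSt.ofOverCat U) (b := BasedFunctor.id 𝒳) (c := BasedFunctor.id 𝒴)
      (F := u) (G := f) (F' := BasedFunctor.comp (AlgSt.ofOverCat U) u) (G' := f) (Iso.refl _) (Iso.refl _)
    have hM : IsEquivOver M := isEquivOver_fpMap _ _ (isEquivOver_ofOverCat U) (isEquivOver_id _)
    refine ⟨F.obj, _, F.property, ⟨BasedFunctor.comp e M, isEquivOver_comp he hM, ?_⟩, hP⟩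
    exact (spMapOfOver_eq_iff (BasedFunctor.comp e (FibCat.fpFst (BasedFunctor.comp (AlgSt.ofOverCat U) u) f)) _).mp rfl
  · intro h U y
    obtain ⟨H, a, hH, ⟨e, he, ⟨α⟩⟩, hP⟩ := h U (BasedFunctor.comp (AlgSt.toOverCat U) y)
    let M := fpMap (a := AlgSt.toOverCat U) (b := BasedFunctor.id 𝒳) (c := BasedFunctor.id 𝒴)
      (F := y) (G := f) (F' := BasedFunctor.comp (AlgSt.toOverCat U) y) (G' := f) (Iso.refl _) (Iso.refl _)
    have hM : IsEquivOver M := isEquivOver_fpMap _ _ (isEquivOver_toOverCat U) (isEquivOver_id _)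
    refine ⟨⟨H, hH⟩, BasedFunctor.comp e M, isEquivOver_comp he hM, ?_⟩
    have : AlgSt.spMapOfOver (BasedFunctor.comp (BasedFunctor.comp e M) (FibCat.fpFst y f)) = a :=
      (spMapOfOver_eq_iff _ _).mpr ⟨α⟩
    rw [this]; exact hP

lemma repByAlgSp1_iff_with_top (f : 𝒳 ⥤ᵇ 𝒴) :
    AlgSt.RepByAlgSp1 f ↔ AlgSt.RepByAlgSpWith ⊤ f :=
  ⟨fun h U y => let ⟨F, e, he⟩ := h U y; ⟨F, e, he, trivial⟩,
    fun h U y => let ⟨F, e, he, _⟩ := h U y; ⟨F, e, he⟩⟩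

lemma repByAlgSp1_iff (f : 𝒳 ⥤ᵇ 𝒴) :
    AlgSt.RepByAlgSp1 f ↔ ∀ (U : Over S) (u : AlgSt.ofSch U ⥤ᵇ 𝒴), RepFor ⊤ u f := by
  rw [repByAlgSp1_iff_with_top, repByAlgSpWith_iff]

lemma repByAlgSpWith_mono {P Q : MorphismProperty (Sp S)} {f : 𝒳 ⥤ᵇ 𝒴}
    (hPQ : ∀ ⦃H G : Sp S⦄ (a : H ⟶ G), IsAlgSpace H → IsAlgSpace G → P a → Q a)
    (h : AlgSt.RepByAlgSpWith P f) : AlgSt.RepByAlgSpWith Q f := by
  rw [repByAlgSpWith_iff] at h ⊢
  exact fun U u => let ⟨H, a, hH, ha, hP⟩ := h U u; ⟨H, a, hH, ha, hPQ a hH (IsAlgSpace.yon_obj U) hP⟩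

lemma repByAlgSp1_of_with {P : MorphismProperty (Sp S)} {f : 𝒳 ⥤ᵇ 𝒴} (h : AlgSt.RepByAlgSpWith P f) :
    AlgSt.RepByAlgSp1 f :=
  fun U y => let ⟨F, e, he, _⟩ := h U y; ⟨F, e, he⟩

lemma along_hom_unique {G H H' : Sp S} {u : AlgSt.ofSp G ⥤ᵇ 𝒴} {f : 𝒳 ⥤ᵇ 𝒴} {a : H ⟶ G} {a' : H' ⟶ G}
    (h : Along u f a.hom) (h' : Along u f a'.hom) : ∃ i : H ≅ H', i.hom ≫ a' = a := by
  obtain ⟨i, hi⟩ := h.unique h'
  exact ⟨(fullyFaithfulSheafToPresheaf (J S) _).preimageIso i, ObjectProperty.hom_ext _ hi⟩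

/-- For a property respecting isomorphisms, `RepByAlgSpWith` may be tested on any representing maps. -/
lemma prop_of_along {P : MorphismProperty (Sp S)}
    (hP : ∀ ⦃H H' G : Sp S⦄ (i : H ≅ H') (a : H' ⟶ G), IsAlgSpace H' → IsAlgSpace G → P a → P (i.hom ≫ a))
    {f : 𝒳 ⥤ᵇ 𝒴} (hf : AlgSt.RepByAlgSpWith P f) {U : Over S} {u : AlgSt.ofSch U ⥤ᵇ 𝒴} {H : Sp S}
    {a : H ⟶ (yon S).obj U} (h : Along u f a.hom) : P a := by
  obtain ⟨H', a', hH', ha', hP'⟩ := (repByAlgSpWith_iff P f).mp hf U u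
  obtain ⟨i, hi⟩ := along_hom_unique h ha'
  rw [← hi]
  exact hP i a' hH' (IsAlgSpace.yon_obj U) hP'

lemma repByAlgSpWith_of_forall {P : MorphismProperty (Sp S)} {f : 𝒳 ⥤ᵇ 𝒴} (hf : AlgSt.RepByAlgSp1 f)
    (h : ∀ (U : Over S) (u : AlgSt.ofSch U ⥤ᵇ 𝒴) (H : Sp S) (a : H ⟶ (yon S).obj U),
      IsAlgSpace H → Along u f a.hom → P a) : AlgSt.RepByAlgSpWith P f := by
  rw [repByAlgSpWith_iff]
  intro U u
  obtain ⟨H, a, hH, ha, -⟩ := (repByAlgSp1_iff f).mp hf U u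
  exact ⟨H, a, hH, ha, h U u H a hH ha⟩

lemma repByAlgSpWith_inf {P Q : MorphismProperty (Sp S)}
    (hQ : ∀ ⦃H H' G : Sp S⦄ (i : H ≅ H') (a : H' ⟶ G), IsAlgSpace H' → IsAlgSpace G → Q a → Q (i.hom ≫ a))
    {f : 𝒳 ⥤ᵇ 𝒴} (h₁ : AlgSt.RepByAlgSpWith P f) (h₂ : AlgSt.RepByAlgSpWith Q f) :
    AlgSt.RepByAlgSpWith (P ⊓ Q) f := by
  rw [repByAlgSpWith_iff]
  intro U u
  obtain ⟨H, a, hH, ha, hPa⟩ := (repByAlgSpWith_iff P f).mp h₁ U u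
  exact ⟨H, a, hH, ha, hPa, prop_of_along hQ h₂ ha⟩

lemma repByAlgSpWith_congr {P : MorphismProperty (Sp S)} {f f' : 𝒳 ⥤ᵇ 𝒴} (α : f ≅ f')
    (h : AlgSt.RepByAlgSpWith P f) : AlgSt.RepByAlgSpWith P f' := by
  rw [repByAlgSpWith_iff] at h ⊢
  exact fun U u => let ⟨H, a, hH, ha, hP⟩ := h U u; ⟨H, a, hH, ha.congr (Iso.refl _) α, hP⟩

lemma repByAlgSpWith_fpFst {𝒵 : BasedCategory.{v, w} (Over S)} (P : MorphismProperty (Sp S))
    {f : 𝒳 ⥤ᵇ 𝒴} (g : 𝒵 ⥤ᵇ 𝒴) (h : AlgSt.RepByAlgSpWith P f) :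
    AlgSt.RepByAlgSpWith P (FibCat.fpFst g f) := by
  rw [repByAlgSpWith_iff] at h ⊢
  exact fun U u => let ⟨H, a, hH, ha, hP⟩ := h U (BasedFunctor.comp u g); ⟨H, a, hH, ha.fpFst, hP⟩

end AlgStLib
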