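import Groth.Agent.AlgStLib.Rows4
import Groth.Agent.AlgSpLib.FppfCoverDiag

/-!
# Recognising functors representable by monomorphisms after a flat covering
-/

set_option autoImplicit false
set_option backward.isDefEq.respectTransparency false
set_option backward.isDefEq.respectTransparency.types false

universe w v₁ u₁ u

open CategoryTheory CategoryTheory.Limits AlgebraicGeometry Opposite AlgSp FibCat FibLib AlgSpLib

namespace AlgStLib

section Setoid

variable {C : Type*} [Category C] {J : GrothendieckTopology C} {𝒵 : BasedCategory.{v₁, u₁} C}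
  {G H : Cᵒᵖ ⥤ Type w} {c : H ⟶ G} {p : 𝒵 ⥤ᵇ Stk.ofPsh G}

/-- Two morphisms with the same image, towards an object whose section lifts along `c`, agree. -/
lemma eq_of_sec_lift (hset : IsFibSetoid (fp (Stk.ofPshMap c) p).p) {a b : 𝒵.obj} {R R' : C} (g : R ⟶ R')
    (θ₁ θ₂ : a ⟶ b) [𝒵.p.IsHomLift g θ₁] [𝒵.p.IsHomLift g θ₂] (hb : H.obj (op (p.obj b).base))
    (hc : c.app _ hb = (p.obj b).sec) : θ₁ = θ₂ := by
  haveI := hset.1
  haveI := p.preserves_isHomLift g θ₁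
  haveI := p.preserves_isHomLift g θ₂
  have hp : p.map θ₁ = p.map θ₂ := elt_hom_eq g _ _
  let m := (p.map θ₁).hom
  have hy : (Stk.ofPshMap c).obj ⟨(p.obj b).base, hb⟩ = p.obj b :=
    congrArg (fun s => (⟨(p.obj b).base, s⟩ : Stk.EltObj G)) hc
  have hx : (Stk.ofPshMap c).obj ⟨(p.obj a).base, H.map m.op hb⟩ = p.obj a :=
    congrArg (fun s => (⟨(p.obj a).base, s⟩ : Stk.EltObj G)) (by
      rw [NatTrans.naturality_apply, hc, (p.map θ₁).map_sec])
  let y' : (fp (Stk.ofPshMap c) p).obj :=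
    fpObj ⟨(p.obj b).base, hb⟩ b (eqToIso hy) (IsHomLift.eqToHom_domain_lift_id hy rfl)
  let x' : (fp (Stk.ofPshMap c) p).obj :=
    fpObj ⟨(p.obj a).base, H.map m.op hb⟩ a (eqToIso hx) (IsHomLift.eqToHom_domain_lift_id hx rfl)
  let mm : x'.obj.fst ⟶ y'.obj.fst := ⟨m, rfl⟩
  have hw : ∀ θ : a ⟶ b, p.map θ = p.map θ₁ →
      (Stk.ofPshMap c).map mm ≫ y'.obj.iso.hom = x'.obj.iso.hom ≫ p.map θ := by
    intro θ hθ
    apply Stk.EltObj.hom_ext
    have h1 : (eqToHom hy).hom = 𝟙 (p.obj b).base := by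
      have : ∀ {a b : Stk.EltObj G} (h : a = b), (eqToHom h).hom = eqToHom (congrArg Stk.EltObj.base h) := by
        rintro a _ rfl; rfl
      rw [this]; rfl
    have h2 : (eqToHom hx).hom = 𝟙 (p.obj a).base := by
      have : ∀ {a b : Stk.EltObj G} (h : a = b), (eqToHom h).hom = eqToHom (congrArg Stk.EltObj.base h) := by
        rintro a _ rfl; rfl
      rw [this]; rfl
    show m ≫ (eqToHom hy).hom = (eqToHom hx).hom ≫ (p.map θ).hom
    rw [h1, h2, hθ]
    exact (Category.comp_id m).trans (Category.id_comp m).symm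
  let φ : x' ⟶ y' := fpHom mm θ₁ (hw θ₁ rfl)
  let ψ : x' ⟶ y' := fpHom mm θ₂ (hw θ₂ hp.symm)
  haveI : (fp (Stk.ofPshMap c) p).p.IsHomLift m φ := IsHomLift.map _ φ
  haveI : (fp (Stk.ofPshMap c) p).p.IsHomLift m ψ := IsHomLift.map _ ψ
  exact congrArg (fun t => t.hom.snd) (hom_eq_of_thin hset.2 m φ ψ)

/-- A prestack over a presheaf which is a setoid after pulling back along a local surjection is a setoid. -/
theorem isFibSetoid_of_cover (hst : Stk.IsPrestack J 𝒵) [Presheaf.IsLocallySurjective J c]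
    (hset : IsFibSetoid (fp (Stk.ofPshMap c) p).p) : IsFibSetoid 𝒵.p := by
  haveI := hst.1
  refine ⟨inferInstance, fun T => ?_⟩
  haveI := evalAtId_isEquivalence (𝒳 := 𝒵) (U := T)
  let E := evalAtId 𝒵 T
  suffices key : ∀ {A B : overCat T ⥤ᵇ 𝒵} (α β : A ⟶ B), α = β by
    intro x y
    refine ⟨fun φ ψ => ?_⟩
    let eA := E.objObjPreimageIso x
    let eB := E.objObjPreimageIso y
    obtain ⟨α, hα⟩ := E.map_surjective (eA.hom ≫ φ ≫ eB.inv)
    obtain ⟨β, hβ⟩ := E.map_surjective (eA.hom ≫ ψ ≫ eB.inv)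
    rw [key α β, hβ, Iso.cancel_iso_hom_left] at hα
    exact ((Iso.cancel_iso_inv_right _ _ _).mp hα).symm
  intro A B α β
  let Φ := BasedFunctor.comp B p
  let hid : T = (Φ.obj (Over.mk (𝟙 T))).base := (Φ.w_obj (Over.mk (𝟙 T))).symm
  let s : G.obj (op T) := G.map (eqToHom hid).op (Φ.obj (Over.mk (𝟙 T))).sec
  haveI := (hst.2 _ (Presheaf.imageSieve_mem J c s)).2
  refine (Stk.resSieve (Presheaf.imageSieve c s) 𝒵).map_injective (bnt_ext fun g => ?_)
  let a := (Stk.sieveIncl (Presheaf.imageSieve c s)).obj g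
  obtain ⟨h, hh⟩ := g.property
  have hl : ∀ γ : A ⟶ B, 𝒵.p.IsHomLift (𝟙 a.left) (γ.toNatTrans.app a) :=
    fun γ => BasedNatTrans.isHomLift γ rfl
  have hb : (Φ.obj a).base = a.left := Φ.w_obj a
  have hsec : (Φ.obj a).sec = G.map (eqToHom hb ≫ a.hom).op s := by
    have hm := (Φ.map (toId a)).map_sec
    have hhom : (Φ.map (toId a)).hom = eqToHom hb ≫ a.hom ≫ eqToHom hid :=
      @IsHomLift.fac' _ _ _ _ _ _ _ _ _ a.hom (Φ.map (toId a)) (lift_map Φ (toId a))
    rw [← hm, hhom, ← Functor.map_comp_apply]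
    exact congrArg (fun t => G.map t (Φ.obj (Over.mk (𝟙 T))).sec) (by rw [← op_comp]; simp)
  refine @eq_of_sec_lift _ _ _ _ _ _ p hset _ _ _ _ (𝟙 a.left) _ _ (hl α) (hl β) (H.map (eqToHom hb).op h) ?_
  refine (NatTrans.naturality_apply c _ h).trans (Eq.trans ?_ hsec.symm)
  rw [hh, op_comp, Functor.map_comp_apply]
  rfl

end Setoid

variable {S : Scheme.{u}} {𝒳 𝒴 : AlgSt.Cat S}

lemma isPrestack_J_of_isAlgStack (h : AlgSt.IsAlgStack Scheme.fppfPrecoverage 𝒳) :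
    Stk.IsStack (AlgSp.J S) 𝒳 :=
  h.isStack

/-- A map of spaces which is flat, locally of finite presentation and surjective is locally surjective. -/
lemma isLocallySurjective_of_fppf {A B : Sp S} (hA : IsAlgSpace A) (hB : IsAlgSpace B) (c : A ⟶ B)
    (h₁ : LocP @Flat c) (h₂ : LocP @LocallyOfFinitePresentation c) (h₃ : IsSurjectiveMor c) :
    Sheaf.IsLocallySurjective c := by
  refine isLocallySurjective_of_repBySp_fppf c ((repBySpWith_hom_iff _ _).mpr ?_)
  intro U ξ W' fst snd sq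
  have hU := IsAlgSpace.yon_obj (S := S) U
  have hW := isAlgSpace_of_isPullback hA hU hB sq
  exact ⟨hW, ⟨good_surjective.bc hA hB hW hU _ _ _ _ sq h₃, good_flat.bc hA hB hW hU _ _ _ _ sq h₁⟩,
    good_lfp.bc hA hB hW hU _ _ _ _ sq h₂⟩

/-- Effective descent: a functor is representable with a property as soon as it is so over a flat covering. -/
theorem repByAlgSpWith_repWith_of_along {P P' : MorphismProperty Scheme.{u}} [P.IsStableUnderBaseChange]
    [P'.IsStableUnderBaseChange] [P.DescendsAlong (@Surjective ⊓ @Flat ⊓ @LocallyOfFinitePresentation)]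
    (hle : P ≤ P') (hP' : IsEffClass S P') (h𝒳 : Stk.IsStack (AlgSp.J S) 𝒳) (h𝒴 : Stk.IsPrestack (AlgSp.J S) 𝒴)
    {f : 𝒳 ⥤ᵇ 𝒴} {W V : Sp S} (hW : IsAlgSpace W) {w : AlgSt.ofSp W ⥤ᵇ 𝒴}
    (hw₁ : AlgSt.RepByAlgSpWith (LocP @Flat) w)
    (hw₂ : AlgSt.RepByAlgSpWith (LocP @LocallyOfFinitePresentation) w)
    (hw₃ : AlgSt.RepByAlgSpWith IsSurjectiveMor w) {a : V ⟶ W} (hV : Along w f a.hom) (ha : RepWith P a) :
    AlgSt.RepByAlgSpWith (RepWith P) f := by
  haveI := h𝒳.1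
  haveI := h𝒴.1
  rw [repByAlgSpWith_iff]
  intro U u
  have hU := IsAlgSpace.yon_obj (S := S) U
  obtain ⟨W', c, hW', hc, hc₁⟩ := (repByAlgSpWith_iff _ w).mp hw₁ U u
  have hc₂ := prop_of_along good_lfp.bc.precomp_iso hw₂ hc
  have hc₃ := prop_of_along good_surjective.bc.precomp_iso hw₃ hc
  haveI := isLocallySurjective_of_fppf hW' hU c hc₁ hc₂ hc₃
  obtain ⟨e, he, ⟨β⟩⟩ := hc
  let v : AlgSt.ofSp W' ⥤ᵇ AlgSt.ofSp W := BasedFunctor.comp e (FibCat.fpSnd u w)
  have hv : BasedFunctor.comp v w ≅ BasedFunctor.comp (Stk.ofPshMap c.hom) u :=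
    (whiskerLeftIso' e (fpIso u w)).symm ≪≫ whiskerRightIso' β u
  obtain ⟨αv⟩ := nonempty_iso_mapOf v
  let v' : W' ⟶ W := ObjectProperty.homMk (mapOf v)
  have sqV := IsPullback.of_hasPullback a v'
  have hK : RepWith P (pullback.snd a v') := repWith_of_isPullback sqV ha
  have hKa : Along (BasedFunctor.comp (Stk.ofPshMap c.hom) u) f (pullback.snd a v').hom :=
    (hV.of_isPullback (isPullback_sheaf sqV)).congr (whiskerRightIso' αv.symm w ≪≫ hv) (Iso.refl _)
  let 𝒵 := fp u f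
  have hZ : Stk.IsStack (AlgSp.J S) 𝒵 := isStack_fp (isStack_ofSp _) h𝒳 h𝒴
  have hset : IsFibSetoid 𝒵.p := by
    obtain ⟨k, hk, -⟩ := hKa
    obtain ⟨k', hk', -⟩ := exists_inverse hk
    refine isFibSetoid_of_cover (c := c.hom) (p := FibCat.fpFst u f) (isPrestack_of_isStack hZ) ?_
    exact isFibSetoid_of_isEquivOver (isFibSetoid_of_isEquivOver isFibSetoid_ofPsh hk')
      (isEquivOver_fpPaste (Stk.ofPshMap c.hom) u f)
  obtain ⟨Pz, k, hk⟩ := exists_ofPsh_equiv hset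
  obtain ⟨απ⟩ := nonempty_iso_mapOf (BasedFunctor.comp k (FibCat.fpFst u f))
  have hsh : Presheaf.IsSheaf (AlgSp.J S) Pz :=
    (isSheaf_iff_isSheaf_of_type _ _).mpr (isStack_ofPsh_iff.mp ((isStack_iff_of_isEquivOver hk).mpr hZ))
  let H : Sp S := ⟨Pz, hsh⟩
  let π : H ⟶ (yon S).obj U := ObjectProperty.homMk (mapOf (BasedFunctor.comp k (FibCat.fpFst u f)))
  have hπ : Along u f π.hom := ⟨k, hk, ⟨απ⟩⟩
  have sqπ := IsPullback.of_hasPullback π c
  obtain ⟨i, hi⟩ := along_hom_unique (hπ.of_isPullback (isPullback_sheaf sqπ)) hKa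
  have hsnd : RepWith P (pullback.snd π c) := hi ▸ MorphismProperty.RespectsIso.precomp _ i.hom _ hK
  have hrep : Representable π := representable_of_cover hP' sqπ ⟨hsnd.rep, fun _ _ g fst snd sq =>
    hle _ (hsnd.property g fst snd sq)⟩
  obtain ⟨Y, s, t, sq⟩ := hrep (𝟙 _)
  haveI : IsIso t := sq.isIso_fst_of_isIso
  have hH : IsAlgSpace H := (IsAlgSpace.yon_obj Y).of_iso (asIso t)
  exact ⟨H, π, hH, hπ, repWith_of_cover sqπ hrep hsnd⟩

end AlgStLib
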