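import Groth.Agent.AlgStLib.Rows1
import Groth.Agent.AlgStLib.Sq
import Groth.Agent.AlgStLib.Classes

/-!
# Composition, cancellation and diagonals of functors representable by algebraic spaces
-/

set_option autoImplicit false
set_option backward.isDefEq.respectTransparency false
set_option backward.isDefEq.respectTransparency.types false

universe v₁ u₁ v₂ u₂ v₃ u₃ w₀ v₀ u

open CategoryTheory CategoryTheory.Limits AlgebraicGeometry Opposite AlgSp FibCat FibLib AlgSpLib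

namespace AlgStLib

section Presheaf

variable {C : Type w₀} [Category.{v₀} C] {G : Cᵒᵖ ⥤ Type u} {𝒳 : BasedCategory.{v₁, u₁} C}
  {𝒴 : BasedCategory.{v₂, u₂} C} {𝒲 : BasedCategory.{v₃, u₃} C}
  {F : 𝒳 ⥤ᵇ Stk.ofPsh G} {F' : 𝒴 ⥤ᵇ Stk.ofPsh G}

/-- Over a presheaf, functors into a fibre product are determined by their components. -/
def fpIsoExtPsh (K L : 𝒲 ⥤ᵇ fp F F')
    (i₁ : BasedFunctor.comp K (FibCat.fpFst F F') ≅ BasedFunctor.comp L (FibCat.fpFst F F'))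
    (i₂ : BasedFunctor.comp K (FibCat.fpSnd F F') ≅ BasedFunctor.comp L (FibCat.fpSnd F F')) : K ≅ L :=
  fpIsoExt K L i₁ i₂ fun x => by
    have l1 : 𝒳.p.IsHomLift (𝟙 (𝒲.p.obj x)) (appIso i₁ x).hom := appIso_lift i₁ rfl
    have l2 : 𝒴.p.IsHomLift (𝟙 (𝒲.p.obj x)) (appIso i₂ x).hom := appIso_lift i₂ rfl
    haveI m1 : (Stk.ofPsh G).p.IsHomLift (𝟙 (𝒲.p.obj x)) (F.map (appIso i₁ x).hom) :=
      @BasedFunctor.preserves_isHomLift _ _ _ _ F _ _ _ _ (𝟙 (𝒲.p.obj x)) (appIso i₁ x).hom l1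
    haveI m2 : (Stk.ofPsh G).p.IsHomLift (𝟙 (𝒲.p.obj x)) (F'.map (appIso i₂ x).hom) :=
      @BasedFunctor.preserves_isHomLift _ _ _ _ F' _ _ _ _ (𝟙 (𝒲.p.obj x)) (appIso i₂ x).hom l2
    haveI m3 : (Stk.ofPsh G).p.IsHomLift (𝟙 (𝒲.p.obj x)) (L.obj x).obj.iso.hom := by
      have e : 𝒳.p.obj (L.obj x).obj.fst = 𝒲.p.obj x := L.w_obj x
      have h : (Stk.ofPsh G).p.IsHomLift (𝟙 (𝒳.p.obj (L.obj x).obj.fst)) (L.obj x).obj.iso.hom :=
        (L.obj x).property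
      rwa [e] at h
    haveI m4 : (Stk.ofPsh G).p.IsHomLift (𝟙 (𝒲.p.obj x)) (K.obj x).obj.iso.hom := by
      have e : 𝒳.p.obj (K.obj x).obj.fst = 𝒲.p.obj x := K.w_obj x
      have h : (Stk.ofPsh G).p.IsHomLift (𝟙 (𝒳.p.obj (K.obj x).obj.fst)) (K.obj x).obj.iso.hom :=
        (K.obj x).property
      rwa [e] at h
    exact elt_hom_eq (𝟙 (𝒲.p.obj x)) _ _

end Presheaf

variable {S : Scheme.{u}} {𝒳 𝒴 𝒵 𝒯 : AlgSt.Cat S}

/-- Base change along a map from an algebraic space, with a property. -/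
theorem exists_along_test [IsFibGrpd 𝒳.p] [IsFibGrpd 𝒴.p] {P : MorphismProperty (Sp S)}
    (hPb : StableBC P) (hP : SchTest P) {f : 𝒳 ⥤ᵇ 𝒴} (hf : AlgSt.RepByAlgSpWith P f)
    {G : Sp S} (hG : IsAlgSpace G) (u : AlgSt.ofSp G ⥤ᵇ 𝒴) :
    ∃ (H : Sp S) (a : H ⟶ G), IsAlgSpace H ∧ Along u f a.hom ∧ P a := by
  obtain ⟨H, a, hH, ha⟩ := exists_along (repByAlgSp1_of_with hf) hG u
  exact ⟨H, a, hH, ha, hP hH hG a fun Z g =>
    prop_of_along hPb.precomp_iso hf (ha.of_isPullback (isPullback_sheaf (IsPullback.of_hasPullback a g)))⟩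

/-- Composition. -/
theorem repByAlgSpWith_comp' [IsFibGrpd 𝒳.p] [IsFibGrpd 𝒴.p] {P : MorphismProperty (Sp S)} (hP : Good P)
    {f : 𝒳 ⥤ᵇ 𝒴} {g : 𝒴 ⥤ᵇ 𝒵} (hf : AlgSt.RepByAlgSpWith P f) (hg : AlgSt.RepByAlgSpWith P g) :
    AlgSt.RepByAlgSpWith P (BasedFunctor.comp f g) := by
  rw [repByAlgSpWith_iff] at hg ⊢
  intro U u
  obtain ⟨H, a, hH, ha, hPa⟩ := hg U u
  obtain ⟨v, hv⟩ := Along.comp (f := f) ha
  obtain ⟨K, b, hK, hb, hPb⟩ := exists_along_test hP.bc hP.test hf hH v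
  exact ⟨K, b ≫ a, hK, hv b.hom hb, hP.comp hK hH (IsAlgSpace.yon_obj U) b a hPb hPa⟩

/-- Cancellation. -/
theorem repByAlgSpWith_of_comp {P Q : MorphismProperty (Sp S)} (hP : StableBC P)
    {F : 𝒳 ⥤ᵇ 𝒴} {G : 𝒴 ⥤ᵇ 𝒵} (hFG : AlgSt.RepByAlgSpWith P (BasedFunctor.comp F G))
    (hG : AlgSt.RepByAlgSpWith Q G)
    (hc : ∀ ⦃X Y Z : Sp S⦄, IsAlgSpace X → IsAlgSpace Y → IsAlgSpace Z →
      ∀ (a : X ⟶ Y) (b : Y ⟶ Z), P (a ≫ b) → Q b → P a) :
    AlgSt.RepByAlgSpWith P F := by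
  rw [repByAlgSpWith_iff] at hFG hG ⊢
  intro U u
  obtain ⟨K, a, hK, ha, hQ⟩ := hG U (BasedFunctor.comp u G)
  have hac := ha
  obtain ⟨e, he, ⟨β⟩⟩ := ha
  obtain ⟨H', c, hH', hc', hPc⟩ := hFG U (BasedFunctor.comp u G)
  obtain ⟨k, hk, ⟨κ⟩⟩ := hc'
  let v : AlgSt.ofSp K ⥤ᵇ 𝒴 := BasedFunctor.comp e (FibCat.fpSnd (BasedFunctor.comp u G) G)
  haveI := full_id 𝒴
  haveI := faithful_id 𝒴
  let E := BasedFunctor.comp
    (fpMap (a := e) (b := BasedFunctor.id 𝒳) (c := BasedFunctor.id 𝒴)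
      (F := FibCat.fpSnd (BasedFunctor.comp u G) G) (G := F) (F' := v) (G' := F) (Iso.refl _) (Iso.refl _))
    (fpCompRight (BasedFunctor.comp u G) F G)
  have hE : IsEquivOver E :=
    isEquivOver_comp (isEquivOver_fpMap _ _ he (isEquivOver_id _)) (isEquivOver_fpCompRight _ F G)
  obtain ⟨E', hE', -, -⟩ := exists_inverse hE
  let b : H' ⟶ K := ObjectProperty.homMk
    (mapOf (P := H'.obj) (Q := K.obj) (BasedFunctor.comp (BasedFunctor.comp k E') (FibCat.fpFst v F)))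
  have hb : Along v F b.hom :=
    ⟨BasedFunctor.comp k E', isEquivOver_comp hk hE', nonempty_iso_mapOf _⟩
  have hba : Along (BasedFunctor.comp u G) (BasedFunctor.comp F G) (b ≫ a).hom := by
    refine PRep.transport (PRep.postcomp hb a.hom) hE ?_
    exact whiskerLeftIso' (FibCat.fpFst v F) β
  obtain ⟨i, hi⟩ := along_hom_unique hba (show Along (BasedFunctor.comp u G) (BasedFunctor.comp F G) c.hom
    from ⟨k, hk, ⟨κ⟩⟩)
  have hU := IsAlgSpace.yon_obj (S := S) U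
  have hPb : P b := hc hH' hK hU b a (hi ▸ hP.precomp_iso i c hH' hU hPc) hQ
  obtain ⟨e', he', -, ⟨γ⟩⟩ := exists_inverse he
  let L : AlgSt.ofSch U ⥤ᵇ fp (BasedFunctor.comp u G) G := fpLift (BasedFunctor.id _) u (Iso.refl _)
  obtain ⟨σ'⟩ := nonempty_iso_mapOf (BasedFunctor.comp L e')
  let σ : (yon S).obj U ⟶ K := ObjectProperty.homMk (mapOf (BasedFunctor.comp L e'))
  have hσ : BasedFunctor.comp (Stk.ofPshMap σ.hom) v ≅ u :=
    (whiskerRightIso' σ' v).symm ≪≫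
      whiskerLeftIso' L (whiskerRightIso' γ (FibCat.fpSnd (BasedFunctor.comp u G) G))
  have sq := IsPullback.of_hasPullback b σ
  have hW := isAlgSpace_pullback hH' hU hK b σ
  exact ⟨_, pullback.snd b σ, hW, (hb.of_isPullback (isPullback_sheaf sq)).congr hσ (Iso.refl _),
    hP hH' hK hW hU b σ _ _ sq hPb⟩

lemma repByAlgSp1_of_comp {F : 𝒳 ⥤ᵇ 𝒴} {G : 𝒴 ⥤ᵇ 𝒵} (hFG : AlgSt.RepByAlgSp1 (BasedFunctor.comp F G))
    (hG : AlgSt.RepByAlgSp1 G) : AlgSt.RepByAlgSp1 F :=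
  (repByAlgSp1_iff_with_top F).mpr (repByAlgSpWith_of_comp good_top.bc
    ((repByAlgSp1_iff_with_top _).mp hFG) ((repByAlgSp1_iff_with_top _).mp hG)
    fun _ _ _ _ _ _ _ _ _ _ => trivial)

section Diagonal

variable {P : MorphismProperty (Sp S)}

lemma repByAlgSpWith_fpSnd {a : 𝒳 ⥤ᵇ 𝒵} (b : 𝒴 ⥤ᵇ 𝒵) (h : AlgSt.RepByAlgSpWith P a) :
    AlgSt.RepByAlgSpWith P (FibCat.fpSnd a b) :=
  (repByAlgSpWith_square_iff (f := FibCat.fpFst b a) (f' := FibCat.fpSnd a b) (a := fpSwap a b)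
    (b := BasedFunctor.id 𝒴) (isEquivOver_fpSwap a b) (isEquivOver_id _) (Iso.refl _) P).mp
    (repByAlgSpWith_fpFst P b h)

theorem repByAlgSpWith_diag_fpFst (f : 𝒳 ⥤ᵇ 𝒴) (g : 𝒵 ⥤ᵇ 𝒴) (h : AlgSt.RepByAlgSpWith P (diag f)) :
    AlgSt.RepByAlgSpWith P (diag (FibCat.fpFst g f)) :=
  (repByAlgSpWith_square_iff (f := FibCat.fpFst (selfMap f g) (diag f)) (f' := diag (FibCat.fpFst g f))
    (b := BasedFunctor.id _) (isTwoCartOver_diag_fpFst f g) (isEquivOver_id _) (Iso.refl _) P).mp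
    (repByAlgSpWith_fpFst P (selfMap f g) h)

theorem repByAlgSpWith_fpPush (a : 𝒯 ⥤ᵇ 𝒴) (b : 𝒳 ⥤ᵇ 𝒴) (g : 𝒴 ⥤ᵇ 𝒵)
    (h : AlgSt.RepByAlgSpWith P (diag g)) : AlgSt.RepByAlgSpWith P (fpPush a b g) :=
  (repByAlgSpWith_square_iff (f := FibCat.fpFst (fpPair a b g) (diag g)) (f' := fpPush a b g)
    (b := BasedFunctor.id _) (isEquivOver_fpMagic a b g) (isEquivOver_id _) (Iso.refl _) P).mp
    (repByAlgSpWith_fpFst P (fpPair a b g) h)

theorem repByAlgSpWith_diag_comp [IsFibGrpd 𝒳.p] [IsFibGrpd 𝒴.p] (hP : Good P) {f : 𝒳 ⥤ᵇ 𝒴}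
    {g : 𝒴 ⥤ᵇ 𝒵} (hf : AlgSt.RepByAlgSpWith P (diag f)) (hg : AlgSt.RepByAlgSpWith P (diag g)) :
    AlgSt.RepByAlgSpWith P (diag (BasedFunctor.comp f g)) := by
  haveI : IsFibGrpd (fp f f).p := isFibGrpd_fp
  exact repByAlgSpWith_congr (diagCompIso f g).symm
    (repByAlgSpWith_comp' hP hf (repByAlgSpWith_fpPush f f g hg))

theorem repByAlgSpWith_diag_of_comp (hP : StableBC P) {Q : MorphismProperty (Sp S)} {f : 𝒳 ⥤ᵇ 𝒴}
    {g : 𝒴 ⥤ᵇ 𝒵} (hfg : AlgSt.RepByAlgSpWith P (diag (BasedFunctor.comp f g)))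
    (hg : AlgSt.RepByAlgSpWith Q (diag g))
    (hc : ∀ ⦃X Y Z : Sp S⦄, IsAlgSpace X → IsAlgSpace Y → IsAlgSpace Z →
      ∀ (a : X ⟶ Y) (b : Y ⟶ Z), P (a ≫ b) → Q b → P a) :
    AlgSt.RepByAlgSpWith P (diag f) :=
  repByAlgSpWith_of_comp hP (repByAlgSpWith_congr (diagCompIso f g) hfg)
    (repByAlgSpWith_fpPush f f g hg) hc

theorem repByAlgSpWith_graph (p : 𝒳 ⥤ᵇ 𝒯) (q : 𝒴 ⥤ᵇ 𝒯) (g : 𝒳 ⥤ᵇ 𝒴)
    (e : BasedFunctor.comp (BasedFunctor.id 𝒳) p ≅ BasedFunctor.comp g q)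
    (h : AlgSt.RepByAlgSpWith P (diag q)) :
    AlgSt.RepByAlgSpWith P (fpLift (BasedFunctor.id 𝒳) g e) := by
  haveI := full_id 𝒯
  haveI := faithful_id 𝒯
  let C := fpMap (a := BasedFunctor.id 𝒳) (b := BasedFunctor.id 𝒴) (c := BasedFunctor.id 𝒯)
    (F := BasedFunctor.comp g q) (G := BasedFunctor.comp (BasedFunctor.id 𝒴) q) (F' := p) (G' := q)
    e.symm (Iso.refl _)
  have hC : IsEquivOver C := isEquivOver_fpMap _ _ (isEquivOver_id _) (isEquivOver_id _)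
  refine (repByAlgSpWith_square_iff (f := fpPush g (BasedFunctor.id 𝒴) q) (a := fpGraph g) (b := C)
    (isEquivOver_fpGraph g) hC ?_ P).mp (repByAlgSpWith_fpPush g (BasedFunctor.id 𝒴) q h)
  refine fpIsoExt _ _ (Iso.refl _) (Iso.refl _) fun x => ?_
  change q.map (g.map (𝟙 x)) ≫ q.map (𝟙 (g.obj x)) =
    ((appIso e x).inv ≫ (appIso e x).hom ≫ 𝟙 _) ≫ q.map (𝟙 (g.obj x))
  simp only [Category.comp_id, Iso.inv_hom_id, g.toFunctor.map_id, q.toFunctor.map_id]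
  exact (Category.id_comp _).symm

theorem repByAlgSpWith_fpComparison (f : 𝒳 ⥤ᵇ 𝒵) (g : 𝒴 ⥤ᵇ 𝒵) (t : 𝒵 ⥤ᵇ 𝒯)
    (e : BasedFunctor.comp (FibCat.fpFst f g) (BasedFunctor.comp f t) ≅
      BasedFunctor.comp (FibCat.fpSnd f g) (BasedFunctor.comp g t))
    (he : ∀ x, e.hom.toNatTrans.app x = t.map x.obj.iso.hom)
    (h : AlgSt.RepByAlgSpWith P (diag t)) :
    AlgSt.RepByAlgSpWith P (fpLift (FibCat.fpFst f g) (FibCat.fpSnd f g) e) := by
  refine repByAlgSpWith_congr ?_ (repByAlgSpWith_fpPush f g t h)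
  refine fpIsoExt _ _ (Iso.refl _) (Iso.refl _) fun x => ?_
  change t.map (f.map (𝟙 x.obj.fst)) ≫ e.hom.toNatTrans.app x =
    t.map x.obj.iso.hom ≫ t.map (g.map (𝟙 x.obj.snd))
  rw [he]
  simp

theorem repByAlgSpWith_section (f : 𝒳 ⥤ᵇ 𝒯) (s : 𝒯 ⥤ᵇ 𝒳) (e : BasedFunctor.comp s f ≅ BasedFunctor.id 𝒯)
    (h : AlgSt.RepByAlgSpWith P (diag f)) : AlgSt.RepByAlgSpWith P s := by
  have h1 := repByAlgSpWith_graph (BasedFunctor.id 𝒯) f s e.symm h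
  have hb : IsEquivOver (FibCat.fpSnd (BasedFunctor.id 𝒯) f) := by
    obtain ⟨E, hE, h₁, h₂⟩ := exists_inverse (isEquivOver_fpGraph f)
    have h₃ : IsEquivOver (FibCat.fpFst f (BasedFunctor.id 𝒯)) := by
      refine ⟨fpGraph f, ⟨?_⟩, ⟨Iso.refl _⟩⟩
      refine fpIsoExt _ _ (Iso.refl _) (fpGraphIso f) fun x => ?_
      change f.map (𝟙 _) ≫ x.obj.iso.hom = 𝟙 _ ≫ x.obj.iso.hom
      rw [f.toFunctor.map_id]
    exact isEquivOver_comp (isEquivOver_fpSwap (BasedFunctor.id 𝒯) f) h₃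
  exact (repByAlgSpWith_square_iff (f := s) (f' := fpLift (F := BasedFunctor.id 𝒯) (G := f) (BasedFunctor.id 𝒯) s e.symm)
    (a := BasedFunctor.id 𝒯) (isEquivOver_id _) hb (Iso.refl _) P).mpr h1

theorem repByAlgSpWith_of_triangle [IsFibGrpd 𝒳.p] [IsFibGrpd 𝒴.p] [IsFibGrpd 𝒵.p] (hP : Good P)
    {f : 𝒳 ⥤ᵇ 𝒴} {a : 𝒳 ⥤ᵇ 𝒵} {b : 𝒴 ⥤ᵇ 𝒵} (e : BasedFunctor.comp f b ≅ a)
    (ha : AlgSt.RepByAlgSpWith P a) (hb : AlgSt.RepByAlgSpWith P (diag b)) :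
    AlgSt.RepByAlgSpWith P f := by
  haveI : IsFibGrpd (fp a b).p := isFibGrpd_fp
  exact repByAlgSpWith_comp' hP (repByAlgSpWith_graph a b f e.symm hb) (repByAlgSpWith_fpSnd b ha)

/-- The diagonal of a functor representable by algebraic spaces. -/
theorem repByAlgSpWith_diag_of_rep (hPb : StableBC P) {Q : MorphismProperty (Sp S)} {f : 𝒳 ⥤ᵇ 𝒴}
    (hf : AlgSt.RepByAlgSpWith Q f)
    (h : ∀ (K : Sp S) (U : Over S) (a : K ⟶ (yon S).obj U), IsAlgSpace K → Q a → P (pullback.diagonal a)) :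
    AlgSt.RepByAlgSpWith P (diag f) := by
  rw [repByAlgSpWith_iff] at hf ⊢
  intro U u
  have hU := IsAlgSpace.yon_obj (S := S) U
  let y := BasedFunctor.comp u (FibCat.fpSnd f f)
  let x := BasedFunctor.comp u (FibCat.fpFst f f)
  let z := BasedFunctor.comp y f
  obtain ⟨K, a, hK, ⟨e, he, ⟨β⟩⟩, hQ⟩ := hf U z
  let lx : AlgSt.ofSch U ⥤ᵇ fp z f :=
    fpLift (BasedFunctor.id _) x (whiskerLeftIso' u (fpIso f f)).symm
  let ly : AlgSt.ofSch U ⥤ᵇ fp z f := fpLift (BasedFunctor.id _) y (Iso.refl _)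
  let p := FibCat.fpFst z f
  let L : AlgSt.ofSch U ⥤ᵇ fp p p := fpLift lx ly (Iso.refl _)
  have hLM : BasedFunctor.comp L (selfMap f z) ≅ u := by
    refine fpIsoExt _ _ (Iso.refl _) (Iso.refl _) fun o => ?_
    change f.map (𝟙 (x.obj o)) ≫ (u.obj o).obj.iso.hom =
      ((u.obj o).obj.iso.hom ≫ z.map (𝟙 o) ≫ 𝟙 _) ≫ f.map (𝟙 (y.obj o))
    simp only [f.toFunctor.map_id, z.toFunctor.map_id]
    erw [Category.comp_id, Category.comp_id, Category.comp_id, Category.id_comp]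
  haveI := full_id (AlgSt.ofSch U)
  haveI := faithful_id (AlgSt.ofSch U)
  let D : fp (Stk.ofPshMap a.hom) (Stk.ofPshMap a.hom) ⥤ᵇ fp p p :=
    fpMap (a := e) (b := e) (c := BasedFunctor.id _) β β
  have hD : IsEquivOver D := isEquivOver_fpMap _ _ he he
  have sqa := isPullback_sheaf (IsPullback.of_hasPullback a a)
  let α : BasedFunctor.comp (Stk.ofPshMap (pullback.fst a a).hom) (Stk.ofPshMap a.hom) ≅
      BasedFunctor.comp (Stk.ofPshMap (pullback.snd a a).hom) (Stk.ofPshMap a.hom) :=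
    eqToIso (by rw [← ofPshMap_comp, ← ofPshMap_comp, sqa.w])
  let E : AlgSt.ofSp (pullback a a) ⥤ᵇ fp p p := BasedFunctor.comp (fpLift _ _ α) D
  have hE : IsEquivOver E := isEquivOver_comp
    (isEquivOver_fpLift_of_bijective sqa.w α (fun T => bijective_toPairs_of_isPullback sqa T)) hD
  have hΔ : BasedFunctor.comp (Stk.ofPshMap (pullback.diagonal a).hom) E ≅ BasedFunctor.comp e (diag p) := by
    have h₁ : (pullback.diagonal a).hom ≫ (pullback.fst a a).hom = 𝟙 K.obj :=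
      congrArg (fun t : K ⟶ K => t.hom) (pullback.diagonal_fst a)
    have h₂ : (pullback.diagonal a).hom ≫ (pullback.snd a a).hom = 𝟙 K.obj :=
      congrArg (fun t : K ⟶ K => t.hom) (pullback.diagonal_snd a)
    refine fpIsoExtPsh _ _ ?_ ?_
    · exact whiskerRightIso' (eqToIso (by rw [← ofPshMap_comp, h₁, ofPshMap_id]) :
        BasedFunctor.comp (Stk.ofPshMap (pullback.diagonal a).hom) (Stk.ofPshMap (pullback.fst a a).hom) ≅
          BasedFunctor.id _) e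
    · exact whiskerRightIso' (eqToIso (by rw [← ofPshMap_comp, h₂, ofPshMap_id]) :
        BasedFunctor.comp (Stk.ofPshMap (pullback.diagonal a).hom) (Stk.ofPshMap (pullback.snd a a).hom) ≅
          BasedFunctor.id _) e
  obtain ⟨E', -, -, ⟨ε⟩⟩ := exists_inverse hE
  obtain ⟨τ⟩ := nonempty_iso_mapOf (BasedFunctor.comp L E')
  let g : (yon S).obj U ⟶ pullback a a := ObjectProperty.homMk (mapOf (BasedFunctor.comp L E'))
  have hg : BasedFunctor.comp (Stk.ofPshMap g.hom) E ≅ L :=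
    (whiskerRightIso' τ E).symm ≪≫ whiskerLeftIso' L ε
  have sq := IsPullback.of_hasPullback (pullback.diagonal a) g
  have hKK := isAlgSpace_pullback hK hK hU a a
  have hW := isAlgSpace_pullback hK hU hKK (pullback.diagonal a) g
  refine ⟨_, pullback.snd (pullback.diagonal a) g, hW, ?_, hPb hK hKK hW hU _ g _ _ sq (h K U a hK hQ)⟩
  have h1 : Along (BasedFunctor.comp (Stk.ofPshMap g.hom) E) (diag p)
      (pullback.snd (pullback.diagonal a) g).hom :=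
    (along_of_square he hE hΔ (Stk.ofPshMap g.hom) _).mp (along_ofPshMap (isPullback_sheaf sq))
  have h2 := (along_of_square (f := FibCat.fpFst (selfMap f z) (diag f)) (f' := diag p)
    (b := BasedFunctor.id _) (isTwoCartOver_diag_fpFst f z) (isEquivOver_id _) (Iso.refl _) L _).mp
      (h1.congr hg (Iso.refl _))
  exact (Along.of_fpFst h2).congr hLM (Iso.refl _)

lemma repByAlgSpWith_diag_of_rep1 (hPb : StableBC P) {f : 𝒳 ⥤ᵇ 𝒴} (hf : AlgSt.RepByAlgSp1 f)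
    (h : ∀ (K : Sp S) (U : Over S) (a : K ⟶ (yon S).obj U), IsAlgSpace K → P (pullback.diagonal a)) :
    AlgSt.RepByAlgSpWith P (diag f) :=
  repByAlgSpWith_diag_of_rep hPb ((repByAlgSp1_iff_with_top f).mp hf) fun K U a hK _ => h K U a hK

lemma isRepresentable1_of_representable {f : 𝒳 ⥤ᵇ 𝒴}
    (h : AlgSt.RepByAlgSpWith (AlgSp.Representable : MorphismProperty (Sp S)) f) : IsRepresentable1 f := by
  intro U y
  obtain ⟨F, e, he, hP⟩ := h U y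
  obtain ⟨V, t, fst, sq⟩ := hP (𝟙 _)
  haveI := sq.isIso_fst_of_isIso
  let i : ((yon S).obj V).obj ≅ F.obj.obj := (sheafToPresheaf (J S) _).mapIso (asIso fst)
  exact ⟨V, EquivTo.symm ⟨_, isEquivOver_comp
    (isEquivOver_comp (isEquivOver_ofOverCat V) (isEquivOver_ofPshMap i)) he⟩⟩

lemma isRepresentable1_diag_of_rep1 {f : 𝒳 ⥤ᵇ 𝒴} (hf : AlgSt.RepByAlgSp1 f) :
    IsRepresentable1 (diag f) :=
  isRepresentable1_of_representable (repByAlgSpWith_diag_of_rep1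
    (fun _ _ _ _ _ _ _ _ _ _ _ _ sq h => rep_of_isPullback sq h) hf
    fun _ _ a hK => (repWith_diagonal_properties hK a).1)

end Diagonal

end AlgStLib
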