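import Groth.Agent.AlgStLib.SelfBC
import Groth.Agent.AlgStLib.Rows3
import Groth.Agent.AlgStLib.Rows5
import Groth.Agent.FibLib.Fp

/-!
# The inertia of a morphism of algebraic stacks
-/

set_option autoImplicit false
set_option backward.isDefEq.respectTransparency false
set_option backward.isDefEq.respectTransparency.types false

universe u

open CategoryTheory CategoryTheory.Limits AlgebraicGeometry Opposite AlgSp FibCat FibLib AlgSpLib

noncomputable section

namespace AlgStLib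

variable {S : Scheme.{u}} {𝒳 𝒴 : AlgSt.Cat S} {P : MorphismProperty (Sp S)} {K K' : Precoverage Scheme.{u}}

lemma repByAlgSpWith_inertiaToBase_iff (f : 𝒳 ⥤ᵇ 𝒴) (P : MorphismProperty (Sp S)) :
    AlgSt.RepByAlgSpWith P (inertiaToBase f) ↔ AlgSt.RepByAlgSpWith P (FibCat.fpFst (diag f) (diag f)) :=
  (repByAlgSpWith_square_iff (f := FibCat.fpFst (diag f) (diag f)) (f' := inertiaToBase f)
    (a := inertiaToFpDiag f) (b := BasedFunctor.id _) (isEquivOver_inertiaToFpDiag f) (isEquivOver_id _)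
    (Iso.refl _) P).symm

lemma repByAlgSpWith_inertiaNeutral_iff (f : 𝒳 ⥤ᵇ 𝒴) (P : MorphismProperty (Sp S)) :
    AlgSt.RepByAlgSpWith P (inertiaNeutral f) ↔ AlgSt.RepByAlgSpWith P (diag (diag f)) :=
  (repByAlgSpWith_square_iff (f := diag (diag f)) (f' := inertiaNeutral f)
    (a := BasedFunctor.id _) (b := inertiaToFpDiag f) (isEquivOver_id _) (isEquivOver_inertiaToFpDiag f)
    (fpIsoExt _ _ (Iso.refl _) (Iso.refl _) fun x => by
      change (diag f).map (𝟙 x) ≫ 𝟙 _ = _ ≫ (diag f).map (𝟙 x)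
      rw [show (diag f).map (𝟙 x) = 𝟙 _ from (diag f).toFunctor.map_id x]
      simp
      rfl) P).symm

/-- A property detected by base change along itself. -/
theorem repByAlgSpWith_of_self {𝒲 : AlgSt.Cat S} [IsFibGrpd 𝒳.p] [IsFibGrpd 𝒲.p] {g : 𝒳 ⥤ᵇ 𝒲}
    (hP : Good P) (hg : AlgSt.RepByAlgSpWith (LocP @LocallyOfFiniteType) g)
    (hd : ∀ ⦃H U : Sp S⦄, IsAlgSpace H → IsAlgSpace U → ∀ (a : H ⟶ U),
      LocP @LocallyOfFiniteType a → P (pullback.fst a a) → P a)
    (h : AlgSt.RepByAlgSpWith P (FibCat.fpFst g g)) : AlgSt.RepByAlgSpWith P g := by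
  refine repByAlgSpWith_of_forall (repByAlgSp1_of_with hg) fun U u H a hH ha => ?_
  haveI : IsFibGrpd (AlgSt.ofSp H).p := Stk.isFibGrpd_ofPsh _
  haveI : IsFibGrpd (fp g g).p := isFibGrpd_fp
  have hla := prop_of_along good_lft.bc.precomp_iso hg ha
  have ha' := ha.of_isPullback (isPullback_sheaf (IsPullback.of_hasPullback a a).flip)
  obtain ⟨e, he, ⟨β⟩⟩ := ha
  have hA : Along (BasedFunctor.comp e (FibCat.fpSnd u g)) (FibCat.fpFst g g) (pullback.fst a a).hom :=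
    Along.fpFst (u := BasedFunctor.comp e (FibCat.fpSnd u g)) (g := g)
      (ha'.congr (whiskerRightIso' β.symm u ≪≫ whiskerLeftIso' e (fpIso u g)) (Iso.refl _))
  exact hd hH (IsAlgSpace.yon_obj U) a hla (prop_of_along_space hP.bc hP.test h hH
    (isAlgSpace_pullback hH hH (IsAlgSpace.yon_obj U) a a) hA)

variable (h𝒳 : AlgSt.IsAlgStack K 𝒳) (h𝒴 : AlgSt.IsAlgStack K' 𝒴) (f : 𝒳 ⥤ᵇ 𝒴)
include h𝒳 h𝒴

theorem isDMMor_iff_inertia :
    AlgSt.RepByAlgSpWith (LocP (@LocallyOfFiniteType ⊓ @FormallyUnramified)) (inertiaToBase f) ↔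
      AlgSt.IsDMMor f := by
  haveI := isFibGrpd_of_isAlgStack h𝒳
  haveI := isFibGrpd_of_isAlgStack h𝒴
  haveI : IsFibGrpd (fp f f).p := isFibGrpd_fp
  rw [repByAlgSpWith_inertiaToBase_iff]
  exact ⟨repByAlgSpWith_of_self good_unramified (repByAlgSpWith_lft_diag h𝒳 h𝒴 f)
    fun _ _ h1 h2 _ hl h => locP_unramified_of_self h1 h2 hl h, fun h => repByAlgSpWith_fpFst _ (diag f) h⟩

theorem isQuasiDMMor_iff_inertia :
    AlgSt.RepByAlgSpWith (LocP (@LocallyQuasiFinite ⊓ @LocallyOfFiniteType)) (inertiaToBase f) ↔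
      AlgSt.IsQuasiDMMor f := by
  haveI := isFibGrpd_of_isAlgStack h𝒳
  haveI := isFibGrpd_of_isAlgStack h𝒴
  haveI : IsFibGrpd (fp f f).p := isFibGrpd_fp
  rw [repByAlgSpWith_inertiaToBase_iff]
  exact ⟨repByAlgSpWith_of_self good_lqf (repByAlgSpWith_lft_diag h𝒳 h𝒴 f)
    fun _ _ h1 h2 _ hl h => locP_lqf_of_self h1 h2 hl h, fun h => repByAlgSpWith_fpFst _ (diag f) h⟩

theorem tfae_inertia_separated :
    [AlgSt.RepByAlgSpWith IsSeparatedMor (inertiaToBase f),
      AlgSt.RepByAlgSpWith IsSeparatedMor (diag f),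
      AlgSt.IsClosedImm (inertiaNeutral f)].TFAE := by
  haveI := isFibGrpd_of_isAlgStack h𝒳
  haveI := isFibGrpd_of_isAlgStack h𝒴
  haveI : IsFibGrpd (fp f f).p := isFibGrpd_fp
  haveI : IsFibGrpd (fp (diag f) (diag f)).p := isFibGrpd_fp
  have hΔ := repByAlgSp1_diag h𝒳 h𝒴 f
  tfae_have 2 → 1 := fun h => (repByAlgSpWith_inertiaToBase_iff f _).2 (repByAlgSpWith_fpFst _ (diag f) h)
  tfae_have 1 → 3 := fun h => (repByAlgSpWith_inertiaNeutral_iff f _).2
    (repByAlgSpWith_section (FibCat.fpFst (diag f) (diag f)) (diag (diag f)) (Iso.refl _)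
      (isClosedImm_diag_of_separated ((repByAlgSpWith_inertiaToBase_iff f _).1 h)))
  tfae_have 3 → 2 := fun h => ((tfae_separated hΔ).out 0 1).2 ((repByAlgSpWith_inertiaNeutral_iff f _).1 h)
  tfae_finish

theorem tfae_inertia_quasiSeparated :
    [AlgSt.RepByAlgSpWith IsQuasiSeparatedMor (inertiaToBase f),
      AlgSt.RepByAlgSpWith IsQuasiSeparatedMor (diag f),
      AlgSt.RepByAlgSpWith IsQuasiCompactMor (inertiaNeutral f)].TFAE := by
  haveI := isFibGrpd_of_isAlgStack h𝒳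
  haveI := isFibGrpd_of_isAlgStack h𝒴
  haveI : IsFibGrpd (fp f f).p := isFibGrpd_fp
  haveI : IsFibGrpd (fp (diag f) (diag f)).p := isFibGrpd_fp
  have hΔ := repByAlgSp1_diag h𝒳 h𝒴 f
  tfae_have 2 → 1 := fun h => (repByAlgSpWith_inertiaToBase_iff f _).2 (repByAlgSpWith_fpFst _ (diag f) h)
  tfae_have 1 → 3 := fun h => (repByAlgSpWith_inertiaNeutral_iff f _).2
    (repByAlgSpWith_section (FibCat.fpFst (diag f) (diag f)) (diag (diag f)) (Iso.refl _)
      (((tfae_quasiSeparated (repByAlgSp1_of_with ((repByAlgSpWith_inertiaToBase_iff f _).1 h))).out 0 1).1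
        ((repByAlgSpWith_inertiaToBase_iff f _).1 h)))
  tfae_have 3 → 2 := fun h => ((tfae_quasiSeparated hΔ).out 0 1).2 ((repByAlgSpWith_inertiaNeutral_iff f _).1 h)
  tfae_finish

end AlgStLib
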