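import Groth.Agent.AlgStLib.PointsQc

/-!
# Universal injectivity, read on points
-/

set_option autoImplicit false
set_option backward.isDefEq.respectTransparency false
set_option backward.isDefEq.respectTransparency.types false

universe u

open CategoryTheory CategoryTheory.Limits AlgebraicGeometry Opposite AlgSp FibCat FibLib AlgSpLib Topology

noncomputable section

namespace AlgStLib

variable {S : Scheme.{u}} {𝒳 𝒴 𝒵 𝒵' : AlgSt.Cat S}

lemma injective_fp_congr {g g' : 𝒵 ⥤ᵇ 𝒴} (α : g ≅ g') (f : 𝒳 ⥤ᵇ 𝒴)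
    (h : Function.Injective (AlgSt.Points.map (FibCat.fpFst g' f))) :
    Function.Injective (AlgSt.Points.map (FibCat.fpFst g f)) := by
  let E : fp g f ⥤ᵇ fp g' f := fpLift (FibCat.fpFst g f) (FibCat.fpSnd g f)
    (whiskerLeftIso' (FibCat.fpFst g f) α.symm ≪≫ fpIso g f)
  let E' : fp g' f ⥤ᵇ fp g f := fpLift (FibCat.fpFst g' f) (FibCat.fpSnd g' f)
    (whiskerLeftIso' (FibCat.fpFst g' f) α ≪≫ fpIso g' f)
  have e : BasedFunctor.comp E E' ≅ BasedFunctor.id _ := fpIsoExt _ _ (Iso.refl _) (Iso.refl _) fun x => by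
    change g.map (𝟙 x.obj.fst) ≫ x.obj.iso.hom =
      ((appIso α x.obj.fst).hom ≫ (appIso α x.obj.fst).inv ≫ x.obj.iso.hom) ≫ f.map (𝟙 x.obj.snd)
    rw [g.toFunctor.map_id, f.toFunctor.map_id]
    simp
  intro w w' hw
  have hE : Function.Injective (AlgSt.Points.map E) := fun a b hab => by
    have := congrArg (AlgSt.Points.map E') hab
    rwa [← map_comp, ← map_comp, map_congr e, map_id, map_id] at this
  apply hE
  apply h
  rw [← map_comp, ← map_comp]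
  exact hw

lemma injective_paste (a : 𝒵' ⥤ᵇ 𝒵) (g : 𝒵 ⥤ᵇ 𝒴) (f : 𝒳 ⥤ᵇ 𝒴) :
    Function.Injective (AlgSt.Points.map (FibCat.fpFst a (FibCat.fpFst g f))) ↔
      Function.Injective (AlgSt.Points.map (FibCat.fpFst (BasedFunctor.comp a g) f)) := by
  have hb := map_bijective_of_isEquivOver (isEquivOver_fpPaste a g f)
  have e : AlgSt.Points.map (FibCat.fpFst a (FibCat.fpFst g f)) =
      AlgSt.Points.map (FibCat.fpFst (BasedFunctor.comp a g) f) ∘ AlgSt.Points.map (fpPaste a g f) := by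
    funext x
    exact (congrArg (fun t => AlgSt.Points.map t x)
      (rfl : BasedFunctor.comp (fpPaste a g f) (FibCat.fpFst _ f) = FibCat.fpFst a (FibCat.fpFst g f))).symm.trans
      (map_comp _ _ x)
  rw [e]
  exact ⟨fun h => h.of_comp_right hb.2, fun h => h.comp hb.1⟩

/-- Injectivity of a base change descends along a functor surjective on points. -/
lemma injective_of_surjective_base [IsFibGrpd 𝒳.p] [IsFibGrpd 𝒴.p] [IsFibGrpd 𝒵.p] [IsFibGrpd 𝒵'.p]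
    {g : 𝒵 ⥤ᵇ 𝒴} {f : 𝒳 ⥤ᵇ 𝒴} (a : 𝒵' ⥤ᵇ 𝒵)
    (h : Function.Injective (AlgSt.Points.map (FibCat.fpFst (BasedFunctor.comp a g) f)))
    {w w' : AlgSt.Points (fp g f)}
    (hw : AlgSt.Points.map (FibCat.fpFst g f) w = AlgSt.Points.map (FibCat.fpFst g f) w')
    (hz : AlgSt.Points.map (FibCat.fpFst g f) w ∈ Set.range (AlgSt.Points.map a)) : w = w' := by
  haveI : IsFibGrpd (fp g f).p := isFibGrpd_fp
  obtain ⟨z, hz⟩ := hz
  obtain ⟨v, hv, hv₁⟩ := exists_point_fp (g := a) (f := FibCat.fpFst g f) z w hz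
  obtain ⟨v', hv', hv₁'⟩ := exists_point_fp (g := a) (f := FibCat.fpFst g f) z w' (hz.trans hw)
  rw [← hv₁, ← hv₁', (injective_paste a g f).2 h (hv.trans hv'.symm)]

theorem isUnivInjective_fpFst {K : Precoverage Scheme.{u}} {f : 𝒳 ⥤ᵇ 𝒴} (g : 𝒵 ⥤ᵇ 𝒴)
    (hf : AlgSt.IsUnivInjective K f) : AlgSt.IsUnivInjective K (FibCat.fpFst g f) :=
  fun 𝒯 h𝒯 h => (injective_paste h g f).2 (hf 𝒯 h𝒯 _)

theorem isUnivInjective_comp (h𝒴 : AlgSt.IsAlgStack Scheme.fppfPrecoverage 𝒴)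
    (h𝒵 : AlgSt.IsAlgStack Scheme.fppfPrecoverage 𝒵) {f : 𝒳 ⥤ᵇ 𝒴} {g : 𝒴 ⥤ᵇ 𝒵}
    (hf : AlgSt.IsUnivInjective Scheme.fppfPrecoverage f) (hg : AlgSt.IsUnivInjective Scheme.fppfPrecoverage g) :
    AlgSt.IsUnivInjective Scheme.fppfPrecoverage (BasedFunctor.comp f g) := by
  intro 𝒯 h𝒯 h
  have hfp := isAlgStack_fp (isPrestack_of_isStack h𝒵.isStack) h𝒵.diag h𝒯 h𝒴 h g
  have h1 : Function.Injective (AlgSt.Points.map (FibCat.fpFst (FibCat.fpSnd h g) f)) := hf _ hfp _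
  have h2 : Function.Injective (AlgSt.Points.map (FibCat.fpFst h g)) := hg _ h𝒯 h
  have hb := map_bijective_of_isEquivOver (isEquivOver_fpCompRight h f g)
  refine Function.Injective.of_comp_right ?_ hb.2
  have e : AlgSt.Points.map (FibCat.fpFst h (BasedFunctor.comp f g)) ∘ AlgSt.Points.map (fpCompRight h f g) =
      AlgSt.Points.map (FibCat.fpFst h g) ∘ AlgSt.Points.map (FibCat.fpFst (FibCat.fpSnd h g) f) := by
    funext x
    have e' : BasedFunctor.comp (fpCompRight h f g) (FibCat.fpFst h (BasedFunctor.comp f g)) =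
        BasedFunctor.comp (FibCat.fpFst (FibCat.fpSnd h g) f) (FibCat.fpFst h g) := rfl
    simp only [Function.comp_apply]
    rw [← map_comp, ← map_comp, e']
  rw [e]
  exact h2.comp h1

lemma isAlgStack_ofSch (T : Over S) : AlgSt.IsAlgStack Scheme.fppfPrecoverage (AlgSt.ofSch T) :=
  (isDM_of_repByAlgSp (repByAlgSp_ofSp (IsAlgSpace.yon_obj T)) (isStack_ofSp _)).1

lemma isAlgStack_overCat (T : Over S) : AlgSt.IsAlgStack Scheme.fppfPrecoverage (overCat T : AlgSt.Cat S) :=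
  (isDM_of_repByAlgSp (repByAlgSp_overCat T) (isStack_of_repByAlgSp (repByAlgSp_overCat T))).1

theorem isUnivInjective_of_affine (h𝒳 : AlgSt.IsAlgStack Scheme.fppfPrecoverage 𝒳)
    (h𝒴 : AlgSt.IsAlgStack Scheme.fppfPrecoverage 𝒴) (f : 𝒳 ⥤ᵇ 𝒴)
    (h : ∀ (Z : Over S) [IsAffine Z.left] (z : FibCat.overCat Z ⥤ᵇ 𝒴),
      AlgSt.IsUnivInjective Scheme.fppfPrecoverage (FibCat.fpFst z f)) :
    AlgSt.IsUnivInjective Scheme.fppfPrecoverage f := by
  intro 𝒯 h𝒯 g w w' hw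
  haveI := isFibGrpd_of_isAlgStack h𝒳
  haveI := isFibGrpd_of_isAlgStack h𝒴
  haveI := isFibGrpd_of_isAlgStack h𝒯
  obtain ⟨p, hp⟩ := AlgSt.Points.mk_surjective (AlgSt.Points.map (FibCat.fpFst g f) w)
  let T : Over S := Over.mk p.str
  haveI := isFibGrpd_overCat T
  let x : 𝒯.p.Fiber T := Functor.Fiber.mk (p := 𝒯.p) p.lies
  obtain ⟨k⟩ := nonempty_evalAtId_ofPoint_iso x
  let a : overCat T ⥤ᵇ 𝒯 := ofPoint x
  refine injective_of_surjective_base a ?_ hw ?_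
  · haveI : IsAffine T.left := inferInstanceAs (IsAffine (Spec _))
    have h' := h T (BasedFunctor.comp a g) _ (isAlgStack_overCat T) (BasedFunctor.id _)
    exact injective_fp_congr (Iso.refl _) f ((injective_paste (BasedFunctor.id _) (BasedFunctor.comp a g) f).1 h')
  · exact ⟨AlgSt.Points.mk { K := p.K, str := p.str, obj := Over.mk (𝟙 T), lies := rfl },
      (mk_eq_of_hom (q := p) k.hom.1).trans hp⟩

theorem isUnivInjective_of_cover (h𝒳 : AlgSt.IsAlgStack Scheme.fppfPrecoverage 𝒳)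
    (h𝒴 : AlgSt.IsAlgStack Scheme.fppfPrecoverage 𝒴) (f : 𝒳 ⥤ᵇ 𝒴) (W : AlgSp.Space S)
    (w : AlgSt.ofSp W.obj ⥤ᵇ 𝒴) (hw₃ : AlgSt.RepByAlgSpWith AlgSp.IsSurjectiveMor w)
    (h : AlgSt.IsUnivInjective Scheme.fppfPrecoverage (FibCat.fpFst w f)) :
    AlgSt.IsUnivInjective Scheme.fppfPrecoverage f := by
  intro 𝒯 h𝒯 g v v' hv
  haveI := isFibGrpd_of_isAlgStack h𝒳
  haveI := isFibGrpd_of_isAlgStack h𝒴
  haveI := isFibGrpd_of_isAlgStack h𝒯
  haveI : IsFibGrpd (AlgSt.ofSp W.obj).p := Stk.isFibGrpd_ofPsh _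
  haveI : IsFibGrpd (fp g w).p := isFibGrpd_fp
  have hW : AlgSt.IsAlgStack Scheme.fppfPrecoverage (AlgSt.ofSp W.obj) :=
    (isDM_of_repByAlgSp (repByAlgSp_ofSp W.property) (isStack_ofSp _)).1
  have hfp := isAlgStack_fp (isPrestack_of_isStack h𝒴.isStack) h𝒴.diag h𝒯 hW g w
  refine injective_of_surjective_base (FibCat.fpFst g w) ?_ hv
    (surjective_fpFst (surjective_of_repByAlgSpWith hw₃) _)
  exact injective_fp_congr (fpIso g w) f ((injective_paste (FibCat.fpSnd g w) w f).1 (h _ hfp _))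

theorem injective_of_isMono [IsFibGrpd 𝒳.p] [IsFibGrpd 𝒴.p] {f : 𝒳 ⥤ᵇ 𝒴} (hf : AlgSt.IsMono f) :
    Function.Injective (AlgSt.Points.map f) := fun x y h => by
  haveI := full_of_isMono hf
  haveI := faithful_of_repByAlgSp1 (repByAlgSp1_of_with hf)
  obtain ⟨w, rfl, rfl⟩ := exists_point_fp (g := f) (f := f) x y h
  obtain ⟨z, rfl⟩ := (map_bijective_of_isEquivOver (isEquivOver_diag (G := f))).2 w
  rw [← map_comp, ← map_comp]
  rfl

end AlgStLib
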