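import Groth.Agent.AlgStLib.SmLoc
import Groth.Agent.AlgStLib.UnivInj
import Groth.Agent.AlgSpLib.LocalST

/-!
# Properties of morphisms of algebraic stacks read on smooth charts
-/

set_option autoImplicit false
set_option backward.isDefEq.respectTransparency false
set_option backward.isDefEq.respectTransparency.types false

universe u

open CategoryTheory CategoryTheory.Limits AlgebraicGeometry Opposite AlgSp FibCat FibLib AlgSpLib Topology

noncomputable section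

namespace AlgStLib

variable {S : Scheme.{u}} {𝒳 𝒴 𝒵 : AlgSt.Cat S} {P : MorphismProperty (Sp S)}

/-- A property of the map of sheaves from that of the functor. -/
lemma prop_of_ofPshMap (hPb : StableBC P) (hPt : SchTest P) {F G : Sp S} (hF : IsAlgSpace F) (hG : IsAlgSpace G)
    {m : F ⟶ G} (h : AlgSt.RepByAlgSpWith P (AlgSt.ofSpMap m)) : P m := by
  haveI : IsFibGrpd (AlgSt.ofSp F).p := Stk.isFibGrpd_ofPsh _
  haveI : IsFibGrpd (AlgSt.ofSp G).p := Stk.isFibGrpd_ofPsh _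
  exact prop_of_along_space hPb hPt h (v := Stk.ofPshMap (𝟙 G : G ⟶ G).hom) hG hF
    (along_ofPshMap (b' := 𝟙 F.obj) (IsPullback.of_horiz_isIso ⟨by simp⟩))

/-- A space square over a functor: both sides smooth, the map with the property. -/
structure Square (P : MorphismProperty (Sp S)) (f : 𝒳 ⥤ᵇ 𝒴) where
  U : Sp S
  V : Sp S
  hU : IsAlgSpace U
  hV : IsAlgSpace V
  x : AlgSt.ofSp U ⥤ᵇ 𝒳
  y : AlgSt.ofSp V ⥤ᵇ 𝒴
  h : U ⟶ V
  α : BasedFunctor.comp x f ≅ BasedFunctor.comp (AlgSt.ofSpMap h) y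
  hx : AlgSt.RepByAlgSpWith (LocP @Smooth) x
  hy : AlgSt.RepByAlgSpWith (LocP @Smooth) y
  hP : P h

/-- The squares cover the points of the source. -/
def Square.Covers (P : MorphismProperty (Sp S)) (f : 𝒳 ⥤ᵇ 𝒴) : Prop :=
  ∀ z : AlgSt.Points 𝒳, ∃ s : Square P f, z ∈ Set.range (AlgSt.Points.map s.x)

/-- Every square smooth over the fibre product has the property, as soon as some squares with it cover. -/
theorem prop_of_covers (hP : IsSmoothLocalST P) (h𝒳 : AlgSt.IsAlgStack Scheme.fppfPrecoverage 𝒳)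
    (h𝒴 : AlgSt.IsAlgStack Scheme.fppfPrecoverage 𝒴) {f : 𝒳 ⥤ᵇ 𝒴} (hc : Square.Covers P f)
    {U' V' : Sp S} (hU' : IsAlgSpace U') (hV' : IsAlgSpace V') {x' : AlgSt.ofSp U' ⥤ᵇ 𝒳}
    {y' : AlgSt.ofSp V' ⥤ᵇ 𝒴} {h' : U' ⟶ V'}
    (α' : BasedFunctor.comp x' f ≅ BasedFunctor.comp (AlgSt.ofSpMap h') y')
    (hy' : AlgSt.RepByAlgSpWith (LocP @Smooth) y')
    (hL' : AlgSt.RepByAlgSpWith (LocP @Smooth) (fpLift (F := f) (G := y') x' (AlgSt.ofSpMap h') α')) : P h' := by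
  refine (hP.locality hU' hV' h').2 fun p => ?_
  obtain ⟨⟨U, V, hU, hV, x, y, h, α, hx, hy, hPh⟩, q, hq⟩ := hc (ptMap x' p)
  haveI := isFibGrpd_of_isAlgStack h𝒳
  haveI := isFibGrpd_of_isAlgStack h𝒴
  haveI : IsFibGrpd (AlgSt.ofSp U).p := Stk.isFibGrpd_ofPsh _
  haveI : IsFibGrpd (AlgSt.ofSp V).p := Stk.isFibGrpd_ofPsh _
  haveI : IsFibGrpd (AlgSt.ofSp U').p := Stk.isFibGrpd_ofPsh _
  haveI : IsFibGrpd (AlgSt.ofSp V').p := Stk.isFibGrpd_ofPsh _
  haveI : IsFibGrpd (fp f y').p := isFibGrpd_fp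
  haveI : IsFibGrpd (fp x (FibCat.fpFst f y')).p := isFibGrpd_fp
  -- the fibre product of the two charts of the target
  obtain ⟨V₂, b₁, hV₂, ⟨e₂, he₂, ⟨β₂⟩⟩, hb₁⟩ := exists_along_test good_smooth.bc good_smooth.test hy' hV y
  obtain ⟨γ₂⟩ := nonempty_iso_mapOf (BasedFunctor.comp e₂ (FibCat.fpSnd y y'))
  let b₂ : V₂ ⟶ V' := ObjectProperty.homMk (mapOf (BasedFunctor.comp e₂ (FibCat.fpSnd y y')))
  have hb₂ : LocP @Smooth b₂ := by
    refine prop_of_ofPshMap good_smooth.bc good_smooth.test hV₂ hV' (repByAlgSpWith_congr γ₂ ?_)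
    exact (repByAlgSpWith_square_iff (f := FibCat.fpSnd y y') (a := e₂) (b := BasedFunctor.id _) he₂
      (isEquivOver_id _) (Iso.refl _) _).mp (repByAlgSpWith_fpSnd y' hy)
  -- the pullback of the given square
  have sq := IsPullback.of_hasPullback h b₁
  have hG := isAlgSpace_pullback hU hV₂ hV h b₁
  let G := pullback h b₁
  let g₁ : G ⟶ U := pullback.fst h b₁
  let g₂ : G ⟶ V₂ := pullback.snd h b₁
  have hPg : P g₂ := hP.baseChange hU hV hG hV₂ h b₁ g₂ g₁ sq hb₁ hPh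
  let D : AlgSt.ofSp G ⥤ᵇ fp (Stk.ofPshMap h.hom) (Stk.ofPshMap b₁.hom) :=
    fpLift (Stk.ofPshMap g₁.hom) (Stk.ofPshMap g₂.hom)
      (eqToIso (by rw [← ofPshMap_comp, ← ofPshMap_comp, (isPullback_sheaf sq).w]))
  have hD : IsEquivOver D := isEquivOver_fpLift_of_bijective (isPullback_sheaf sq).w _
    (fun T => bijective_toPairs_of_isPullback (isPullback_sheaf sq) T)
  haveI := full_id (AlgSt.ofSp V)
  haveI := faithful_id (AlgSt.ofSp V)
  haveI := full_id 𝒴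
  haveI := faithful_id 𝒴
  let M2 : fp (Stk.ofPshMap h.hom) (Stk.ofPshMap b₁.hom) ⥤ᵇ fp (Stk.ofPshMap h.hom) (FibCat.fpFst y y') :=
    fpMap (a := BasedFunctor.id _) (b := e₂) (c := BasedFunctor.id _) (F := Stk.ofPshMap h.hom)
      (G := FibCat.fpFst y y') (F' := Stk.ofPshMap h.hom) (G' := Stk.ofPshMap b₁.hom) (Iso.refl _) β₂
  let M3 : fp (BasedFunctor.comp (Stk.ofPshMap h.hom) y) y' ⥤ᵇ fp (BasedFunctor.comp x f) y' :=
    fpMap (a := BasedFunctor.id _) (b := BasedFunctor.id _) (c := BasedFunctor.id _)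
      (F := BasedFunctor.comp x f) (G := y') (F' := BasedFunctor.comp (Stk.ofPshMap h.hom) y) (G' := y')
      α (Iso.refl _)
  let eG : AlgSt.ofSp G ⥤ᵇ fp (BasedFunctor.comp x f) y' :=
    BasedFunctor.comp (BasedFunctor.comp D M2) (BasedFunctor.comp (fpPaste (Stk.ofPshMap h.hom) y y') M3)
  have heG : IsEquivOver eG := isEquivOver_comp
    (isEquivOver_comp hD (isEquivOver_fpMap _ _ (isEquivOver_id _) he₂))
    (isEquivOver_comp (isEquivOver_fpPaste _ _ _) (isEquivOver_fpMap _ _ (isEquivOver_id _) (isEquivOver_id _)))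
  obtain ⟨eG', heG', -, ⟨κ⟩⟩ := exists_inverse heG
  -- the fibre product of the two charts of the source
  let L' : AlgSt.ofSp U' ⥤ᵇ fp f y' := fpLift x' (AlgSt.ofSpMap h') α'
  let S1 := FibCat.fpSnd x (FibCat.fpFst f y')
  obtain ⟨K, a, hK, ⟨eK, heK, ⟨βK⟩⟩, ha⟩ :=
    exists_along_test good_smooth.bc good_smooth.test (repByAlgSpWith_fpSnd (FibCat.fpFst f y') hx) hU' L'
  let M := BasedFunctor.comp (FibCat.fpSnd L' S1) (fpPaste x f y')
  obtain ⟨γℓ⟩ := nonempty_iso_mapOf (BasedFunctor.comp (BasedFunctor.comp eK M) eG')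
  let ℓ : K ⟶ G := ObjectProperty.homMk (mapOf (BasedFunctor.comp (BasedFunctor.comp eK M) eG'))
  have hℓ : LocP @Smooth ℓ := by
    refine prop_of_ofPshMap good_smooth.bc good_smooth.test hK hG (repByAlgSpWith_congr γℓ ?_)
    exact (repByAlgSpWith_square_iff
      (f := BasedFunctor.comp (FibCat.fpSnd L' S1) (BasedFunctor.comp (fpPaste x f y') eG'))
      (f' := BasedFunctor.comp (BasedFunctor.comp eK M) eG')
      (a := eK) (b := BasedFunctor.id _) heK (isEquivOver_id _) (Iso.refl _) _).mp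
      ((repByAlgSpWith_square_iff (f' := FibCat.fpSnd L' S1)
        (f := BasedFunctor.comp (FibCat.fpSnd L' S1) (BasedFunctor.comp (fpPaste x f y') eG'))
        (a := BasedFunctor.id _) (b := BasedFunctor.comp (fpPaste x f y') eG') (isEquivOver_id _)
        (isEquivOver_comp (isEquivOver_fpPaste _ _ _) heG') (Iso.refl _) _).mpr (repByAlgSpWith_fpSnd S1 hL'))
  -- the point
  have hpt : ∃ k : Points K, Points.map a k = p := by
    have h1 : AlgSt.Points.map x q =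
        AlgSt.Points.map (FibCat.fpFst f y') (AlgSt.Points.map L' ((ptsEquiv U').symm p)) := by
      rw [← map_comp, hq]; rfl
    obtain ⟨w, -, hw⟩ := exists_point_fp (g := x) (f := FibCat.fpFst f y') q _ h1
    obtain ⟨w', hw', -⟩ := exists_point_fp (g := L') (f := S1) ((ptsEquiv U').symm p) w hw.symm
    obtain ⟨k, rfl⟩ := (map_bijective_of_isEquivOver heK).2 w'
    refine ⟨ptsEquiv K k, ?_⟩
    rw [← ptsEquiv_map, ← map_congr βK, map_comp, hw', Equiv.apply_symm_apply]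
  obtain ⟨k, hk⟩ := hpt
  refine ⟨K, V₂, a, b₂, ℓ ≫ g₂, k, hK, hV₂, ha, hb₂, ?_, hk, hP.precomp hK hG hV₂ ℓ g₂ hℓ hPg⟩
  apply ObjectProperty.hom_ext
  refine eq_of_iso_ofPshMap ?_
  refine eqToIso (ofPshMap_comp _ _) ≪≫ whiskerRightIso' βK.symm (AlgSt.ofSpMap h') ≪≫
    whiskerRightIso' (whiskerLeftIso' eK (fpIso L' S1)) (FibCat.fpSnd f y') ≪≫ ?_
  refine (?_ : BasedFunctor.comp (BasedFunctor.comp eK M) (FibCat.fpSnd (BasedFunctor.comp x f) y') ≅ _)
  refine whiskerLeftIso' (BasedFunctor.comp eK M)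
      (whiskerRightIso' κ.symm (FibCat.fpSnd (BasedFunctor.comp x f) y')) ≪≫
    whiskerRightIso' γℓ (BasedFunctor.comp eG (FibCat.fpSnd (BasedFunctor.comp x f) y')) ≪≫ ?_
  exact whiskerLeftIso' (Stk.ofPshMap ℓ.hom) (whiskerLeftIso' (Stk.ofPshMap g₂.hom) γ₂) ≪≫
    eqToIso (by rw [← ofPshMap_comp, ← ofPshMap_comp]; rfl)

end AlgStLib
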