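import Groth.Agent.AlgStLib.PointsQc
import Groth.Agent.AlgStLib.UnivInj

/-!
# Quasi-compact morphisms of algebraic stacks
-/

set_option autoImplicit false
set_option backward.isDefEq.respectTransparency false
set_option backward.isDefEq.respectTransparency.types false

universe u

open CategoryTheory CategoryTheory.Limits AlgebraicGeometry Opposite AlgSp FibCat FibLib AlgSpLib Topology

noncomputable section

namespace AlgStLib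

variable {S : Scheme.{u}} {𝒳 𝒴 𝒵 𝒵' : AlgSt.Cat S}

local notation "IsAS" => AlgSt.IsAlgStack Scheme.fppfPrecoverage
local notation "IsQcM" => AlgSt.IsQuasiCompactMor Scheme.fppfPrecoverage

lemma isAlgStack_fp' (h𝒳 : IsAS 𝒳) (h𝒴 : IsAS 𝒴) (h𝒵 : IsAS 𝒵) (g : 𝒳 ⥤ᵇ 𝒵) (f : 𝒴 ⥤ᵇ 𝒵) :
    IsAS (fp g f) :=
  isAlgStack_fp (isPrestack_of_isStack h𝒵.isStack) h𝒵.diag h𝒳 h𝒴 g f

/-- Quasi-compactness passes along functors surjective on points. -/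
theorem isQuasiCompact_of_surjective (h𝒳 : IsAS 𝒳) (h𝒴 : IsAS 𝒴) (F : 𝒳 ⥤ᵇ 𝒴)
    (hF : Function.Surjective (AlgSt.Points.map F)) (h : AlgSt.IsQuasiCompact 𝒳) : AlgSt.IsQuasiCompact 𝒴 := by
  haveI := isFibGrpd_of_isAlgStack h𝒳
  haveI := isFibGrpd_of_isAlgStack h𝒴
  haveI := compactSpace_of_isQuasiCompact h𝒳.atlas h
  exact isQuasiCompact_of_compactSpace h𝒴.atlas
    ⟨hF.range_eq ▸ isCompact_range (continuous_map h𝒴.atlas F)⟩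

theorem isQuasiCompact_of_equivTo (h𝒳 : IsAS 𝒳) (h𝒴 : IsAS 𝒴) (e : EquivTo 𝒳 𝒴)
    (h : AlgSt.IsQuasiCompact 𝒳) : AlgSt.IsQuasiCompact 𝒴 :=
  let ⟨F, hF⟩ := e
  isQuasiCompact_of_surjective h𝒳 h𝒴 F (map_bijective_of_isEquivOver hF).2 h

lemma isQuasiCompact_ofSp {F : Sp S} (hF : IsAlgSpace F) (h : IsQuasiCompactSp F) :
    AlgSt.IsQuasiCompact (AlgSt.ofSp F) := by
  haveI : IsFibGrpd (AlgSt.ofSp F).p := Stk.isFibGrpd_ofPsh _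
  haveI := compactSpace_points_of_isQuasiCompactSp h
  exact isQuasiCompact_of_compactSpace (hasAtlas_ofSp hF) (ptsHomeo hF).symm.compactSpace

lemma isQuasiCompactSp_of_stack {F : Sp S} (hF : IsAlgSpace F) (h : AlgSt.IsQuasiCompact (AlgSt.ofSp F)) :
    IsQuasiCompactSp F := by
  haveI : IsFibGrpd (AlgSt.ofSp F).p := Stk.isFibGrpd_ofPsh _
  haveI := compactSpace_of_isQuasiCompact (hasAtlas_ofSp hF) h
  exact isQuasiCompactSp_of_compactSpace hF (ptsHomeo hF).compactSpace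

lemma isAlgStack_ofSp {F : Sp S} (hF : IsAlgSpace F) : IsAS (AlgSt.ofSp F) :=
  (isDM_of_repByAlgSp (repByAlgSp_ofSp hF) (isStack_ofSp _)).1

theorem isQcM_fpFst (h𝒳 : IsAS 𝒳) (h𝒴 : IsAS 𝒴) (h𝒵 : IsAS 𝒵) {f : 𝒳 ⥤ᵇ 𝒴} (g : 𝒵 ⥤ᵇ 𝒴) (hf : IsQcM f) :
    IsQcM (FibCat.fpFst g f) := fun 𝒯 h𝒯 hq h =>
  isQuasiCompact_of_equivTo (isAlgStack_fp' h𝒯 h𝒳 h𝒴 _ f)
    (isAlgStack_fp' h𝒯 (isAlgStack_fp' h𝒵 h𝒳 h𝒴 g f) h𝒵 h _) (equivTo_fp_paste h g f).symm (hf 𝒯 h𝒯 hq _)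

theorem isQcM_comp (h𝒳 : IsAS 𝒳) (h𝒴 : IsAS 𝒴) (h𝒵 : IsAS 𝒵) {f : 𝒳 ⥤ᵇ 𝒴} {g : 𝒴 ⥤ᵇ 𝒵} (hf : IsQcM f)
    (hg : IsQcM g) : IsQcM (BasedFunctor.comp f g) := fun 𝒯 h𝒯 hq h =>
  isQuasiCompact_of_equivTo (isAlgStack_fp' (isAlgStack_fp' h𝒯 h𝒴 h𝒵 h g) h𝒳 h𝒴 _ f)
    (isAlgStack_fp' h𝒯 h𝒳 h𝒵 h _) (equivTo_fp_comp h f g)
    (hf _ (isAlgStack_fp' h𝒯 h𝒴 h𝒵 h g) (hg 𝒯 h𝒯 hq h) _)

theorem isQcM_congr (h𝒳 : IsAS 𝒳) (h𝒴 : IsAS 𝒴) {f f' : 𝒳 ⥤ᵇ 𝒴} (α : f ≅ f') (hf : IsQcM f) : IsQcM f' :=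
  fun 𝒯 h𝒯 hq h => isQuasiCompact_of_equivTo (isAlgStack_fp' h𝒯 h𝒳 h𝒴 h f) (isAlgStack_fp' h𝒯 h𝒳 h𝒴 h f')
    (equivTo_fp_congr (Iso.refl h) α.symm) (hf 𝒯 h𝒯 hq h)

theorem isQcM_equiv_comp (h𝒳 : IsAS 𝒳) (h𝒴 : IsAS 𝒴) (h𝒵 : IsAS 𝒵) {E : 𝒳 ⥤ᵇ 𝒴} (hE : IsEquivOver E)
    {g : 𝒴 ⥤ᵇ 𝒵} (hg : IsQcM g) : IsQcM (BasedFunctor.comp E g) := fun 𝒯 h𝒯 hq h =>
  isQuasiCompact_of_equivTo (isAlgStack_fp' h𝒯 h𝒴 h𝒵 h g) (isAlgStack_fp' h𝒯 h𝒳 h𝒵 h _)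
    (equivTo_fp_right hE h g).symm (hg 𝒯 h𝒯 hq h)

/-- Quasi-compactness of a fibre product can be checked after a surjective base change. -/
theorem isQuasiCompact_fp_of_cover (h𝒳 : IsAS 𝒳) (h𝒴 : IsAS 𝒴) (h𝒵 : IsAS 𝒵) (h𝒵' : IsAS 𝒵')
    {g : 𝒵 ⥤ᵇ 𝒴} {f : 𝒳 ⥤ᵇ 𝒴} (a : 𝒵' ⥤ᵇ 𝒵) (ha : Function.Surjective (AlgSt.Points.map a))
    (h : AlgSt.IsQuasiCompact (fp (BasedFunctor.comp a g) f)) : AlgSt.IsQuasiCompact (fp g f) := by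
  haveI := isFibGrpd_of_isAlgStack h𝒵
  haveI := isFibGrpd_of_isAlgStack h𝒵'
  have hfp := isAlgStack_fp' h𝒵 h𝒳 h𝒴 g f
  haveI := isFibGrpd_of_isAlgStack hfp
  have h2 := isAlgStack_fp' h𝒵' hfp h𝒵 a (FibCat.fpFst g f)
  refine isQuasiCompact_of_surjective h2 hfp (FibCat.fpSnd a (FibCat.fpFst g f)) (fun w => ?_)
    (isQuasiCompact_of_equivTo (isAlgStack_fp' h𝒵' h𝒳 h𝒴 _ f) h2 (equivTo_fp_paste a g f).symm h)
  obtain ⟨z, hz⟩ := ha (AlgSt.Points.map (FibCat.fpFst g f) w)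
  obtain ⟨v, -, hv⟩ := exists_point_fp (g := a) (f := FibCat.fpFst g f) z w hz
  exact ⟨v, hv⟩

theorem isQcM_of_surjective (h𝒳 : IsAS 𝒳) (h𝒴 : IsAS 𝒴) (h𝒵 : IsAS 𝒵) {f : 𝒳 ⥤ᵇ 𝒴} {p : 𝒳 ⥤ᵇ 𝒵} {q : 𝒴 ⥤ᵇ 𝒵}
    (e : BasedFunctor.comp f q ≅ p) (hs : Function.Surjective (AlgSt.Points.map f)) (hp : IsQcM p) : IsQcM q := by
  intro 𝒯 h𝒯 hq h
  have hTY := isAlgStack_fp' h𝒯 h𝒴 h𝒵 h q
  haveI := isFibGrpd_of_isAlgStack h𝒳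
  haveI := isFibGrpd_of_isAlgStack h𝒴
  haveI := isFibGrpd_of_isAlgStack hTY
  refine isQuasiCompact_of_surjective (isAlgStack_fp' hTY h𝒳 h𝒴 (FibCat.fpSnd h q) f) hTY
    (FibCat.fpFst (FibCat.fpSnd h q) f) (surjective_fpFst hs) ?_
  exact isQuasiCompact_of_equivTo (isAlgStack_fp' h𝒯 h𝒳 h𝒵 h p) (isAlgStack_fp' hTY h𝒳 h𝒴 _ f)
    (EquivTo.trans (equivTo_fp_congr (Iso.refl h) e) (equivTo_fp_comp h f q).symm) (hp 𝒯 h𝒯 hq h)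

section Rep

/-- For representable functors quasi-compactness is that of the representing morphisms. -/
theorem isQcM_iff_rep (h𝒳 : IsAS 𝒳) (h𝒴 : IsAS 𝒴) {f : 𝒳 ⥤ᵇ 𝒴} (hf : AlgSt.RepByAlgSp1 f) :
    AlgSt.RepByAlgSpWith IsQuasiCompactMor f ↔ IsQcM f := by
  haveI := isFibGrpd_of_isAlgStack h𝒳
  haveI := isFibGrpd_of_isAlgStack h𝒴
  constructor
  · intro h 𝒵 h𝒵 hq g
    obtain ⟨U, x, hU, hx, hxs⟩ := hq
    haveI := hU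
    haveI := isFibGrpd_of_isAlgStack h𝒵
    let a := BasedFunctor.comp (AlgSt.toOverCat U) x
    obtain ⟨H, c, hH, ⟨e, he, -⟩, hc⟩ := (repByAlgSpWith_iff _ f).mp h U (BasedFunctor.comp a g)
    have hHq : IsQuasiCompactSp H := hc (IsAlgSpace.yon_obj U) (isQuasiCompactSp_yon U) (𝟙 _) (𝟙 H) c
      (IsPullback.of_horiz_isIso ⟨by simp⟩)
    refine isQuasiCompact_fp_of_cover h𝒳 h𝒴 h𝒵 (isAlgStack_ofSch U) a
      (surjective_of_repByAlgSpWith (repByAlgSpWith_toOverCat_comp hxs)) ?_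
    exact isQuasiCompact_of_equivTo (isAlgStack_ofSp hH) (isAlgStack_fp' (isAlgStack_ofSch U) h𝒳 h𝒴 _ f)
      ⟨e, he⟩ (isQuasiCompact_ofSp hH hHq)
  · intro h
    refine repByAlgSpWith_of_forall hf fun U u H a hH ha => ?_
    rw [isQuasiCompactMor_iff_affine hH (IsAlgSpace.yon_obj U)]
    intro Z hZ g P fst snd sq
    haveI := hZ
    have hP := isAlgSpace_of_isPullback hH (IsAlgSpace.yon_obj Z) (IsAlgSpace.yon_obj U) sq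
    obtain ⟨k, hk, -⟩ := ha.of_isPullback (isPullback_sheaf sq)
    refine isQuasiCompactSp_of_stack hP ?_
    exact isQuasiCompact_of_equivTo (isAlgStack_fp' (isAlgStack_ofSch Z) h𝒳 h𝒴 _ f) (isAlgStack_ofSp hP)
      (EquivTo.symm ⟨k, hk⟩)
      (h _ (isAlgStack_ofSch Z) (isQuasiCompact_ofSp (IsAlgSpace.yon_obj Z) (isQuasiCompactSp_yon Z)) _)

theorem isQcM_of_isClosedImm (h𝒳 : IsAS 𝒳) (h𝒴 : IsAS 𝒴) {f : 𝒳 ⥤ᵇ 𝒴} (hf : AlgSt.IsClosedImm f) : IsQcM f :=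
  (isQcM_iff_rep h𝒳 h𝒴 (repByAlgSp1_of_with hf)).1 (repByAlgSpWith_mono (fun _ _ _ hH hG h =>
    isQuasiCompactMor_of_repWith hH hG
      (repWith_mono (fun _ _ g (_ : IsClosedImmersion g) => (inferInstance : QuasiCompact g)) h)) hf)

end Rep

section Descent

/-- A quasi-compact stack is covered by an affine scheme mapping to a given flat cover. -/
theorem exists_affine_lift (h𝒴 : IsAS 𝒴) (h𝒵 : IsAS 𝒵) (hq : AlgSt.IsQuasiCompact 𝒵) (g : 𝒵 ⥤ᵇ 𝒴)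
    (W : AlgSp.Space S) {w : AlgSt.ofSp W.obj ⥤ᵇ 𝒴} (hw₁ : AlgSt.RepByAlgSpWith (LocP @Flat) w)
    (hw₂ : AlgSt.RepByAlgSpWith (LocP @LocallyOfFinitePresentation) w)
    (hw₃ : AlgSt.RepByAlgSpWith IsSurjectiveMor w) :
    ∃ (E : Over S) (a : AlgSt.ofSch E ⥤ᵇ 𝒵) (b : AlgSt.ofSch E ⥤ᵇ AlgSt.ofSp W.obj),
      IsAffine E.left ∧ Function.Surjective (AlgSt.Points.map a) ∧
        Nonempty (BasedFunctor.comp a g ≅ BasedFunctor.comp b w) := by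
  haveI := isFibGrpd_of_isAlgStack h𝒴
  haveI := isFibGrpd_of_isAlgStack h𝒵
  obtain ⟨U, x, hU, hx, hxs⟩ := hq
  haveI := hU
  let x' := BasedFunctor.comp (AlgSt.toOverCat U) x
  obtain ⟨H, c, hH, hc, hc₁⟩ := (repByAlgSpWith_iff _ w).mp hw₁ U (BasedFunctor.comp x' g)
  have hc₂ := prop_of_along good_lfp.bc.precomp_iso hw₂ hc
  have hc₃ := prop_of_along good_surjective.bc.precomp_iso hw₃ hc
  obtain ⟨e, he, ⟨β⟩⟩ := hc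
  obtain ⟨V, p, hp, hps⟩ := hH.atlas
  obtain ⟨j, hj⟩ := (yon S).map_surjective (p ≫ c)
  have hjopen : IsOpenMap j.left := by
    refine (isOpenMap_map_yon_iff j).1 ?_
    rw [hj, show Points.map (p ≫ c) = Points.map c ∘ Points.map p from funext (Points.map_comp _ _)]
    exact (isOpenMap_map_of_flat_lfp hH (IsAlgSpace.yon_obj U) hc₁ hc₂).comp
      (isOpenMap_map_of_isEtaleMor (IsAlgSpace.yon_obj V) (isEtaleMor_of_repWith hp))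
  have hjsurj : Function.Surjective j.left := fun t => by
    obtain ⟨z, hz⟩ := hc₃ (Points.schemeHomeo U t)
    obtain ⟨v, rfl⟩ := map_surjective_of_repWith hps z
    obtain ⟨v, rfl⟩ := (Points.schemeHomeo V).surjective v
    refine ⟨v, (Points.schemeHomeo U).injective ?_⟩
    rw [← Points.map_comp, ← hj, Points.map_yon_map_apply] at hz
    exact hz
  choose O hO htO using fun t : V.left => exists_isAffineOpen_mem_and_subset (U := ⊤) (x := t) trivial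
  obtain ⟨s, hs⟩ := isCompact_univ.elim_finite_subcover (fun t => j.left '' (O t : Set V.left))
    (fun t => hjopen _ (O t).2) fun z _ => by
      obtain ⟨t, rfl⟩ := hjsurj z
      exact Set.mem_iUnion.2 ⟨t, t, (htO t).1, rfl⟩
  let G : {t // t ∈ s} → Scheme.{u} := fun t => (O t.1).toScheme
  let k : ∐ G ⟶ V.left := Sigma.desc fun t => (O t.1).ι
  haveI : ∀ t, IsAffine (G t) := fun t => hO t.1
  let E : Over S := Over.mk (k ≫ V.hom)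
  let i : E ⟶ V := Over.homMk k rfl
  let l : (yon S).obj E ⟶ H := (yon S).map i ≫ p
  haveI : Surjective (i ≫ j).left := ⟨fun z => by
    obtain ⟨t, ht, v, hv, rfl⟩ := Set.mem_iUnion₂.1 (hs (Set.mem_univ z))
    refine ⟨Sigma.ι G ⟨t, ht⟩ ⟨v, hv⟩, ?_⟩
    change (k ≫ j.left) (Sigma.ι G ⟨t, ht⟩ ⟨v, hv⟩) = j.left v
    rw [Scheme.Hom.comp_apply]
    congr 1
    rw [← Scheme.Hom.comp_apply]
    simp [k]
    rfl⟩
  refine ⟨E, BasedFunctor.comp (Stk.ofPshMap ((yon S).map (i ≫ j)).hom) x',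
    BasedFunctor.comp (Stk.ofPshMap l.hom) (BasedFunctor.comp e (FibCat.fpSnd _ w)),
    inferInstanceAs (IsAffine (∐ G)), fun z => ?_, ⟨?_⟩⟩
  · obtain ⟨y, rfl⟩ := surjective_of_repByAlgSpWith (repByAlgSpWith_toOverCat_comp hxs) z
    obtain ⟨y, rfl⟩ := (ptsEquiv _).symm.surjective y
    obtain ⟨t, rfl⟩ := (Points.schemeHomeo U).surjective y
    obtain ⟨q, rfl⟩ := (i ≫ j).left.surjective t
    refine ⟨(ptsEquiv _).symm (Points.schemeHomeo E q), ?_⟩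
    rw [map_comp, map_ofPshMap_ptsEquiv_symm, Points.map_yon_map_apply]
  · have hl : ((yon S).map (i ≫ j)).hom = l.hom ≫ c.hom := by
      rw [Functor.map_comp, hj, ← Category.assoc]; rfl
    refine whiskerRightIso' (eqToIso (by rw [← ofPshMap_comp, hl]) :
      Stk.ofPshMap ((yon S).map (i ≫ j)).hom ≅ BasedFunctor.comp (Stk.ofPshMap l.hom) (Stk.ofPshMap c.hom))
      (BasedFunctor.comp x' g) ≪≫ ?_
    exact whiskerLeftIso' (Stk.ofPshMap l.hom)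
      (whiskerRightIso' β.symm (BasedFunctor.comp x' g) ≪≫ whiskerLeftIso' e (fpIso (BasedFunctor.comp x' g) w))

theorem isQcM_of_cover (h𝒳 : IsAS 𝒳) (h𝒴 : IsAS 𝒴) {f : 𝒳 ⥤ᵇ 𝒴} (W : AlgSp.Space S)
    {w : AlgSt.ofSp W.obj ⥤ᵇ 𝒴} (hw₁ : AlgSt.RepByAlgSpWith (LocP @Flat) w)
    (hw₂ : AlgSt.RepByAlgSpWith (LocP @LocallyOfFinitePresentation) w)
    (hw₃ : AlgSt.RepByAlgSpWith IsSurjectiveMor w) (h : IsQcM (FibCat.fpFst w f)) : IsQcM f := by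
  intro 𝒵 h𝒵 hq g
  obtain ⟨E, a, b, hE, ha, ⟨α⟩⟩ := exists_affine_lift h𝒴 h𝒵 hq g W hw₁ hw₂ hw₃
  haveI := hE
  have hW := isAlgStack_ofSp W.property
  have hEA := isAlgStack_ofSch E
  refine isQuasiCompact_fp_of_cover h𝒳 h𝒴 h𝒵 hEA a ha ?_
  exact isQuasiCompact_of_equivTo (isAlgStack_fp' hEA (isAlgStack_fp' hW h𝒳 h𝒴 w f) hW b _)
    (isAlgStack_fp' hEA h𝒳 h𝒴 _ f)
    (EquivTo.trans (equivTo_fp_paste b w f) (equivTo_fp_congr α (Iso.refl f)))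
    (h _ hEA (isQuasiCompact_ofSp (IsAlgSpace.yon_obj E) (isQuasiCompactSp_yon E)) b)

end Descent

section Cancel

theorem isQcM_of_comp (h𝒳 : IsAS 𝒳) (h𝒴 : IsAS 𝒴) (h𝒵 : IsAS 𝒵) {f : 𝒳 ⥤ᵇ 𝒴} {g : 𝒴 ⥤ᵇ 𝒵}
    (hfg : IsQcM (BasedFunctor.comp f g)) (hg : AlgSt.IsQuasiSeparatedMor g) : IsQcM f := by
  let fg := BasedFunctor.comp f g
  let Γ : 𝒳 ⥤ᵇ fp fg g := fpLift (BasedFunctor.id 𝒳) f (Iso.refl _)
  have hΓ : AlgSt.RepByAlgSpWith IsQuasiCompactMor Γ :=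
    repByAlgSpWith_graph fg g f (Iso.refl _) (repByAlgSpWith_mono (fun _ _ _ _ _ h => h.1) hg)
  have hP := isAlgStack_fp' h𝒳 h𝒴 h𝒵 fg g
  have hP' := isAlgStack_fp' h𝒴 h𝒳 h𝒵 g fg
  have hsnd : IsQcM (FibCat.fpSnd fg g) :=
    isQcM_congr hP h𝒴 (Iso.refl _) (isQcM_equiv_comp hP hP' h𝒴 (isEquivOver_fpSwap fg g)
      (isQcM_fpFst h𝒳 h𝒵 h𝒴 g hfg))
  exact isQcM_congr h𝒳 h𝒴 (Iso.refl _)
    (isQcM_comp h𝒳 hP h𝒴 ((isQcM_iff_rep h𝒳 hP (repByAlgSp1_of_with hΓ)).1 hΓ) hsnd)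

lemma isAlgStack_selfOver : IsAS (selfOver (Over S) : AlgSt.Cat S) :=
  (isDM_of_repByAlgSp repByAlgSp_selfOver (isStack_of_repByAlgSp repByAlgSp_selfOver)).1

/-- A quasi-compact stack over a quasi-separated base is quasi-compact over it. -/
theorem isQcM_toSelf [QuasiSeparatedSpace S] (h𝒳 : IsAS 𝒳) (hq : AlgSt.IsQuasiCompact 𝒳) :
    IsQcM (toSelf 𝒳) := by
  intro 𝒵 h𝒵 hqZ g
  haveI := isFibGrpd_of_isAlgStack h𝒳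
  haveI := isFibGrpd_of_isAlgStack h𝒵
  obtain ⟨U, x, hU, hx, hxs⟩ := hqZ
  obtain ⟨V, y, hV, hy, hys⟩ := hq
  haveI := hU
  haveI := hV
  haveI := isFibGrpd_overCat U
  haveI := isFibGrpd_overCat V
  have hSelf := isAlgStack_selfOver (S := S)
  haveI := isFibGrpd_of_isAlgStack hSelf
  have hU' := isAlgStack_overCat U
  have hV' := isAlgStack_overCat V
  refine isQuasiCompact_fp_of_cover h𝒳 hSelf h𝒵 hU' x (surjective_of_repByAlgSpWith hxs) ?_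
  obtain ⟨α⟩ := nonempty_iso_selfOver (BasedFunctor.comp x g) (toSelf (overCat U))
  refine isQuasiCompact_of_equivTo (isAlgStack_fp' h𝒳 hU' hSelf (toSelf 𝒳) (toSelf (overCat U)))
    (isAlgStack_fp' hU' h𝒳 hSelf _ _)
    (EquivTo.trans (equivTo_fp_swap (toSelf 𝒳) (toSelf (overCat U)))
      (equivTo_fp_congr α (Iso.refl _))) ?_
  refine isQuasiCompact_fp_of_cover hU' hSelf h𝒳 hV' y (surjective_of_repByAlgSpWith hys) ?_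
  obtain ⟨α'⟩ := nonempty_iso_selfOver (BasedFunctor.comp y (toSelf 𝒳)) (toSelf (overCat V))
  refine isQuasiCompact_of_equivTo (isAlgStack_fp' hV' hU' hSelf (toSelf (overCat V)) (toSelf (overCat U)))
    (isAlgStack_fp' hV' hU' hSelf _ _) (equivTo_fp_congr α' (Iso.refl _)) ?_
  haveI : QuasiCompact U.hom := quasiCompact_of_compactSpace U.hom
  haveI : CompactSpace ↥(pullback V.hom U.hom : Scheme.{u}) :=
    QuasiCompact.compactSpace_of_compactSpace (pullback.fst V.hom U.hom)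
  haveI : CompactSpace ↥(V ⨯ U).left :=
    ((Over.prodLeftIsoPullback V U).hom.homeomorph).symm.compactSpace
  exact isQuasiCompact_of_equivTo (isAlgStack_ofSch (V ⨯ U)) (isAlgStack_fp' hV' hU' hSelf _ _)
    (EquivTo.trans ⟨_, isEquivOver_toOverCat (V ⨯ U)⟩ ⟨_, isEquivOver_prodCmp V U⟩)
    (isQuasiCompact_ofSp (IsAlgSpace.yon_obj _) (isQuasiCompactSp_yon _))

theorem isQcM_of_isQuasiCompact [QuasiSeparatedSpace S] (h𝒳 : IsAS 𝒳) (h𝒴 : IsAS 𝒴) (f : 𝒳 ⥤ᵇ 𝒴)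
    (hq : AlgSt.IsQuasiCompact 𝒳) (hs : AlgSt.IsQuasiSeparatedOver 𝒴) : IsQcM f :=
  isQcM_of_comp h𝒳 h𝒴 isAlgStack_selfOver
    (isQcM_congr h𝒳 isAlgStack_selfOver (compToSelfIso f).symm (isQcM_toSelf h𝒳 hq)) hs

theorem fp_qc_qs [QuasiSeparatedSpace S] (h𝒳 : IsAS 𝒳) (h𝒴 : IsAS 𝒴) (h𝒵 : IsAS 𝒵) (a : 𝒳 ⥤ᵇ 𝒴)
    (b : 𝒵 ⥤ᵇ 𝒴) (hXq : AlgSt.IsQuasiCompact 𝒳) (hXs : AlgSt.IsQuasiSeparatedOver 𝒳)
    (hYs : AlgSt.IsQuasiSeparatedOver 𝒴) (hZq : AlgSt.IsQuasiCompact 𝒵) (hZs : AlgSt.IsQuasiSeparatedOver 𝒵) :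
    AlgSt.IsQuasiCompact (fp a b) ∧ AlgSt.IsQuasiSeparatedOver (fp a b) := by
  haveI := isFibGrpd_of_isAlgStack h𝒳
  haveI := isFibGrpd_of_isAlgStack (isAlgStack_fp' h𝒳 h𝒵 h𝒴 a b)
  refine ⟨isQcM_of_isQuasiCompact h𝒵 h𝒴 b hZq hYs 𝒳 h𝒳 hXq a, ?_⟩
  have hb : AlgSt.RepByAlgSpWith (IsQuasiCompactMor ⊓ IsQuasiSeparatedMor) (diag b) :=
    repByAlgSpWith_diag_of_comp (good_qc.inf good_qs).bc (repByAlgSpWith_diag_congr (compToSelfIso b) hZs)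
      (repByAlgSpWith_mono (fun _ _ _ _ _ h => h.2) hYs)
      fun _ _ _ h₁ h₂ h₃ _ _ hab hb => cancel_qcqs h₁ h₂ h₃ hab hb
  exact repByAlgSpWith_diag_congr (compToSelfIso (FibCat.fpFst a b)).symm
    (repByAlgSpWith_diag_comp (good_qc.inf good_qs) (repByAlgSpWith_diag_fpFst b a hb) hXs)

end Cancel

end AlgStLib
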