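import Groth.Agent.AlgStLib.LocQ
import Groth.Agent.AlgStLib.QcMor

/-!
# `LocQ`: scheme squares and space squares
-/

set_option autoImplicit false
set_option backward.isDefEq.respectTransparency false
set_option backward.isDefEq.respectTransparency.types false

universe u

open CategoryTheory CategoryTheory.Limits AlgebraicGeometry Opposite AlgSp FibCat FibLib AlgSpLib Topology

noncomputable section

namespace AlgStLib

variable {S : Scheme.{u}} {𝒳 𝒴 𝒵 : AlgSt.Cat S} {P : MorphismProperty (Sp S)}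

section Eta
variable {𝒲 : AlgSt.Cat S} {f : 𝒳 ⥤ᵇ 𝒵} {g : 𝒴 ⥤ᵇ 𝒵} (c : 𝒲 ⥤ᵇ fp f g) {b : 𝒲 ⥤ᵇ 𝒴}
  (β : BasedFunctor.comp c (FibCat.fpSnd f g) ≅ b)

/-- The square of a functor into a 2-fibre product. -/
def fpSq : BasedFunctor.comp (BasedFunctor.comp c (FibCat.fpFst f g)) f ≅ BasedFunctor.comp b g :=
  whiskerLeftIso' c (fpIso f g) ≪≫ whiskerRightIso' β g

/-- A functor into a 2-fibre product is the lift of its projections. -/
def fpLiftEta : c ≅ fpLift (BasedFunctor.comp c (FibCat.fpFst f g)) b (fpSq c β) :=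
  BasedNatIso.mkNatIso
    (NatIso.ofComponents (fun w => fpIsoMk (Iso.refl _) (appIso β w) (by
        change f.map (𝟙 _) ≫ ((c.obj w).obj.iso.hom ≫ g.map (appIso β w).hom) = _
        rw [show f.map (𝟙 (c.obj w).obj.fst) = 𝟙 _ from f.toFunctor.map_id _]
        exact Category.id_comp _))
      (fun {w w'} φ => fp_hom_ext (by
          change (c.map φ).hom.fst ≫ 𝟙 _ = 𝟙 _ ≫ (c.map φ).hom.fst
          rw [Category.comp_id, Category.id_comp])
        (appIso_naturality β φ)))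
    (fun w => @isHomLift_of_fst _ _ _ _ _ f g _ _ _ _ _ _
      (show 𝒳.p.IsHomLift (𝟙 (𝒲.p.obj w)) (𝟙 (c.obj w).obj.fst) from
        IsHomLift.id ((BasedFunctor.comp c (FibCat.fpFst f g)).w_obj w)))

end Eta

/-- A lift followed by the map of fibre products changing the second factor. -/
def liftMapIso {𝒲 𝒴' : AlgSt.Cat S} {f : 𝒳 ⥤ᵇ 𝒵} {g : 𝒴 ⥤ᵇ 𝒵} (x : 𝒲 ⥤ᵇ 𝒳) (b : 𝒲 ⥤ᵇ 𝒴') (v : 𝒴' ⥤ᵇ 𝒴)
    (α : BasedFunctor.comp x f ≅ BasedFunctor.comp b (BasedFunctor.comp v g)) :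
    BasedFunctor.comp (fpLift (F := f) (G := BasedFunctor.comp v g) x b α)
      (fpMap (a := BasedFunctor.id _) (b := v) (c := BasedFunctor.id _) (F := f) (G := g) (F' := f)
        (G' := BasedFunctor.comp v g) (Iso.refl _) (Iso.refl _)) ≅
      fpLift (F := f) (G := g) x (BasedFunctor.comp b v) α :=
  BasedNatIso.mkNatIso
    (NatIso.ofComponents (fun w => fpIsoMk (Iso.refl _) (Iso.refl _) (by
        change f.map (𝟙 (x.obj w)) ≫ (appIso α w).hom =
          (𝟙 _ ≫ (appIso α w).hom ≫ 𝟙 _) ≫ g.map (𝟙 (v.obj (b.obj w)))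
        rw [show f.map (𝟙 (x.obj w)) = 𝟙 _ from f.toFunctor.map_id _,
          show g.map (𝟙 (v.obj (b.obj w))) = 𝟙 _ from g.toFunctor.map_id _]
        simp; exact (Category.comp_id _).symm))
      (fun {w w'} φ => fp_hom_ext
        ((Category.comp_id _).trans (Category.id_comp _).symm) ((Category.comp_id _).trans (Category.id_comp _).symm)))
    (fun w => @isHomLift_of_fst _ _ _ _ _ f g _ _ _ _ _ _
      (show 𝒳.p.IsHomLift (𝟙 (𝒲.p.obj w)) (𝟙 (x.obj w)) from IsHomLift.id (x.w_obj w)))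

lemma covers_of_locQ [IsFibGrpd 𝒳.p] {f : 𝒳 ⥤ᵇ 𝒴} (h : AlgSt.LocQ P f) : Square.Covers P f := by
  obtain ⟨U, V, x, y, h, α, hx, hxs, hy, hP⟩ := h
  intro z
  obtain ⟨w, hw⟩ := surjective_of_repByAlgSpWith (repByAlgSpWith_toOverCat_comp hxs) z
  exact ⟨⟨(yon S).obj U, (yon S).obj V, IsAlgSpace.yon_obj U, IsAlgSpace.yon_obj V,
    BasedFunctor.comp (AlgSt.toOverCat U) x, BasedFunctor.comp (AlgSt.toOverCat V) y, (yon S).map h,
    whiskerLeftIso' (AlgSt.toOverCat U) α, repByAlgSpWith_toOverCat_comp hx, repByAlgSpWith_toOverCat_comp hy,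
    hP⟩, w, hw⟩

/-- The value on scheme squares. -/
theorem prop_of_covers_scheme (hP : IsSmoothLocalST P) (h𝒳 : AlgSt.IsAlgStack Scheme.fppfPrecoverage 𝒳)
    (h𝒴 : AlgSt.IsAlgStack Scheme.fppfPrecoverage 𝒴) {f : 𝒳 ⥤ᵇ 𝒴} (hc : Square.Covers P f)
    {U V : Over S} {x : overCat U ⥤ᵇ 𝒳} {y : overCat V ⥤ᵇ 𝒴} {h : U ⟶ V}
    (α : BasedFunctor.comp x f ≅ BasedFunctor.comp (AlgSt.overMap h) y)
    (hy : AlgSt.RepByAlgSpWith (LocP @Smooth) y)
    (hL : AlgSt.RepByAlgSpWith (LocP @Smooth) (fpLift (F := f) (G := y) x (AlgSt.overMap h) α)) :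
    P ((yon S).map h) := by
  haveI := isFibGrpd_of_isAlgStack h𝒳
  haveI := isFibGrpd_of_isAlgStack h𝒴
  haveI := isFibGrpd_overCat U
  haveI := isFibGrpd_overCat V
  haveI := full_id 𝒴
  haveI := faithful_id 𝒴
  let y' := BasedFunctor.comp (AlgSt.toOverCat V) y
  let α' : BasedFunctor.comp (BasedFunctor.comp (AlgSt.toOverCat U) x) f ≅
      BasedFunctor.comp (AlgSt.ofSpMap ((yon S).map h)) y' := whiskerLeftIso' (AlgSt.toOverCat U) α
  refine prop_of_covers hP h𝒳 h𝒴 hc (IsAlgSpace.yon_obj U) (IsAlgSpace.yon_obj V) α'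
    (repByAlgSpWith_toOverCat_comp hy) ?_
  let L := fpLift (F := f) (G := y') (BasedFunctor.comp (AlgSt.toOverCat U) x) (AlgSt.ofSpMap ((yon S).map h)) α'
  let M : fp f y' ⥤ᵇ fp f y :=
    fpMap (a := BasedFunctor.id _) (b := AlgSt.toOverCat V) (c := BasedFunctor.id _)
      (F := f) (G := y) (F' := f) (G' := y') (Iso.refl _) (Iso.refl _)
  have hM : IsEquivOver M := isEquivOver_fpMap _ _ (isEquivOver_id _) (isEquivOver_toOverCat V)
  let e : BasedFunctor.comp L M ≅ BasedFunctor.comp (AlgSt.toOverCat U) (fpLift (F := f) (G := y) x (AlgSt.overMap h) α) :=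
    liftMapIso (BasedFunctor.comp (AlgSt.toOverCat U) x) (AlgSt.ofSpMap ((yon S).map h)) (AlgSt.toOverCat V) α'
  exact (repByAlgSpWith_square_iff (isEquivOver_toOverCat U) hM e _).mp hL

/-- Covering squares give a chart. -/
theorem locQ_of_covers (hP : IsSmoothLocalST P) (h𝒳 : AlgSt.IsAlgStack Scheme.fppfPrecoverage 𝒳)
    (h𝒴 : AlgSt.IsAlgStack Scheme.fppfPrecoverage 𝒴) {f : 𝒳 ⥤ᵇ 𝒴} (hc : Square.Covers P f) :
    AlgSt.LocQ P f := by
  haveI := isFibGrpd_of_isAlgStack h𝒳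
  haveI := isFibGrpd_of_isAlgStack h𝒴
  obtain ⟨V, y, hy, hys⟩ := h𝒴.atlas
  haveI := isFibGrpd_overCat V
  haveI : IsFibGrpd (fp f y).p := isFibGrpd_fp
  obtain ⟨U, c, hc₁, hc₂⟩ := (isAlgStack_fp' h𝒳 (isAlgStack_overCat V) h𝒴 f y).atlas
  haveI := isFibGrpd_overCat U
  obtain ⟨h, ⟨β⟩⟩ := exists_iso_overMap (BasedFunctor.comp c (FibCat.fpSnd f y))
  refine ⟨U, V, BasedFunctor.comp c (FibCat.fpFst f y), y, h, fpSq c β,
    repByAlgSpWith_comp' good_smooth hc₁ (repByAlgSpWith_fpFst _ f hy),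
    repByAlgSpWith_comp' good_surjective hc₂ (repByAlgSpWith_fpFst _ f hys), hy, ?_⟩
  exact prop_of_covers_scheme hP h𝒳 h𝒴 hc (fpSq c β) hy (repByAlgSpWith_congr (fpLiftEta c β) hc₁)

end AlgStLib
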