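import Groth.Agent.AlgStLib.LocQ2
import Groth.Agent.AlgStLib.Rows5

/-!
# `LocQ` criteria
-/

set_option autoImplicit false
set_option backward.isDefEq.respectTransparency false
set_option backward.isDefEq.respectTransparency.types false

universe u

open CategoryTheory CategoryTheory.Limits AlgebraicGeometry Opposite AlgSp FibCat FibLib AlgSpLib Topology

noncomputable section

namespace AlgStLib

variable {S : Scheme.{u}} {𝒳 𝒴 𝒵 : AlgSt.Cat S} {P : MorphismProperty (Sp S)}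

/-- An equivalence out of a space is smooth and surjective. -/
lemma repByAlgSpWith_of_isEquivOver {P : MorphismProperty (Sp S)} (hP : StableBC P) {F : Sp S} (hF : IsAlgSpace F)
    (h1 : P (𝟙 F)) {e : AlgSt.ofSp F ⥤ᵇ 𝒴} (he : IsEquivOver e) : AlgSt.RepByAlgSpWith P e := by
  obtain ⟨e', he', ⟨μ⟩, -⟩ := exists_inverse he
  refine (repByAlgSpWith_square_iff (f := AlgSt.ofSpMap (𝟙 F)) (f' := e) (a := BasedFunctor.id _) (b := e')
    (isEquivOver_id _) he' μ _).mp ?_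
  exact repByAlgSpWith_ofSpMap hF hF _ fun U ξ =>
    hP hF hF (isAlgSpace_pullback hF (IsAlgSpace.yon_obj U) hF (𝟙 F) ξ) (IsAlgSpace.yon_obj U)
      _ _ _ _ (IsPullback.of_hasPullback (𝟙 F) ξ) h1

lemma locP_smooth_id (F : Sp S) : LocP @Smooth (𝟙 F) := locP_smooth_of_isEtaleMor (isEtaleMor_of_isIso' _)

/-- The criterion on all smooth scheme squares. -/
theorem locQ_iff_forall (hP : IsSmoothLocalST P) (h𝒳 : AlgSt.IsAlgStack Scheme.fppfPrecoverage 𝒳)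
    (h𝒴 : AlgSt.IsAlgStack Scheme.fppfPrecoverage 𝒴) (f : 𝒳 ⥤ᵇ 𝒴) :
    AlgSt.LocQ P f ↔
      ∀ (U V : Over S) (x : FibCat.overCat U ⥤ᵇ 𝒳) (y : FibCat.overCat V ⥤ᵇ 𝒴) (h : U ⟶ V)
        (α : BasedFunctor.comp x f ≅ BasedFunctor.comp (AlgSt.overMap h) y),
        AlgSt.RepByAlgSpWith (LocP @Smooth) x → AlgSt.RepByAlgSpWith (LocP @Smooth) y →
        AlgSt.RepByAlgSpWith (LocP @Smooth) (FibCat.fpLift x (AlgSt.overMap h) α) → P ((yon S).map h) := by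
  haveI := isFibGrpd_of_isAlgStack h𝒳
  refine ⟨fun hq U V x y h α _ hy hL => prop_of_covers_scheme hP h𝒳 h𝒴 (covers_of_locQ hq) α hy hL, fun H => ?_⟩
  haveI := isFibGrpd_of_isAlgStack h𝒴
  obtain ⟨V, y, hy, hys⟩ := h𝒴.atlas
  haveI := isFibGrpd_overCat V
  haveI : IsFibGrpd (fp f y).p := isFibGrpd_fp
  obtain ⟨U, c, hc₁, hc₂⟩ := (isAlgStack_fp' h𝒳 (isAlgStack_overCat V) h𝒴 f y).atlas
  haveI := isFibGrpd_overCat U
  obtain ⟨h, ⟨β⟩⟩ := exists_iso_overMap (BasedFunctor.comp c (FibCat.fpSnd f y))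
  have hx := repByAlgSpWith_comp' good_smooth hc₁ (repByAlgSpWith_fpFst _ f hy)
  exact ⟨U, V, BasedFunctor.comp c (FibCat.fpFst f y), y, h, fpSq c β, hx,
    repByAlgSpWith_comp' good_surjective hc₂ (repByAlgSpWith_fpFst _ f hys), hy,
    H U V _ y h _ hx hy (repByAlgSpWith_congr (fpLiftEta c β) hc₁)⟩

/-- The criterion by one space square. -/
theorem locQ_iff_exists_space (hP : IsSmoothLocalST P) (h𝒳 : AlgSt.IsAlgStack Scheme.fppfPrecoverage 𝒳)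
    (h𝒴 : AlgSt.IsAlgStack Scheme.fppfPrecoverage 𝒴) (f : 𝒳 ⥤ᵇ 𝒴) :
    AlgSt.LocQ P f ↔
      ∃ (U V : AlgSp.Space S) (x : AlgSt.ofSp U.obj ⥤ᵇ 𝒳) (y : AlgSt.ofSp V.obj ⥤ᵇ 𝒴) (h : U ⟶ V)
        (_ : BasedFunctor.comp x f ≅ BasedFunctor.comp (AlgSt.ofSpMap h.hom) y),
        AlgSt.RepByAlgSpWith (LocP @Smooth) x ∧ AlgSt.RepByAlgSpWith IsSurjectiveMor x ∧
        AlgSt.RepByAlgSpWith (LocP @Smooth) y ∧ P h.hom := by
  constructor
  · rintro ⟨U, V, x, y, h, α, hx, hxs, hy, hPh⟩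
    exact ⟨⟨_, IsAlgSpace.yon_obj U⟩, ⟨_, IsAlgSpace.yon_obj V⟩, BasedFunctor.comp (AlgSt.toOverCat U) x,
      BasedFunctor.comp (AlgSt.toOverCat V) y, ObjectProperty.homMk ((yon S).map h),
      whiskerLeftIso' (AlgSt.toOverCat U) α, repByAlgSpWith_toOverCat_comp hx, repByAlgSpWith_toOverCat_comp hxs,
      repByAlgSpWith_toOverCat_comp hy, hPh⟩
  · rintro ⟨U, V, x, y, h, α, hx, hxs, hy, hPh⟩
    haveI := isFibGrpd_of_isAlgStack h𝒳
    haveI : IsFibGrpd (AlgSt.ofSp U.obj).p := Stk.isFibGrpd_ofPsh _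
    refine locQ_of_covers hP h𝒳 h𝒴 fun z => ?_
    obtain ⟨w, hw⟩ := surjective_of_repByAlgSpWith hxs z
    exact ⟨⟨U.obj, V.obj, U.property, V.property, x, y, h.hom, α, hx, hy, hPh⟩, w, hw⟩

/-- For spaces nothing changes. -/
theorem locQ_ofSpMap_iff (hP : IsSmoothLocalST P) {F G : Sp S} (hF : IsAlgSpace F) (hG : IsAlgSpace G) (a : F ⟶ G) :
    AlgSt.LocQ P (AlgSt.ofSpMap a) ↔ P a := by
  haveI : IsFibGrpd (AlgSt.ofSp F).p := Stk.isFibGrpd_ofPsh _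
  haveI : IsFibGrpd (AlgSt.ofSp G).p := Stk.isFibGrpd_ofPsh _
  have hidF := repByAlgSpWith_of_isEquivOver good_smooth.bc hF (locP_smooth_id F) (isEquivOver_id (AlgSt.ofSp F))
  have hidG := repByAlgSpWith_of_isEquivOver good_smooth.bc hG (locP_smooth_id G) (isEquivOver_id (AlgSt.ofSp G))
  refine ⟨fun h => ?_, fun h => locQ_of_covers hP (isAlgStack_ofSp hF) (isAlgStack_ofSp hG) fun z =>
    ⟨⟨F, G, hF, hG, BasedFunctor.id _, BasedFunctor.id _, a, Iso.refl _, hidF, hidG, h⟩, z, map_id z⟩⟩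
  refine prop_of_covers hP (isAlgStack_ofSp hF) (isAlgStack_ofSp hG) (covers_of_locQ h) hF hG
    (x' := BasedFunctor.id _) (y' := BasedFunctor.id _) (Iso.refl _) hidG ?_
  exact repByAlgSpWith_of_isEquivOver good_smooth.bc hF (locP_smooth_id F) (isEquivOver_fpGraph (AlgSt.ofSpMap a))

/-- For representable morphisms the two notions agree. -/
theorem locQ_iff_repByAlgSpWith (hP : IsSmoothLocalST P) (hPb : StableBC P) (hPl : IsLocalOnBase IsFppfCover P)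
    (h𝒳 : AlgSt.IsAlgStack Scheme.fppfPrecoverage 𝒳) (h𝒴 : AlgSt.IsAlgStack Scheme.fppfPrecoverage 𝒴)
    (f : 𝒳 ⥤ᵇ 𝒴) (hf : AlgSt.RepByAlgSp1 f) : AlgSt.LocQ P f ↔ AlgSt.RepByAlgSpWith P f := by
  haveI := isFibGrpd_of_isAlgStack h𝒳
  haveI := isFibGrpd_of_isAlgStack h𝒴
  obtain ⟨V, y₀, hy₀, hy₀s⟩ := h𝒴.atlas
  haveI : IsFibGrpd (AlgSt.ofSch V).p := Stk.isFibGrpd_ofPsh _
  let y := BasedFunctor.comp (AlgSt.toOverCat V) y₀
  have hy : AlgSt.RepByAlgSpWith (LocP @Smooth) y := repByAlgSpWith_toOverCat_comp hy₀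
  have hys : AlgSt.RepByAlgSpWith IsSurjectiveMor y := repByAlgSpWith_toOverCat_comp hy₀s
  have hV := IsAlgSpace.yon_obj (S := S) V
  constructor
  · intro h
    refine (repByAlgSpWith_iff_cover hPb hPl hf ⟨_, hV⟩
      (repByAlgSpWith_mono (fun _ _ _ _ _ h => locP_flat_of_smooth h) hy)
      (repByAlgSpWith_mono (fun _ _ _ _ _ h => locP_lfp_of_smooth h) hy) hys).mpr ?_
    obtain ⟨W, b, hW, ⟨e, he, ⟨β⟩⟩⟩ := exists_along hf hV y
    haveI : IsFibGrpd (AlgSt.ofSp W).p := Stk.isFibGrpd_ofPsh _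
    refine ⟨⟨W, hW⟩, ObjectProperty.homMk b, e, he, ⟨β⟩, ?_⟩
    let eW := BasedFunctor.comp e (fpSwap y f)
    let β' : BasedFunctor.comp eW (FibCat.fpSnd f y) ≅ AlgSt.ofSpMap b := β
    exact prop_of_covers hP h𝒳 h𝒴 (covers_of_locQ h) hW hV (x' := BasedFunctor.comp eW (FibCat.fpFst f y))
      (fpSq eW β') hy (repByAlgSpWith_congr (fpLiftEta eW β')
        (repByAlgSpWith_of_isEquivOver good_smooth.bc hW (locP_smooth_id W)
          (isEquivOver_comp he (isEquivOver_fpSwap y f))))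
  · intro h
    obtain ⟨W, b, hW, ⟨e, he, ⟨β⟩⟩, hPb'⟩ := exists_along_prop hPb hPl h hV y
    haveI : IsFibGrpd (AlgSt.ofSp W).p := Stk.isFibGrpd_ofPsh _
    haveI : IsFibGrpd (fp y f).p := isFibGrpd_fp
    have he1 := repByAlgSpWith_of_isEquivOver good_smooth.bc hW (locP_smooth_id W) he
    have he2 := repByAlgSpWith_of_isEquivOver good_surjective.bc hW (isSurjectiveMor_of_isIso _) he
    refine (locQ_iff_exists_space hP h𝒳 h𝒴 f).mpr ⟨⟨W, hW⟩, ⟨_, hV⟩, BasedFunctor.comp e (FibCat.fpSnd y f), y,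
      ObjectProperty.homMk b, ?_, repByAlgSpWith_comp' good_smooth he1 (repByAlgSpWith_fpSnd f hy),
      repByAlgSpWith_comp' good_surjective he2 (repByAlgSpWith_fpSnd f hys), hy, hPb'⟩
    exact whiskerLeftIso' e (fpIso y f).symm ≪≫ whiskerRightIso' β y

end AlgStLib
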