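import Groth.Agent.AlgStLib.LocQ3
import Groth.Agent.AlgStLib.Rows3
import Groth.Agent.AlgStLib.SmST
import Groth.Agent.AlgSpLib.Noeth

/-!
# Calculus of `LocQ`
-/

set_option autoImplicit false
set_option backward.isDefEq.respectTransparency false
set_option backward.isDefEq.respectTransparency.types false

universe u

open CategoryTheory CategoryTheory.Limits AlgebraicGeometry Opposite AlgSp FibCat FibLib AlgSpLib Topology

noncomputable section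

namespace AlgStLib

variable {S : Scheme.{u}} {𝒳 𝒴 𝒵 : AlgSt.Cat S} {P : MorphismProperty (Sp S)}

lemma overMap_comp {U V W : Over S} (h : U ⟶ V) (k : V ⟶ W) :
    AlgSt.overMap (h ≫ k) = BasedFunctor.comp (AlgSt.overMap h) (AlgSt.overMap k) := by
  have e := Over.mapComp_eq h k
  revert e
  unfold AlgSt.overMap BasedFunctor.comp
  intro e
  congr 1

/-- A chart of the source over a smooth chart of the target. -/
theorem exists_chartOver (h𝒳 : AlgSt.IsAlgStack Scheme.fppfPrecoverage 𝒳)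
    (h𝒴 : AlgSt.IsAlgStack Scheme.fppfPrecoverage 𝒴) (f : 𝒳 ⥤ᵇ 𝒴) {V : Over S} (y : overCat V ⥤ᵇ 𝒴)
    (hy : AlgSt.RepByAlgSpWith (LocP @Smooth) y) :
    ∃ (U : Over S) (d : overCat U ⥤ᵇ fp f y) (h : U ⟶ V),
      Nonempty (BasedFunctor.comp d (FibCat.fpSnd f y) ≅ AlgSt.overMap h) ∧
      AlgSt.RepByAlgSpWith (LocP @Smooth) d ∧ AlgSt.RepByAlgSpWith IsSurjectiveMor d ∧
      AlgSt.RepByAlgSpWith (LocP @Smooth) (BasedFunctor.comp d (FibCat.fpFst f y)) ∧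
      (AlgSt.RepByAlgSpWith IsSurjectiveMor y →
        AlgSt.RepByAlgSpWith IsSurjectiveMor (BasedFunctor.comp d (FibCat.fpFst f y))) := by
  haveI := isFibGrpd_of_isAlgStack h𝒳
  haveI := isFibGrpd_of_isAlgStack h𝒴
  haveI := isFibGrpd_overCat V
  haveI : IsFibGrpd (fp f y).p := isFibGrpd_fp
  obtain ⟨U, d, hd₁, hd₂⟩ := (isAlgStack_fp' h𝒳 (isAlgStack_overCat V) h𝒴 f y).atlas
  haveI := isFibGrpd_overCat U
  obtain ⟨h, hβ⟩ := exists_iso_overMap (BasedFunctor.comp d (FibCat.fpSnd f y))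
  exact ⟨U, d, h, hβ, hd₁, hd₂, repByAlgSpWith_comp' good_smooth hd₁ (repByAlgSpWith_fpFst _ f hy),
    fun hys => repByAlgSpWith_comp' good_surjective hd₂ (repByAlgSpWith_fpFst _ f hys)⟩

/-- The chart over a smooth chart has the property. -/
theorem prop_chartOver (hP : IsSmoothLocalST P) (h𝒳 : AlgSt.IsAlgStack Scheme.fppfPrecoverage 𝒳)
    (h𝒴 : AlgSt.IsAlgStack Scheme.fppfPrecoverage 𝒴) {f : 𝒳 ⥤ᵇ 𝒴} (hf : AlgSt.LocQ P f) {V : Over S}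
    {y : overCat V ⥤ᵇ 𝒴} (hy : AlgSt.RepByAlgSpWith (LocP @Smooth) y) {U : Over S} {d : overCat U ⥤ᵇ fp f y}
    {h : U ⟶ V} (β : BasedFunctor.comp d (FibCat.fpSnd f y) ≅ AlgSt.overMap h)
    (hd : AlgSt.RepByAlgSpWith (LocP @Smooth) d) : P ((yon S).map h) := by
  haveI := isFibGrpd_of_isAlgStack h𝒳
  exact prop_of_covers_scheme hP h𝒳 h𝒴 (covers_of_locQ hf) (fpSq d β) hy (repByAlgSpWith_congr (fpLiftEta d β) hd)

/-- Composition. -/
theorem locQ_comp (hP : IsSmoothLocalST P)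
    (hPc : ∀ ⦃X₁ Y₁ Z₁ : Sp S⦄, IsAlgSpace X₁ → IsAlgSpace Y₁ → IsAlgSpace Z₁ →
      ∀ (a : X₁ ⟶ Y₁) (b : Y₁ ⟶ Z₁), P a → P b → P (a ≫ b))
    (h𝒳 : AlgSt.IsAlgStack Scheme.fppfPrecoverage 𝒳) (h𝒴 : AlgSt.IsAlgStack Scheme.fppfPrecoverage 𝒴)
    (h𝒵 : AlgSt.IsAlgStack Scheme.fppfPrecoverage 𝒵) (f : 𝒳 ⥤ᵇ 𝒴) (g : 𝒴 ⥤ᵇ 𝒵)
    (hf : AlgSt.LocQ P f) (hg : AlgSt.LocQ P g) : AlgSt.LocQ P (BasedFunctor.comp f g) := by
  obtain ⟨W, z, hz, hzs⟩ := h𝒵.atlas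
  obtain ⟨V, c, k, ⟨γ⟩, hc, -, hy, hys⟩ := exists_chartOver h𝒴 h𝒵 g z hz
  obtain ⟨U, d, h, ⟨β⟩, hd, -, hx, hxs⟩ := exists_chartOver h𝒳 h𝒴 f _ hy
  refine ⟨U, W, BasedFunctor.comp d (FibCat.fpFst _ _), z, h ≫ k, ?_, hx, hxs (hys hzs), hz, ?_⟩
  · exact whiskerRightIso' (fpSq d β) g ≪≫ whiskerLeftIso' (AlgSt.overMap h) (fpSq c γ) ≪≫
      eqToIso (by rw [overMap_comp]; rfl)
  · rw [Functor.map_comp]
    exact hPc (IsAlgSpace.yon_obj U) (IsAlgSpace.yon_obj V) (IsAlgSpace.yon_obj W) _ _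
      (prop_chartOver hP h𝒳 h𝒴 hf hy β hd) (prop_chartOver hP h𝒴 h𝒵 hg hz γ hc)

/-- The composite chart has the property of the composite. -/
theorem prop_comp_chart (hP : IsSmoothLocalST P) (h𝒳 : AlgSt.IsAlgStack Scheme.fppfPrecoverage 𝒳)
    (h𝒴 : AlgSt.IsAlgStack Scheme.fppfPrecoverage 𝒴) (h𝒵 : AlgSt.IsAlgStack Scheme.fppfPrecoverage 𝒵)
    {f : 𝒳 ⥤ᵇ 𝒴} {g : 𝒴 ⥤ᵇ 𝒵} (hfg : AlgSt.LocQ P (BasedFunctor.comp f g)) {W V U : Over S}
    {z : overCat W ⥤ᵇ 𝒵} (hz : AlgSt.RepByAlgSpWith (LocP @Smooth) z) {c : overCat V ⥤ᵇ fp g z} {k : V ⟶ W}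
    (γ : BasedFunctor.comp c (FibCat.fpSnd g z) ≅ AlgSt.overMap k) (hc : AlgSt.RepByAlgSpWith (LocP @Smooth) c)
    {d : overCat U ⥤ᵇ fp f (BasedFunctor.comp c (FibCat.fpFst g z))} {h : U ⟶ V}
    (β : BasedFunctor.comp d (FibCat.fpSnd f _) ≅ AlgSt.overMap h)
    (hd : AlgSt.RepByAlgSpWith (LocP @Smooth) d) : P ((yon S).map (h ≫ k)) := by
  haveI := isFibGrpd_of_isAlgStack h𝒳
  haveI := isFibGrpd_of_isAlgStack h𝒴
  haveI := isFibGrpd_of_isAlgStack h𝒵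
  haveI := isFibGrpd_overCat U
  haveI := isFibGrpd_overCat V
  haveI := isFibGrpd_overCat W
  haveI : IsFibGrpd (fp g z).p := isFibGrpd_fp
  haveI : IsFibGrpd (fp f (BasedFunctor.comp c (FibCat.fpFst g z))).p := isFibGrpd_fp
  haveI : IsFibGrpd (fp f (FibCat.fpFst g z)).p := isFibGrpd_fp
  let P₁ := BasedFunctor.comp (pairRight c f (FibCat.fpFst g z)) (fpPaste f g z)
  let L : overCat U ⥤ᵇ fp (BasedFunctor.comp f g) z := BasedFunctor.comp d P₁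
  have hP₁ : AlgSt.RepByAlgSpWith (LocP @Smooth) P₁ :=
    (repByAlgSpWith_square_iff (f := pairRight c f (FibCat.fpFst g z)) (f' := P₁) (a := BasedFunctor.id _)
      (b := (exists_inverse (isEquivOver_fpPaste f g z)).choose) (isEquivOver_id _)
      (exists_inverse (isEquivOver_fpPaste f g z)).choose_spec.1
      (whiskerLeftIso' (pairRight c f (FibCat.fpFst g z))
        (exists_inverse (isEquivOver_fpPaste f g z)).choose_spec.2.1.some) _).mp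
      (repByAlgSpWith_pairRight c f (FibCat.fpFst g z) hc)
  let δ : BasedFunctor.comp L (FibCat.fpSnd (BasedFunctor.comp f g) z) ≅ AlgSt.overMap (h ≫ k) :=
    whiskerRightIso' β (BasedFunctor.comp c (FibCat.fpSnd g z)) ≪≫ whiskerLeftIso' (AlgSt.overMap h) γ ≪≫
      eqToIso (overMap_comp h k).symm
  exact prop_chartOver hP h𝒳 h𝒵 hfg hz δ (repByAlgSpWith_comp' good_smooth hd hP₁)

/-- Representable morphisms with the property. -/
theorem locQ_of_repByAlgSpWith (hP : IsSmoothLocalST P) (hPG : Good P)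
    (h𝒳 : AlgSt.IsAlgStack Scheme.fppfPrecoverage 𝒳) (h𝒴 : AlgSt.IsAlgStack Scheme.fppfPrecoverage 𝒴)
    (f : 𝒳 ⥤ᵇ 𝒴) (hf : AlgSt.RepByAlgSpWith P f) : AlgSt.LocQ P f := by
  haveI := isFibGrpd_of_isAlgStack h𝒳
  haveI := isFibGrpd_of_isAlgStack h𝒴
  obtain ⟨V, y₀, hy₀, hy₀s⟩ := h𝒴.atlas
  let y := BasedFunctor.comp (AlgSt.toOverCat V) y₀
  haveI : IsFibGrpd (AlgSt.ofSch V).p := Stk.isFibGrpd_ofPsh _
  have hV := IsAlgSpace.yon_obj (S := S) V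
  obtain ⟨W, b, hW, ⟨e, he, ⟨β⟩⟩, hPb'⟩ := exists_along_test hPG.bc hPG.test hf hV y
  haveI : IsFibGrpd (AlgSt.ofSp W).p := Stk.isFibGrpd_ofPsh _
  haveI : IsFibGrpd (fp y f).p := isFibGrpd_fp
  have he1 := repByAlgSpWith_of_isEquivOver good_smooth.bc hW (AlgStLib.locP_smooth_id W) he
  have he2 := repByAlgSpWith_of_isEquivOver good_surjective.bc hW (isSurjectiveMor_of_isIso _) he
  refine (locQ_iff_exists_space hP h𝒳 h𝒴 f).mpr ⟨⟨W, hW⟩, ⟨_, hV⟩, BasedFunctor.comp e (FibCat.fpSnd y f), y,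
    ObjectProperty.homMk b, whiskerLeftIso' e (fpIso y f).symm ≪≫ whiskerRightIso' β y,
    repByAlgSpWith_comp' good_smooth he1 (repByAlgSpWith_fpSnd f (repByAlgSpWith_toOverCat_comp hy₀)),
    repByAlgSpWith_comp' good_surjective he2 (repByAlgSpWith_fpSnd f (repByAlgSpWith_toOverCat_comp hy₀s)),
    repByAlgSpWith_toOverCat_comp hy₀, hPb'⟩

/-- An isomorphism over the base does not change `LocQ`. -/
theorem locQ_congr {f f' : 𝒳 ⥤ᵇ 𝒴} (e : f ≅ f') (h : AlgSt.LocQ P f) : AlgSt.LocQ P f' := by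
  obtain ⟨U, V, x, y, k, α, r⟩ := h
  exact ⟨U, V, x, y, k, whiskerLeftIso' x e.symm ≪≫ α, r⟩

/-- Base change. -/
theorem locQ_fpFst (hP : IsSmoothLocalST P) (hPb : StableBC P)
    {𝒴' : AlgSt.Cat S} (h𝒳 : AlgSt.IsAlgStack Scheme.fppfPrecoverage 𝒳)
    (h𝒴 : AlgSt.IsAlgStack Scheme.fppfPrecoverage 𝒴) (h𝒴' : AlgSt.IsAlgStack Scheme.fppfPrecoverage 𝒴')
    (f : 𝒳 ⥤ᵇ 𝒴) (g : 𝒴' ⥤ᵇ 𝒴) (hf : AlgSt.LocQ P f) : AlgSt.LocQ P (FibCat.fpFst g f) := by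
  haveI := isFibGrpd_of_isAlgStack h𝒳
  haveI := isFibGrpd_of_isAlgStack h𝒴
  haveI := isFibGrpd_of_isAlgStack h𝒴'
  obtain ⟨V₀, y₀, hy₀, hy₀s⟩ := h𝒴.atlas
  obtain ⟨U₀, d, h, ⟨β⟩, hd, -, hx₀, hx₀s⟩ := exists_chartOver h𝒳 h𝒴 f y₀ hy₀
  have hPh := prop_chartOver hP h𝒳 h𝒴 hf hy₀ β hd
  let α := fpSq d β
  let x := BasedFunctor.comp d (FibCat.fpFst f y₀)
  obtain ⟨V', c, m, ⟨γ⟩, hc, hcs, hy', hys'⟩ := exists_chartOver h𝒴' h𝒴 g y₀ hy₀
  let hU := IsAlgSpace.yon_obj (S := S) U₀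
  let hV := IsAlgSpace.yon_obj (S := S) V₀
  let hV' := IsAlgSpace.yon_obj (S := S) V'
  haveI : IsFibGrpd (AlgSt.ofSch U₀).p := Stk.isFibGrpd_ofPsh _
  haveI : IsFibGrpd (AlgSt.ofSch V').p := Stk.isFibGrpd_ofPsh _
  haveI : IsFibGrpd (AlgSt.ofSch V₀).p := Stk.isFibGrpd_ofPsh _
  haveI := full_id 𝒴
  haveI := faithful_id 𝒴
  haveI := full_id (AlgSt.ofSch V₀)
  haveI := faithful_id (AlgSt.ofSch V₀)
  let y := BasedFunctor.comp (AlgSt.toOverCat V₀) y₀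
  let x₁ := BasedFunctor.comp (AlgSt.toOverCat U₀) x
  let α₁ : BasedFunctor.comp x₁ f ≅ BasedFunctor.comp (AlgSt.ofSpMap ((yon S).map h)) y :=
    whiskerLeftIso' (AlgSt.toOverCat U₀) α
  haveI : IsFibGrpd (fp g y).p := isFibGrpd_fp
  let c₁ : AlgSt.ofSch V' ⥤ᵇ fp g y :=
    fpLift (BasedFunctor.comp (AlgSt.toOverCat V') (BasedFunctor.comp c (FibCat.fpFst g y₀)))
      (AlgSt.ofSpMap ((yon S).map m)) (whiskerLeftIso' (AlgSt.toOverCat V') (fpSq c γ))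
  let M : fp g y ⥤ᵇ fp g y₀ := fpMap (a := BasedFunctor.id _) (b := AlgSt.toOverCat V₀) (c := BasedFunctor.id _)
    (F := g) (G := y₀) (F' := g) (G' := y) (Iso.refl _) (Iso.refl _)
  have hM : IsEquivOver M := isEquivOver_fpMap _ _ (isEquivOver_id _) (isEquivOver_toOverCat V₀)
  let e₁ : BasedFunctor.comp c₁ M ≅ BasedFunctor.comp (AlgSt.toOverCat V') c :=
    liftMapIso (BasedFunctor.comp (AlgSt.toOverCat V') (BasedFunctor.comp c (FibCat.fpFst g y₀)))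
      (AlgSt.ofSpMap ((yon S).map m)) (AlgSt.toOverCat V₀) (whiskerLeftIso' (AlgSt.toOverCat V') (fpSq c γ)) ≪≫
      whiskerLeftIso' (AlgSt.toOverCat V') (fpLiftEta c γ).symm
  have hc₁ := (repByAlgSpWith_square_iff (isEquivOver_toOverCat V') hM e₁ (LocP @Smooth)).mp hc
  have hc₁s := (repByAlgSpWith_square_iff (isEquivOver_toOverCat V') hM e₁ IsSurjectiveMor).mp hcs
  let b := (yon S).map m
  let a := (yon S).map h
  have sq := IsPullback.of_hasPullback b a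
  have hG := isAlgSpace_pullback hV' hU hV b a
  let G := pullback b a
  haveI : IsFibGrpd (AlgSt.ofSp G).p := Stk.isFibGrpd_ofPsh _
  let D : AlgSt.ofSp G ⥤ᵇ fp (BasedFunctor.comp c₁ (FibCat.fpSnd g y)) (AlgSt.ofSpMap a) :=
    fpLift (Stk.ofPshMap (pullback.fst b a).hom) (Stk.ofPshMap (pullback.snd b a).hom)
      (eqToIso (by
        change BasedFunctor.comp (Stk.ofPshMap (pullback.fst b a).hom) (Stk.ofPshMap b.hom) = BasedFunctor.comp (Stk.ofPshMap (pullback.snd b a).hom) (Stk.ofPshMap a.hom)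
        rw [← ofPshMap_comp, ← ofPshMap_comp, (isPullback_sheaf sq).w]))
  have hD : IsEquivOver D := isEquivOver_fpLift_of_bijective (isPullback_sheaf sq).w _
    (fun T => bijective_toPairs_of_isPullback (isPullback_sheaf sq) T)
  let Q₁ := pairLeft c₁ (FibCat.fpSnd g y) (AlgSt.ofSpMap a)
  let Q₂ := fpCompRight g (AlgSt.ofSpMap a) y
  let Q₃ : fp g (BasedFunctor.comp (AlgSt.ofSpMap a) y) ⥤ᵇ fp g (BasedFunctor.comp x₁ f) :=
    fpMap (a := BasedFunctor.id _) (b := BasedFunctor.id _) (c := BasedFunctor.id _)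
      (F' := g) (G' := BasedFunctor.comp (AlgSt.ofSpMap a) y) (Iso.refl _) α₁
  let Q₄ := pairRight x₁ g f
  haveI : IsFibGrpd (fp (FibCat.fpSnd g y) (AlgSt.ofSpMap a)).p := isFibGrpd_fp
  haveI : IsFibGrpd (fp (BasedFunctor.comp c₁ (FibCat.fpSnd g y)) (AlgSt.ofSpMap a)).p := isFibGrpd_fp
  haveI : IsFibGrpd (fp g (BasedFunctor.comp x₁ f)).p := isFibGrpd_fp
  haveI : IsFibGrpd (fp g f).p := isFibGrpd_fp
  let E := BasedFunctor.comp Q₂ Q₃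
  have hE : IsEquivOver E :=
    isEquivOver_comp (isEquivOver_fpCompRight g (AlgSt.ofSpMap a) y)
      (isEquivOver_fpMap _ _ (isEquivOver_id _) (isEquivOver_id _))
  obtain ⟨E', hE', ⟨μ⟩, -⟩ := exists_inverse hE
  let X' := BasedFunctor.comp (BasedFunctor.comp (BasedFunctor.comp D Q₁) E) Q₄
  have main : ∀ (R : MorphismProperty (Sp S)), Good R → (∀ (F : Sp S), R (𝟙 F)) → AlgSt.RepByAlgSpWith R c₁ →
      AlgSt.RepByAlgSpWith R x₁ → AlgSt.RepByAlgSpWith R X' := fun R hR hid h1 h2 => by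
    refine repByAlgSpWith_comp' hR ?_ (repByAlgSpWith_pairRight x₁ g f h2)
    refine (repByAlgSpWith_square_iff (f := BasedFunctor.comp D Q₁) (f' := BasedFunctor.comp (BasedFunctor.comp D Q₁) E)
      (a := BasedFunctor.id _) (b := E') (isEquivOver_id _) hE'
      (whiskerLeftIso' (BasedFunctor.comp D Q₁) μ) R).mp ?_
    exact repByAlgSpWith_comp' hR (repByAlgSpWith_of_isEquivOver hR.bc hG (hid G) hD)
      (repByAlgSpWith_pairLeft c₁ (FibCat.fpSnd g y) (AlgSt.ofSpMap a) h1)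
  refine (locQ_iff_exists_space hP (isAlgStack_fp' h𝒴' h𝒳 h𝒴 g f) h𝒴' _).mpr
    ⟨⟨G, hG⟩, ⟨_, hV'⟩, X', BasedFunctor.comp (AlgSt.toOverCat V') (BasedFunctor.comp c (FibCat.fpFst g y₀)),
      ObjectProperty.homMk (pullback.fst b a), Iso.refl _,
      main _ good_smooth AlgStLib.locP_smooth_id hc₁ (repByAlgSpWith_toOverCat_comp hx₀),
      main _ good_surjective (fun _ => isSurjectiveMor_of_isIso _) hc₁s
        (repByAlgSpWith_toOverCat_comp (hx₀s hy₀s)),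
      repByAlgSpWith_toOverCat_comp hy', ?_⟩
  exact hPb hU hV hG hV' a b _ _ sq.flip hPh

end AlgStLib
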