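import Groth.Agent.AlgStLib.PointsQc
import Mathlib.AlgebraicGeometry.Sites.MorphismProperty

/-!
# Properties of algebraic stacks which are local for the smooth topology
-/

set_option autoImplicit false
set_option backward.isDefEq.respectTransparency false
set_option backward.isDefEq.respectTransparency.types false

universe u

open CategoryTheory CategoryTheory.Limits AlgebraicGeometry Opposite AlgSp FibCat FibLib AlgSpLib Topology

noncomputable section

namespace AlgStLib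

variable {S : Scheme.{u}} {𝒳 : AlgSt.Cat S}

/-- Properties of schemes local for the smooth topology. -/
def SmLocalProp (P : Scheme.{u} → Prop) : Prop :=
  ∀ (U : Scheme.{u}) (R : Presieve U), R ∈ Scheme.precoverage @Smooth U →
    (P U ↔ ∀ ⦃V : Scheme.{u}⦄ (g : V ⟶ U), R g → P V)

lemma SmLocalProp.pullback {P : Scheme.{u} → Prop} (hP : SmLocalProp P) {U V : Scheme.{u}} (g : V ⟶ U)
    [Smooth g] (h : P U) : P V := by
  let X : Bool → Scheme.{u} := fun b => cond b V U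
  let f : ∀ b, X b ⟶ U := fun b => Bool.rec (𝟙 U) g b
  have hmem : Presieve.ofArrows X f ∈ Scheme.precoverage @Smooth U := by
    rw [Scheme.ofArrows_mem_precoverage_iff]
    exact ⟨fun x => ⟨false, x, rfl⟩, fun b => match b with
      | true => (inferInstance : Smooth g)
      | false => (inferInstance : Smooth (𝟙 U))⟩
  exact (hP U _ hmem).1 h g (Presieve.ofArrows.mk (Y := X) (f := f) true)

lemma SmLocalProp.of_cover {P : Scheme.{u} → Prop} (hP : SmLocalProp P) {U V : Scheme.{u}} (g : V ⟶ U)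
    [Smooth g] [Surjective g] (h : P V) : P U := by
  refine (hP U (Presieve.singleton g) ?_).2 fun V' g' hg' => by cases hg'; exact h
  rw [Scheme.singleton_mem_precoverage_iff]
  exact ⟨g.surjective, inferInstance⟩

lemma smooth_left_of_locP {U V : Over S} {j : U ⟶ V} (h : LocP @Smooth ((yon S).map j)) : Smooth j.left :=
  h (𝟙 _) (𝟙 _) j (repWith_id _ U) (repWith_id _ V) (by simp)

/-- The composite of a chart of a space with a map to the stack. -/
def spaceChart {F : Sp S} {V : Over S} (p : (yon S).obj V ⟶ F) (u : AlgSt.ofSp F ⥤ᵇ 𝒳) : overCat V ⥤ᵇ 𝒳 :=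
  BasedFunctor.comp (BasedFunctor.comp (AlgSt.ofOverCat V) (AlgSt.ofSpMap p)) u

lemma repByAlgSpWith_spaceChart [IsFibGrpd 𝒳.p] {P : MorphismProperty (Sp S)} (hP : Good P) {F : Sp S}
    (hF : IsAlgSpace F) {V : Over S} {p : (yon S).obj V ⟶ F} (hp : P p) {u : AlgSt.ofSp F ⥤ᵇ 𝒳}
    (hu : AlgSt.RepByAlgSpWith P u) : AlgSt.RepByAlgSpWith P (spaceChart p u) := by
  haveI := isFibGrpd_overCat V
  haveI : IsFibGrpd (AlgSt.ofSp F).p := Stk.isFibGrpd_ofPsh _
  refine repByAlgSpWith_comp' hP ?_ hu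
  refine (repByAlgSpWith_square_iff (f' := AlgSt.ofSpMap p) (a := AlgSt.toOverCat V) (b := BasedFunctor.id _)
    (isEquivOver_toOverCat V) (isEquivOver_id _) (Iso.refl _) P).mpr ?_
  exact repByAlgSpWith_ofSpMap (IsAlgSpace.yon_obj V) hF p fun W ξ =>
    hP.bc (IsAlgSpace.yon_obj V) hF (isAlgSpace_pullback (IsAlgSpace.yon_obj V) (IsAlgSpace.yon_obj W) hF p ξ)
      (IsAlgSpace.yon_obj W) p ξ _ _ (IsPullback.of_hasPullback p ξ) hp

variable {P : Scheme.{u} → Prop}

/-- The property passes from one smooth surjective chart to every smooth chart. -/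
theorem smoothLocally_of_chart [IsFibGrpd 𝒳.p] (hP : SmLocalProp P) {U : Over S} {x : overCat U ⥤ᵇ 𝒳}
    (hx : AlgSt.RepByAlgSpWith (LocP @Smooth) x) (hxs : AlgSt.RepByAlgSpWith IsSurjectiveMor x)
    (h : P U.left) : AlgSt.SmoothLocally P 𝒳 := by
  intro U' x' hx'
  haveI := isFibGrpd_overCat U
  haveI := isFibGrpd_overCat U'
  let u := BasedFunctor.comp (AlgSt.toOverCat U') x'
  have hu := repByAlgSpWith_toOverCat_comp hx'
  obtain ⟨H, b, hH, hb, hb₁⟩ := (repByAlgSpWith_iff _ _).mp (repByAlgSpWith_toOverCat_comp hx) U' u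
  have hb₂ := prop_of_along good_surjective.bc.precomp_iso (repByAlgSpWith_toOverCat_comp hxs) hb
  obtain ⟨e, he, ⟨β⟩⟩ := hb
  let v : AlgSt.ofSp H ⥤ᵇ AlgSt.ofSch U := BasedFunctor.comp e (FibCat.fpSnd u _)
  obtain ⟨α⟩ := nonempty_iso_mapOf v
  let m : H ⟶ (yon S).obj U := ObjectProperty.homMk (mapOf v)
  obtain ⟨H', m', hH', hm', hm₁⟩ := (repByAlgSpWith_iff _ _).mp hu U (BasedFunctor.comp (AlgSt.toOverCat U) x)
  -- the second projection is smooth
  have hm : LocP @Smooth m := by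
    have hfp : AlgSt.RepByAlgSpWith (LocP @Smooth) (FibCat.fpSnd u (BasedFunctor.comp (AlgSt.toOverCat U) x)) :=
      repByAlgSpWith_fpSnd _ hu
    have hv : AlgSt.RepByAlgSpWith (LocP @Smooth) (Stk.ofPshMap m.hom) := by
      refine repByAlgSpWith_congr α ?_
      exact (repByAlgSpWith_square_iff (f := FibCat.fpSnd u _) (f' := v) (a := e) (b := BasedFunctor.id _)
        he (isEquivOver_id _) (Iso.refl _) _).mp hfp
    obtain ⟨K, k, hK, hk, hk₁⟩ := (repByAlgSpWith_iff _ _).mp hv U (BasedFunctor.id _)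
    obtain ⟨i, hi⟩ := along_hom_unique (a := m) ((along_ofPshMap (b' := 𝟙 _)
      (IsPullback.of_horiz_isIso ⟨by simp⟩ : IsPullback (𝟙 H.obj) m.hom m.hom (𝟙 _))).congr
        (Iso.refl _) (Iso.refl _)) hk
    rw [← hi]
    exact good_smooth.bc.precomp_iso i k hK (IsAlgSpace.yon_obj U) hk₁
  obtain ⟨V, p, hp, hps⟩ := hH.atlas
  obtain ⟨j, hj⟩ := (yon S).map_surjective (p ≫ b)
  obtain ⟨j', hj'⟩ := (yon S).map_surjective (p ≫ m)
  have hsmp : LocP @Smooth p := locP_smooth_of_isEtaleMor (isEtaleMor_of_repWith hp)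
  have hV := IsAlgSpace.yon_obj (S := S) V
  haveI : Smooth j.left := smooth_left_of_locP (hj ▸ good_smooth.comp hV hH (IsAlgSpace.yon_obj U') p b hsmp hb₁)
  haveI : Smooth j'.left := smooth_left_of_locP (hj' ▸ good_smooth.comp hV hH (IsAlgSpace.yon_obj U) p m hsmp hm)
  haveI : Surjective j.left := ⟨fun t => by
    obtain ⟨z, hz⟩ := hb₂ (Points.schemeHomeo U' t)
    obtain ⟨y, rfl⟩ := map_surjective_of_repWith hps z
    obtain ⟨y, rfl⟩ := (Points.schemeHomeo V).surjective y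
    refine ⟨y, (Points.schemeHomeo U').injective ?_⟩
    rw [← Points.map_comp, ← hj, Points.map_yon_map_apply] at hz
    exact hz⟩
  exact hP.of_cover j.left (hP.pullback j'.left h)

theorem smoothLocally_iff_chart [IsFibGrpd 𝒳.p] (hA : AlgSt.HasAtlas (LocP @Smooth) 𝒳) (hP : SmLocalProp P) :
    AlgSt.SmoothLocally P 𝒳 ↔
      ∃ (U : Over S) (x : FibCat.overCat U ⥤ᵇ 𝒳),
        AlgSt.RepByAlgSpWith (LocP @Smooth) x ∧ AlgSt.RepByAlgSpWith IsSurjectiveMor x ∧ P U.left := by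
  constructor
  · obtain ⟨U, x, hx, hxs⟩ := hA
    exact fun h => ⟨U, x, hx, hxs, h U x hx⟩
  · rintro ⟨U, x, hx, hxs, h⟩
    exact smoothLocally_of_chart hP hx hxs h

theorem etaleLocally_of_smoothLocally [IsFibGrpd 𝒳.p] {F : Sp S} (hF : IsAlgSpace F) {u : AlgSt.ofSp F ⥤ᵇ 𝒳}
    (hu : AlgSt.RepByAlgSpWith (LocP @Smooth) u) (h : AlgSt.SmoothLocally P 𝒳) : EtaleLocally P F := by
  obtain ⟨V, p, hp, hps⟩ := hF.atlas
  exact ⟨V, p, hp, hps, h V _ (repByAlgSpWith_spaceChart good_smooth hF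
    (locP_smooth_of_isEtaleMor (isEtaleMor_of_repWith hp)) hu)⟩

theorem smoothLocally_iff_forall_space [IsFibGrpd 𝒳.p] (hP : SmLocalProp P) :
    AlgSt.SmoothLocally P 𝒳 ↔
      ∀ (U : AlgSp.Space S) (x : AlgSt.ofSp U.obj ⥤ᵇ 𝒳),
        AlgSt.RepByAlgSpWith (LocP @Smooth) x → AlgSp.EtaleLocally P U.obj := by
  refine ⟨fun h U x hx => etaleLocally_of_smoothLocally U.property hx h, fun h U x hx => ?_⟩
  obtain ⟨V, p, hp, hps, hV⟩ := h ⟨(yon S).obj U, IsAlgSpace.yon_obj U⟩ _ (repByAlgSpWith_toOverCat_comp hx)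
  obtain ⟨j, rfl⟩ := (yon S).map_surjective p
  haveI : Etale j.left := (repWith_yon_map_iff (P := (@Etale : MorphismProperty Scheme.{u})) j).1 hp
  haveI : Surjective j.left := (repWith_yon_map_iff (P := (@Surjective : MorphismProperty Scheme.{u})) j).1 hps
  exact hP.of_cover j.left hV

theorem smoothLocally_iff_exists_space [IsFibGrpd 𝒳.p] (hA : AlgSt.HasAtlas (LocP @Smooth) 𝒳)
    (hP : SmLocalProp P) :
    AlgSt.SmoothLocally P 𝒳 ↔
      ∃ (U : AlgSp.Space S) (x : AlgSt.ofSp U.obj ⥤ᵇ 𝒳),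
        AlgSt.RepByAlgSpWith (LocP @Smooth) x ∧ AlgSt.RepByAlgSpWith IsSurjectiveMor x ∧
          AlgSp.EtaleLocally P U.obj := by
  constructor
  · intro h
    obtain ⟨U, x, hx, hxs⟩ := id hA
    exact ⟨⟨(yon S).obj U, IsAlgSpace.yon_obj U⟩, _, repByAlgSpWith_toOverCat_comp hx,
      repByAlgSpWith_toOverCat_comp hxs,
      etaleLocally_of_smoothLocally (IsAlgSpace.yon_obj U) (repByAlgSpWith_toOverCat_comp hx) h⟩
  · rintro ⟨U, x, hx, hxs, V, p, hp, hps, hV⟩
    exact smoothLocally_of_chart hP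
      (repByAlgSpWith_spaceChart good_smooth U.property
        (locP_smooth_of_isEtaleMor (isEtaleMor_of_repWith hp)) hx)
      (repByAlgSpWith_spaceChart good_surjective U.property (map_surjective_of_repWith hps) hxs) hV

theorem smoothLocally_ofSp_iff {F : Sp S} (hF : IsAlgSpace F) (hP : SmLocalProp P) :
    AlgSt.SmoothLocally P (AlgSt.ofSp F) ↔ AlgSp.EtaleLocally P F := by
  haveI : IsFibGrpd (AlgSt.ofSp F).p := Stk.isFibGrpd_ofPsh _
  have hid : ∀ {Q : MorphismProperty (Sp S)}, StableBC Q → Q (𝟙 F) →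
      AlgSt.RepByAlgSpWith Q (BasedFunctor.id (AlgSt.ofSp F)) := fun {Q} hQ h =>
    repByAlgSpWith_ofSpMap hF hF (𝟙 F) fun W ξ =>
      hQ hF hF (isAlgSpace_pullback hF (IsAlgSpace.yon_obj W) hF _ ξ) (IsAlgSpace.yon_obj W) _ ξ _ _
        (IsPullback.of_hasPullback _ ξ) h
  have hs : LocP @Smooth (𝟙 F) := locP_smooth_of_isEtaleMor
    (isEtaleMor_of_repWith (MorphismProperty.id_mem _ F))
  refine ⟨etaleLocally_of_smoothLocally hF (hid good_smooth.bc hs), fun h => ?_⟩
  refine (smoothLocally_iff_exists_space (hasAtlas_ofSp hF) hP).2 ⟨⟨F, hF⟩, BasedFunctor.id _,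
    hid good_smooth.bc hs, hid good_surjective.bc (fun y => ⟨y, Points.map_id y⟩), h⟩

theorem smoothLocally_ofSch_iff (U : Over S) (hP : SmLocalProp P) :
    AlgSt.SmoothLocally P (AlgSt.ofSch U) ↔ P U.left := by
  rw [smoothLocally_ofSp_iff (IsAlgSpace.yon_obj U) hP]
  refine ⟨fun ⟨V, p, hp, hps, hV⟩ => ?_, fun h => ⟨U, 𝟙 _, MorphismProperty.id_mem _ _,
    MorphismProperty.id_mem _ _, h⟩⟩
  obtain ⟨j, rfl⟩ := (yon S).map_surjective p
  haveI : Etale j.left := (repWith_yon_map_iff (P := (@Etale : MorphismProperty Scheme.{u})) j).1 hp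
  haveI : Surjective j.left := (repWith_yon_map_iff (P := (@Surjective : MorphismProperty Scheme.{u})) j).1 hps
  exact hP.of_cover j.left hV

end AlgStLib
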