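import Groth.Agent.AlgStLib.LocQ4
import Groth.Agent.AlgStLib.SmLoc
import Groth.Agent.AlgStLib.PointsTop
import Groth.Agent.AlgSpLib.Reduced

/-!
# Descent for `LocQ`, openness, Noetherian charts
-/

set_option autoImplicit false
set_option backward.isDefEq.respectTransparency false
set_option backward.isDefEq.respectTransparency.types false

universe u

open CategoryTheory CategoryTheory.Limits AlgebraicGeometry Opposite AlgSp FibCat FibLib AlgSpLib Topology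

noncomputable section

namespace AlgStLib

variable {S : Scheme.{u}} {𝒳 𝒴 𝒵 : AlgSt.Cat S} {P : MorphismProperty (Sp S)}

lemma surjective_left_of_isSurjectiveMor {U V : Over S} {h : U ⟶ V} (H : IsSurjectiveMor ((yon S).map h)) :
    Surjective h.left := ⟨fun v => by
  obtain ⟨p, hp⟩ := H (Points.schemeEquiv V v)
  obtain ⟨z, rfl⟩ := (Points.schemeEquiv U).surjective p
  replace hp := (Points.map_yon_map_apply h z).symm.trans hp
  exact ⟨z, (Points.schemeEquiv V).injective hp⟩⟩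

lemma isSurjectiveMor_yon_map' {U V : Over S} (h : U ⟶ V) [Surjective h.left] :
    IsSurjectiveMor ((yon S).map h) := fun p => by
  obtain ⟨v, rfl⟩ := (Points.schemeEquiv V).surjective p
  obtain ⟨z, rfl⟩ := h.left.surjective v
  exact ⟨_, Points.map_yon_map_apply h z⟩

/-- A lift through the change of charts from schemes to spaces. -/
lemma exists_chartOver_space {f : 𝒳 ⥤ᵇ 𝒴} {U V : Over S} {y₀ : overCat V ⥤ᵇ 𝒴} {d : overCat U ⥤ᵇ fp f y₀}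
    {h : U ⟶ V} (β : BasedFunctor.comp d (FibCat.fpSnd f y₀) ≅ AlgSt.overMap h)
    (hd : AlgSt.RepByAlgSpWith (LocP @Smooth) d) :
    ∃ d₁ : AlgSt.ofSch U ⥤ᵇ fp f (BasedFunctor.comp (AlgSt.toOverCat V) y₀),
      Nonempty (BasedFunctor.comp d₁ (FibCat.fpSnd f _) ≅ AlgSt.ofSpMap ((yon S).map h)) ∧
      AlgSt.RepByAlgSpWith (LocP @Smooth) d₁ := by
  haveI := full_id 𝒴
  haveI := faithful_id 𝒴
  refine ⟨fpLift (BasedFunctor.comp (AlgSt.toOverCat U) (BasedFunctor.comp d (FibCat.fpFst f y₀)))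
    (AlgSt.ofSpMap ((yon S).map h)) (whiskerLeftIso' (AlgSt.toOverCat U) (fpSq d β)), ⟨Iso.refl _⟩, ?_⟩
  let M : fp f (BasedFunctor.comp (AlgSt.toOverCat V) y₀) ⥤ᵇ fp f y₀ :=
    fpMap (a := BasedFunctor.id _) (b := AlgSt.toOverCat V) (c := BasedFunctor.id _)
      (F := f) (G := y₀) (F' := f) (G' := BasedFunctor.comp (AlgSt.toOverCat V) y₀) (Iso.refl _) (Iso.refl _)
  have hM : IsEquivOver M := isEquivOver_fpMap _ _ (isEquivOver_id _) (isEquivOver_toOverCat V)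
  exact (repByAlgSpWith_square_iff (isEquivOver_toOverCat U) hM
    (liftMapIso (BasedFunctor.comp (AlgSt.toOverCat U) (BasedFunctor.comp d (FibCat.fpFst f y₀)))
      (AlgSt.ofSpMap ((yon S).map h)) (AlgSt.toOverCat V) (whiskerLeftIso' (AlgSt.toOverCat U) (fpSq d β)) ≪≫
      whiskerLeftIso' (AlgSt.toOverCat U) (fpLiftEta d β).symm) (LocP @Smooth)).mp hd

/-- The base change of a chart along a square has the property of the base change. -/
theorem prop_pullback_chart (hP : IsSmoothLocalST P) (h𝒳 : AlgSt.IsAlgStack Scheme.fppfPrecoverage 𝒳)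
    (h𝒴 : AlgSt.IsAlgStack Scheme.fppfPrecoverage 𝒴) (h𝒵 : AlgSt.IsAlgStack Scheme.fppfPrecoverage 𝒵)
    {f : 𝒳 ⥤ᵇ 𝒴} {z : 𝒵 ⥤ᵇ 𝒴} (hq : AlgSt.LocQ P (FibCat.fpFst z f)) {U V V' : Over S}
    {y₀ : overCat V ⥤ᵇ 𝒴} {d : overCat U ⥤ᵇ fp f y₀} {h : U ⟶ V}
    (β : BasedFunctor.comp d (FibCat.fpSnd f y₀) ≅ AlgSt.overMap h)
    (hd : AlgSt.RepByAlgSpWith (LocP @Smooth) d) {c : overCat V' ⥤ᵇ fp z y₀} {m : V' ⟶ V}
    (γ : BasedFunctor.comp c (FibCat.fpSnd z y₀) ≅ AlgSt.overMap m)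
    (hy' : AlgSt.RepByAlgSpWith (LocP @Smooth) (BasedFunctor.comp c (FibCat.fpFst z y₀))) :
    P (pullback.snd ((yon S).map h) ((yon S).map m)) := by
  haveI := isFibGrpd_of_isAlgStack h𝒳
  haveI := isFibGrpd_of_isAlgStack h𝒴
  haveI := isFibGrpd_of_isAlgStack h𝒵
  haveI : IsFibGrpd (fp z f).p := isFibGrpd_fp
  haveI : IsFibGrpd (AlgSt.ofSch U).p := Stk.isFibGrpd_ofPsh _
  haveI : IsFibGrpd (AlgSt.ofSch V).p := Stk.isFibGrpd_ofPsh _
  haveI : IsFibGrpd (AlgSt.ofSch V').p := Stk.isFibGrpd_ofPsh _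
  haveI := full_id 𝒴
  haveI := faithful_id 𝒴
  haveI := full_id 𝒵
  haveI := faithful_id 𝒵
  obtain ⟨d₁, ⟨β₁⟩, hd₁⟩ := exists_chartOver_space β hd
  let y := BasedFunctor.comp (AlgSt.toOverCat V) y₀
  let y' := BasedFunctor.comp (AlgSt.toOverCat V') (BasedFunctor.comp c (FibCat.fpFst z y₀))
  let a := (yon S).map h
  let b := (yon S).map m
  let γ' : BasedFunctor.comp y' z ≅ BasedFunctor.comp (AlgSt.ofSpMap b) y :=
    whiskerLeftIso' (AlgSt.toOverCat V') (fpSq c γ)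
  have hU := IsAlgSpace.yon_obj (S := S) U
  have hV := IsAlgSpace.yon_obj (S := S) V
  have hV' := IsAlgSpace.yon_obj (S := S) V'
  have sq := IsPullback.of_hasPullback a b
  have hG := isAlgSpace_pullback hU hV' hV a b
  let G := pullback a b
  haveI : IsFibGrpd (AlgSt.ofSp G).p := Stk.isFibGrpd_ofPsh _
  haveI : IsFibGrpd (fp f y).p := isFibGrpd_fp
  haveI := full_id (AlgSt.ofSch V)
  haveI := faithful_id (AlgSt.ofSch V)
  let D₀ : AlgSt.ofSp G ⥤ᵇ fp (AlgSt.ofSpMap a) (AlgSt.ofSpMap b) :=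
    fpLift (Stk.ofPshMap (pullback.fst a b).hom) (Stk.ofPshMap (pullback.snd a b).hom)
      (eqToIso (by
        change BasedFunctor.comp (Stk.ofPshMap (pullback.fst a b).hom) (Stk.ofPshMap a.hom) =
          BasedFunctor.comp (Stk.ofPshMap (pullback.snd a b).hom) (Stk.ofPshMap b.hom)
        rw [← ofPshMap_comp, ← ofPshMap_comp, (isPullback_sheaf sq).w]))
  have hD₀ : IsEquivOver D₀ := isEquivOver_fpLift_of_bijective (isPullback_sheaf sq).w _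
    (fun T => bijective_toPairs_of_isPullback (isPullback_sheaf sq) T)
  let C₀ : fp (AlgSt.ofSpMap a) (AlgSt.ofSpMap b) ⥤ᵇ fp (BasedFunctor.comp d₁ (FibCat.fpSnd f y)) (AlgSt.ofSpMap b) :=
    fpMap (a := BasedFunctor.id _) (b := BasedFunctor.id _) (c := BasedFunctor.id _)
      (F' := AlgSt.ofSpMap a) (G' := AlgSt.ofSpMap b) β₁ (Iso.refl _)
  let Q₁ := pairLeft d₁ (FibCat.fpSnd f y) (AlgSt.ofSpMap b)
  let E := BasedFunctor.comp (fpCompRight f (AlgSt.ofSpMap b) y)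
    (fpMap (a := BasedFunctor.id _) (b := BasedFunctor.id _) (c := BasedFunctor.id _)
      (F := f) (G := BasedFunctor.comp y' z) (F' := f) (G' := BasedFunctor.comp (AlgSt.ofSpMap b) y)
      (Iso.refl _) γ')
  have hE : IsEquivOver E := isEquivOver_comp (isEquivOver_fpCompRight f (AlgSt.ofSpMap b) y)
    (isEquivOver_fpMap _ _ (isEquivOver_id _) (isEquivOver_id _))
  let E' := fpCompRight f y' z
  obtain ⟨J, hJ, -, ⟨ν⟩⟩ := exists_inverse (isEquivOver_fpCompRight f y' z)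
  let M : fp (FibCat.fpSnd f z) y' ⥤ᵇ fp (FibCat.fpFst z f) y' :=
    fpMap (a := fpSwap f z) (b := BasedFunctor.id _) (c := BasedFunctor.id _)
      (F' := FibCat.fpSnd f z) (G' := y') (Iso.refl _) (Iso.refl _)
  have hM : IsEquivOver M := isEquivOver_fpMap _ _ (isEquivOver_fpSwap f z) (isEquivOver_id _)
  haveI : IsFibGrpd (fp (BasedFunctor.comp d₁ (FibCat.fpSnd f y)) (AlgSt.ofSpMap b)).p := isFibGrpd_fp
  haveI : IsFibGrpd (fp (FibCat.fpSnd f y) (AlgSt.ofSpMap b)).p := isFibGrpd_fp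
  let N := BasedFunctor.comp E (BasedFunctor.comp J M)
  have hN : IsEquivOver N := isEquivOver_comp hE (isEquivOver_comp hJ hM)
  obtain ⟨N', hN', ⟨μ⟩, -⟩ := exists_inverse hN
  let DC := BasedFunctor.comp D₀ C₀
  let L := BasedFunctor.comp (BasedFunctor.comp DC Q₁) N
  have hL : AlgSt.RepByAlgSpWith (LocP @Smooth) L := by
    refine (repByAlgSpWith_square_iff (f := BasedFunctor.comp DC Q₁) (f' := L)
      (a := BasedFunctor.id _) (b := N') (isEquivOver_id _) hN'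
      (whiskerLeftIso' (BasedFunctor.comp DC Q₁) μ) _).mp ?_
    exact repByAlgSpWith_comp' good_smooth
      (repByAlgSpWith_of_isEquivOver good_smooth.bc hG (AlgStLib.locP_smooth_id G)
        (isEquivOver_comp hD₀ (isEquivOver_fpMap _ _ (isEquivOver_id _) (isEquivOver_id _))))
      (repByAlgSpWith_pairLeft d₁ (FibCat.fpSnd f y) (AlgSt.ofSpMap b) hd₁)
  let δ : BasedFunctor.comp L (FibCat.fpSnd (FibCat.fpFst z f) y') ≅ AlgSt.ofSpMap (pullback.snd a b) :=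
    whiskerLeftIso' (BasedFunctor.comp (BasedFunctor.comp DC Q₁) E)
      (whiskerRightIso' ν (FibCat.fpSnd f (BasedFunctor.comp y' z)))
  haveI : IsFibGrpd (fp (FibCat.fpFst z f) y').p := isFibGrpd_fp
  exact prop_of_covers hP (isAlgStack_fp' h𝒵 h𝒳 h𝒴 z f) h𝒵 (covers_of_locQ hq) hG hV' (fpSq L δ)
    (repByAlgSpWith_toOverCat_comp hy') (repByAlgSpWith_congr (fpLiftEta L δ) hL)

/-- Points of a scheme from the points of the chart. -/
lemma surjective_left_of_points {U V : Over S} {h : U ⟶ V}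
    (H : Function.Surjective (AlgSt.Points.map (AlgSt.overMap h))) : Surjective h.left := by
  refine surjective_left_of_isSurjectiveMor fun v => ?_
  obtain ⟨w, hw⟩ := H (AlgSt.Points.map (AlgSt.toOverCat V) ((ptsEquiv _).symm v))
  obtain ⟨w, rfl⟩ := (map_bijective_of_isEquivOver (isEquivOver_toOverCat U)).2 w
  refine ⟨ptsEquiv _ w, ?_⟩
  rw [← map_comp] at hw
  rw [← ptsEquiv_map, ← Equiv.eq_symm_apply]
  refine (map_bijective_of_isEquivOver (isEquivOver_toOverCat V)).1 ?_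
  rw [← hw, ← map_comp]
  rfl

/-- Charts over a chart for a surjective morphism are surjective. -/
theorem surjective_chartOver [IsFibGrpd 𝒳.p] [IsFibGrpd 𝒴.p] {f : 𝒳 ⥤ᵇ 𝒴} (hs : AlgSt.IsSurjective f)
    {U V : Over S} {y : overCat V ⥤ᵇ 𝒴} {d : overCat U ⥤ᵇ fp f y} {h : U ⟶ V}
    (β : BasedFunctor.comp d (FibCat.fpSnd f y) ≅ AlgSt.overMap h)
    (hds : AlgSt.RepByAlgSpWith IsSurjectiveMor d) : Surjective h.left := by
  haveI := isFibGrpd_overCat U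
  haveI := isFibGrpd_overCat V
  haveI : IsFibGrpd (fp f y).p := isFibGrpd_fp
  refine surjective_left_of_points fun v => ?_
  obtain ⟨x, hx⟩ := hs (AlgSt.Points.map y v)
  obtain ⟨w, -, hw⟩ := exists_point_fp (g := f) (f := y) x v hx
  obtain ⟨u, rfl⟩ := surjective_of_repByAlgSpWith hds w
  exact ⟨u, by rw [← map_congr β, map_comp, hw]⟩

/-- Descent along a flat locally finitely presented surjection. -/
theorem locQ_of_fppf_descent (hP : IsSmoothLocalST P) (hPl : IsLocalOnBase IsFppfCover P)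
    (h𝒳 : AlgSt.IsAlgStack Scheme.fppfPrecoverage 𝒳) (h𝒴 : AlgSt.IsAlgStack Scheme.fppfPrecoverage 𝒴)
    (h𝒵 : AlgSt.IsAlgStack Scheme.fppfPrecoverage 𝒵) (f : 𝒳 ⥤ᵇ 𝒴) (z : 𝒵 ⥤ᵇ 𝒴)
    (hz₁ : AlgSt.LocQ (LocP @Flat) z) (hz₂ : AlgSt.LocQ (LocP @LocallyOfFinitePresentation) z)
    (hz₃ : AlgSt.IsSurjective z) (hq : AlgSt.LocQ P (FibCat.fpFst z f)) : AlgSt.LocQ P f := by
  haveI := isFibGrpd_of_isAlgStack h𝒳
  haveI := isFibGrpd_of_isAlgStack h𝒴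
  haveI := isFibGrpd_of_isAlgStack h𝒵
  obtain ⟨V, y₀, hy₀, hy₀s⟩ := h𝒴.atlas
  obtain ⟨U, d, h, ⟨β⟩, hd, -, hx, hxs⟩ := exists_chartOver h𝒳 h𝒴 f y₀ hy₀
  obtain ⟨V', c, m, ⟨γ⟩, hc, hcs, hy', -⟩ := exists_chartOver h𝒵 h𝒴 z y₀ hy₀
  refine ⟨U, V, _, y₀, h, fpSq d β, hx, hxs hy₀s, hy₀, ?_⟩
  have hm₁ := prop_chartOver isSmoothLocalST_flat h𝒵 h𝒴 hz₁ hy₀ γ hc
  have hm₂ := prop_chartOver isSmoothLocalST_lfp h𝒵 h𝒴 hz₂ hy₀ γ hc
  haveI := surjective_chartOver hz₃ γ hcs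
  have hcov : IsFppfCover (fun _ : PUnit.{u + 1} => (yon S).obj V') (fun _ => (yon S).map m) :=
    ⟨fun _ => ⟨hm₁, hm₂⟩, fun v => ⟨⟨⟩, isSurjectiveMor_yon_map' m v⟩⟩
  exact (hPl (ι := PUnit.{u + 1}) _ _ (IsAlgSpace.yon_obj V) (fun _ => IsAlgSpace.yon_obj V') hcov ((yon S).map h)
    (IsAlgSpace.yon_obj U) _ (fun _ => pullback.snd ((yon S).map h) ((yon S).map m))
    (fun _ => pullback.fst ((yon S).map h) ((yon S).map m))
    (fun _ => isAlgSpace_pullback (IsAlgSpace.yon_obj U) (IsAlgSpace.yon_obj V') (IsAlgSpace.yon_obj V) _ _)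
    (fun _ => IsPullback.of_hasPullback _ _)).mpr fun _ => prop_pullback_chart hP h𝒳 h𝒴 h𝒵 hq β hd γ hy'

/-- Flatness descends along flat surjective morphisms to the source. -/
theorem locQ_flat_of_comp (h𝒳 : AlgSt.IsAlgStack Scheme.fppfPrecoverage 𝒳)
    (h𝒴 : AlgSt.IsAlgStack Scheme.fppfPrecoverage 𝒴) (h𝒵 : AlgSt.IsAlgStack Scheme.fppfPrecoverage 𝒵)
    (f : 𝒳 ⥤ᵇ 𝒴) (g : 𝒴 ⥤ᵇ 𝒵) (hf₁ : AlgSt.LocQ (LocP @Flat) f) (hf₂ : AlgSt.IsSurjective f)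
    (hfg : AlgSt.LocQ (LocP @Flat) (BasedFunctor.comp f g)) : AlgSt.LocQ (LocP @Flat) g := by
  haveI := isFibGrpd_of_isAlgStack h𝒳
  haveI := isFibGrpd_of_isAlgStack h𝒴
  obtain ⟨W, z, hz, hzs⟩ := h𝒵.atlas
  obtain ⟨V, c, k, ⟨γ⟩, hc, -, hy, hys⟩ := exists_chartOver h𝒴 h𝒵 g z hz
  obtain ⟨U, d, h, ⟨β⟩, hd, hds, -, -⟩ := exists_chartOver h𝒳 h𝒴 f _ hy
  refine ⟨V, W, _, z, k, fpSq c γ, hy, hys hzs, hz, ?_⟩
  haveI : Flat h.left := locP_yon_map (prop_chartOver isSmoothLocalST_flat h𝒳 h𝒴 hf₁ hy β hd)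
  haveI := surjective_chartOver hf₂ β hds
  have := locP_yon_map (prop_comp_chart isSmoothLocalST_flat h𝒳 h𝒴 h𝒵 hfg hz γ hc β hd)
  exact (locP_yon_map_iff k).2 (flat_of_flat_surjective_comp h.left k.left (by rwa [← Over.comp_left]))

/-- Cancellation for morphisms locally of finite type. -/
theorem locQ_lft_of_comp (h𝒳 : AlgSt.IsAlgStack Scheme.fppfPrecoverage 𝒳)
    (h𝒴 : AlgSt.IsAlgStack Scheme.fppfPrecoverage 𝒴) (h𝒵 : AlgSt.IsAlgStack Scheme.fppfPrecoverage 𝒵)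
    (f : 𝒳 ⥤ᵇ 𝒴) (g : 𝒴 ⥤ᵇ 𝒵) (hfg : AlgSt.LocQ (LocP @LocallyOfFiniteType) (BasedFunctor.comp f g)) :
    AlgSt.LocQ (LocP @LocallyOfFiniteType) f := by
  obtain ⟨W, z, hz, hzs⟩ := h𝒵.atlas
  obtain ⟨V, c, k, ⟨γ⟩, hc, -, hy, hys⟩ := exists_chartOver h𝒴 h𝒵 g z hz
  obtain ⟨U, d, h, ⟨β⟩, hd, -, hx, hxs⟩ := exists_chartOver h𝒳 h𝒴 f _ hy
  refine ⟨U, V, _, _, h, fpSq d β, hx, hxs (hys hzs), hy, (locP_yon_map_iff h).2 ?_⟩
  have := locP_yon_map (prop_comp_chart isSmoothLocalST_lft h𝒳 h𝒴 h𝒵 hfg hz γ hc β hd)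
  rw [Over.comp_left] at this
  exact locallyOfFiniteType_of_comp h.left k.left

/-- Cancellation for morphisms locally of finite presentation. -/
theorem locQ_lfp_of_comp (h𝒳 : AlgSt.IsAlgStack Scheme.fppfPrecoverage 𝒳)
    (h𝒴 : AlgSt.IsAlgStack Scheme.fppfPrecoverage 𝒴) (h𝒵 : AlgSt.IsAlgStack Scheme.fppfPrecoverage 𝒵)
    (f : 𝒳 ⥤ᵇ 𝒴) (g : 𝒴 ⥤ᵇ 𝒵) (hfg : AlgSt.LocQ (LocP @LocallyOfFinitePresentation) (BasedFunctor.comp f g))
    (hg : AlgSt.LocQ (LocP @LocallyOfFiniteType) g) : AlgSt.LocQ (LocP @LocallyOfFinitePresentation) f := by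
  obtain ⟨W, z, hz, hzs⟩ := h𝒵.atlas
  obtain ⟨V, c, k, ⟨γ⟩, hc, -, hy, hys⟩ := exists_chartOver h𝒴 h𝒵 g z hz
  obtain ⟨U, d, h, ⟨β⟩, hd, -, hx, hxs⟩ := exists_chartOver h𝒳 h𝒴 f _ hy
  refine ⟨U, V, _, _, h, fpSq d β, hx, hxs (hys hzs), hy, (locP_yon_map_iff h).2 ?_⟩
  haveI : LocallyOfFiniteType k.left := locP_yon_map (prop_chartOver isSmoothLocalST_lft h𝒴 h𝒵 hg hz γ hc)
  have := locP_yon_map (prop_comp_chart isSmoothLocalST_lfp h𝒳 h𝒴 h𝒵 hfg hz γ hc β hd)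
  rw [Over.comp_left] at this
  exact lfp_of_comp_lft h.left k.left

/-- Flat morphisms locally of finite presentation are open. -/
theorem isOpenMor_of_flat_lfp (h𝒳 : AlgSt.IsAlgStack Scheme.fppfPrecoverage 𝒳)
    (h𝒴 : AlgSt.IsAlgStack Scheme.fppfPrecoverage 𝒴) (f : 𝒳 ⥤ᵇ 𝒴) (h₁ : AlgSt.LocQ (LocP @Flat) f)
    (h₂ : AlgSt.LocQ (LocP @LocallyOfFinitePresentation) f) : AlgSt.IsOpenMor f := by
  haveI := isFibGrpd_of_isAlgStack h𝒳
  haveI := isFibGrpd_of_isAlgStack h𝒴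
  obtain ⟨V, y, hy, hys⟩ := h𝒴.atlas
  obtain ⟨U, d, h, ⟨β⟩, hd, -, hx, hxs⟩ := exists_chartOver h𝒳 h𝒴 f y hy
  haveI := isFibGrpd_overCat U
  haveI : IsFibGrpd (AlgSt.ofSch U).p := Stk.isFibGrpd_ofPsh _
  let x' := BasedFunctor.comp (AlgSt.toOverCat U) (BasedFunctor.comp d (FibCat.fpFst f y))
  let y' := BasedFunctor.comp (AlgSt.toOverCat V) y
  have hα : ∀ p, AlgSt.Points.map f (ptMap x' p) = ptMap y' (Points.map ((yon S).map h) p) := fun p => by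
    change AlgSt.Points.map f (AlgSt.Points.map x' ((ptsEquiv _).symm p)) = AlgSt.Points.map y' ((ptsEquiv _).symm _)
    rw [← map_ofPshMap_ptsEquiv_symm, ← map_comp, ← map_comp]
    exact congrFun (map_congr (whiskerLeftIso' (AlgSt.toOverCat U) (fpSq d β))) _
  have hh : IsOpenMap (Points.map ((yon S).map h)) :=
    isOpenMap_map_of_flat_lfp (IsAlgSpace.yon_obj U) (IsAlgSpace.yon_obj V)
      (prop_chartOver isSmoothLocalST_flat h𝒳 h𝒴 h₁ hy β hd)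
      (prop_chartOver isSmoothLocalST_lfp h𝒳 h𝒴 h₂ hy β hd)
  have hyo : IsOpenMap (ptMap y') := isOpenMap_ptMap (IsAlgSpace.yon_obj V) _
    (repByAlgSpWith_toOverCat_comp (repByAlgSpWith_mono (fun _ _ _ _ _ h => locP_flat_of_smooth h) hy))
    (repByAlgSpWith_toOverCat_comp (repByAlgSpWith_mono (fun _ _ _ _ _ h => locP_lfp_of_smooth h) hy))
  intro A hA
  have e : AlgSt.Points.map f '' A = ptMap y' '' (Points.map ((yon S).map h) '' (ptMap x' ⁻¹' A)) := by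
    ext w
    constructor
    · rintro ⟨z, hz, rfl⟩
      obtain ⟨q, rfl⟩ := surjective_of_repByAlgSpWith (repByAlgSpWith_toOverCat_comp (hxs hys)) z
      exact ⟨_, ⟨ptsEquiv _ q, by simpa [x', ptMap] using hz, rfl⟩, by rw [← hα]; simp [x', ptMap]⟩
    · rintro ⟨_, ⟨p, hp, rfl⟩, rfl⟩
      exact ⟨_, hp, hα p⟩
  rw [e]
  exact hyo _ (hh _ (hA.preimage (continuous_ptMap h𝒳.atlas (IsAlgSpace.yon_obj U) x')))

/-- Being locally Noetherian is smooth local. -/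
lemma smLocalProp_isLocallyNoetherian : SmLocalProp (fun T : Scheme.{u} => IsLocallyNoetherian T) := by
  intro U R hR
  refine ⟨fun hU V g hg => ?_, fun h => ?_⟩
  · have : Smooth g := hR.2 hg
    exact LocallyOfFiniteType.isLocallyNoetherian g
  · have hmem := hR
    rw [← Presieve.ofArrows_category R] at hmem
    obtain ⟨hsurj, hsm⟩ := (Scheme.ofArrows_mem_precoverage_iff (P := @Smooth)).1 hmem
    choose j hj using hsurj
    let V : U → Scheme.{u} := fun x => (j x).obj.left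
    let g : ∀ x, V x ⟶ U := fun x => (j x).obj.hom
    haveI : ∀ x, IsLocallyNoetherian (V x) := fun x => h (g x) (j x).property
    haveI : IsLocallyNoetherian (∐ V) :=
      (isLocallyNoetherian_iff_openCover (sigmaOpenCover V)).2 fun x => inferInstanceAs (IsLocallyNoetherian (V x))
    haveI : Smooth (Sigma.desc g) := IsZariskiLocalAtSource.sigmaDesc (P := @Smooth) fun x => hsm (j x)
    haveI : Surjective (Sigma.desc g) := ⟨fun x => by
      obtain ⟨v, hv⟩ := hj x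
      exact ⟨Sigma.ι V x v, by rw [← Scheme.Hom.comp_apply, Sigma.ι_desc]; exact hv⟩⟩
    exact isLocallyNoetherian_of_fppf_surjective (Sigma.desc g)

/-- Locally Noetherian passes up along morphisms locally of finite type. -/
theorem smoothLocally_noetherian_of_lft (h𝒳 : AlgSt.IsAlgStack Scheme.fppfPrecoverage 𝒳)
    (h𝒴 : AlgSt.IsAlgStack Scheme.fppfPrecoverage 𝒴) (f : 𝒳 ⥤ᵇ 𝒴)
    (hf : AlgSt.LocQ (LocP @LocallyOfFiniteType) f) (hN : AlgSt.SmoothLocally (fun T ↦ IsLocallyNoetherian T) 𝒴) :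
    AlgSt.SmoothLocally (fun T ↦ IsLocallyNoetherian T) 𝒳 := by
  haveI := isFibGrpd_of_isAlgStack h𝒳
  obtain ⟨V, y, hy, hys⟩ := h𝒴.atlas
  obtain ⟨U, d, h, ⟨β⟩, hd, -, hx, hxs⟩ := exists_chartOver h𝒳 h𝒴 f y hy
  haveI : IsLocallyNoetherian V.left := hN V y hy
  haveI : LocallyOfFiniteType h.left := locP_yon_map (prop_chartOver isSmoothLocalST_lft h𝒳 h𝒴 hf hy β hd)
  exact smoothLocally_of_chart smLocalProp_isLocallyNoetherian hx (hxs hys)
    (LocallyOfFiniteType.isLocallyNoetherian h.left)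

/-- Finite type over a locally Noetherian stack is finite presentation. -/
theorem locQ_lfp_of_lft (h𝒳 : AlgSt.IsAlgStack Scheme.fppfPrecoverage 𝒳)
    (h𝒴 : AlgSt.IsAlgStack Scheme.fppfPrecoverage 𝒴) (f : 𝒳 ⥤ᵇ 𝒴)
    (hN : AlgSt.SmoothLocally (fun T ↦ IsLocallyNoetherian T) 𝒴)
    (hf : AlgSt.LocQ (LocP @LocallyOfFiniteType) f) : AlgSt.LocQ (LocP @LocallyOfFinitePresentation) f := by
  obtain ⟨U, V, x, y, h, α, hx, hxs, hy, hP⟩ := hf
  haveI : IsLocallyNoetherian V.left := hN V y hy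
  haveI : LocallyOfFiniteType h.left := locP_yon_map hP
  exact ⟨U, V, x, y, h, α, hx, hxs, hy, (locP_yon_map_iff h).2 (LocallyOfFinitePresentation.iff_locallyOfFiniteType.2 inferInstance)⟩

end AlgStLib

namespace AlgStLib

variable {S : Scheme.{u}} {𝒳 𝒳' 𝒴 𝒵 : AlgSt.Cat S} {P : MorphismProperty (Sp S)}

/-- An equivalence on the source does not change `LocQ`. -/
theorem locQ_equiv_comp {E : 𝒳' ⥤ᵇ 𝒳} (hE : IsEquivOver E) {g : 𝒳 ⥤ᵇ 𝒴} (h : AlgSt.LocQ P g) :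
    AlgSt.LocQ P (BasedFunctor.comp E g) := by
  obtain ⟨U, V, x, y, k, α, hx, hxs, hy, hk⟩ := h
  obtain ⟨E', hE', -, ⟨κ⟩⟩ := exists_inverse hE
  have hsq : ∀ R : MorphismProperty (Sp S), AlgSt.RepByAlgSpWith R x → AlgSt.RepByAlgSpWith R (BasedFunctor.comp x E') :=
    fun R h => (repByAlgSpWith_square_iff (f := x) (f' := BasedFunctor.comp x E') (a := BasedFunctor.id _) (b := E)
      (isEquivOver_id _) hE (whiskerLeftIso' x κ) R).mp h
  exact ⟨U, V, BasedFunctor.comp x E', y, k, whiskerLeftIso' x (whiskerRightIso' κ g) ≪≫ α,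
    hsq _ hx, hsq _ hxs, hy, hk⟩

/-- Flatness can be checked after a flat surjective base change. -/
theorem locQ_flat_of_fpFst (h𝒳 : AlgSt.IsAlgStack Scheme.fppfPrecoverage 𝒳)
    (h𝒴 : AlgSt.IsAlgStack Scheme.fppfPrecoverage 𝒴) (h𝒵 : AlgSt.IsAlgStack Scheme.fppfPrecoverage 𝒵)
    (f : 𝒳 ⥤ᵇ 𝒴) (z : 𝒵 ⥤ᵇ 𝒴) (hz₁ : AlgSt.LocQ (LocP @Flat) z) (hz₂ : AlgSt.IsSurjective z)
    (hq : AlgSt.LocQ (LocP @Flat) (FibCat.fpFst z f)) : AlgSt.LocQ (LocP @Flat) f := by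
  haveI := isFibGrpd_of_isAlgStack h𝒳
  haveI := isFibGrpd_of_isAlgStack h𝒴
  haveI := isFibGrpd_of_isAlgStack h𝒵
  have h𝒲 := isAlgStack_fp' h𝒳 h𝒵 h𝒴 f z
  refine locQ_flat_of_comp h𝒲 h𝒳 h𝒴 (FibCat.fpFst f z) f
    (locQ_fpFst isSmoothLocalST_flat (good_locP @Flat).bc h𝒵 h𝒴 h𝒳 z f hz₁)
    (fun x => ?_) (locQ_congr (fpIso f z).symm ?_)
  · obtain ⟨y, hy⟩ := hz₂ (AlgSt.Points.map f x)
    obtain ⟨w, hw, -⟩ := exists_point_fp (g := f) (f := z) x y hy.symm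
    exact ⟨w, hw⟩
  · exact locQ_comp isSmoothLocalST_flat (fun _ _ _ h1 h2 h3 _ _ ha hb => locP_comp h1 h2 h3 ha hb) h𝒲 h𝒵 h𝒴 _ _
      (locQ_equiv_comp (isEquivOver_fpSwap f z) hq) hz₁

/-- Finite type can be checked after a base change to a covering space. -/
theorem locQ_lft_of_cover (h𝒳 : AlgSt.IsAlgStack Scheme.fppfPrecoverage 𝒳)
    (h𝒴 : AlgSt.IsAlgStack Scheme.fppfPrecoverage 𝒴) (f : 𝒳 ⥤ᵇ 𝒴) {W : Sp S} (hW : IsAlgSpace W)
    (w : AlgSt.ofSp W ⥤ᵇ 𝒴) (hw₁ : AlgSt.RepByAlgSpWith (LocP @Flat) w)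
    (hw₂ : AlgSt.RepByAlgSpWith (LocP @LocallyOfFinitePresentation) w)
    (hw₃ : AlgSt.RepByAlgSpWith IsSurjectiveMor w)
    (hq : AlgSt.LocQ (LocP @LocallyOfFiniteType) (FibCat.fpFst w f)) : AlgSt.LocQ (LocP @LocallyOfFiniteType) f := by
  haveI := isFibGrpd_of_isAlgStack h𝒴
  haveI : IsFibGrpd (AlgSt.ofSp W).p := Stk.isFibGrpd_ofPsh _
  exact locQ_of_fppf_descent isSmoothLocalST_lft
    (isLocalOnBase_fppf_of_fpqc (isLocalOnBase_fpqc_locP_of_descendsAlong S @LocallyOfFiniteType))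
    h𝒳 h𝒴 (isAlgStack_ofSp hW) f w
    (locQ_of_repByAlgSpWith isSmoothLocalST_flat (good_locP _) (isAlgStack_ofSp hW) h𝒴 w hw₁)
    (locQ_of_repByAlgSpWith isSmoothLocalST_lfp (good_locP _) (isAlgStack_ofSp hW) h𝒴 w hw₂)
    (surjective_of_repByAlgSpWith hw₃) hq

end AlgStLib
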