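import Groth.Agent.AlgStLib.LocQ5

/-!
# Descent along morphisms flat and locally of finite presentation of stacks
-/

set_option autoImplicit false
set_option backward.isDefEq.respectTransparency false
set_option backward.isDefEq.respectTransparency.types false

universe u

open CategoryTheory CategoryTheory.Limits AlgebraicGeometry Opposite AlgSp FibCat FibLib AlgSpLib Topology

noncomputable section

namespace AlgStLib

variable {S : Scheme.{u}} {𝒳 𝒴 𝒵 : AlgSt.Cat S} {P : MorphismProperty (Sp S)}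

local notation "IsAS" => AlgSt.IsAlgStack Scheme.fppfPrecoverage
local notation "IsQcM" => AlgSt.IsQuasiCompactMor Scheme.fppfPrecoverage

lemma isLocalOnBase_fppf_flat : IsLocalOnBase IsFppfCover (LocP @Flat : MorphismProperty (Sp S)) :=
  isLocalOnBase_fppf_of_fpqc (isLocalOnBase_fpqc_locP_of_descendsAlong S @Flat)

lemma isLocalOnBase_fppf_lfp :
    IsLocalOnBase IsFppfCover (LocP @LocallyOfFinitePresentation : MorphismProperty (Sp S)) :=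
  isLocalOnBase_fppf_of_fpqc (isLocalOnBase_fpqc_locP_of_descendsAlong S @LocallyOfFinitePresentation)

/-- A covering stack yields a covering space. -/
theorem exists_space_cover (h𝒴 : IsAS 𝒴) (h𝒵 : IsAS 𝒵) (z : 𝒵 ⥤ᵇ 𝒴)
    (hz₁ : AlgSt.LocQ (LocP @Flat) z) (hz₂ : AlgSt.LocQ (LocP @LocallyOfFinitePresentation) z)
    (hz₃ : AlgSt.IsSurjective z) :
    ∃ (U : Over S) (x : AlgSt.ofSch U ⥤ᵇ 𝒵), AlgSt.RepByAlgSpWith IsSurjectiveMor x ∧
      AlgSt.RepByAlgSpWith (LocP @Flat) (BasedFunctor.comp x z) ∧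
      AlgSt.RepByAlgSpWith (LocP @LocallyOfFinitePresentation) (BasedFunctor.comp x z) ∧
      AlgSt.RepByAlgSpWith IsSurjectiveMor (BasedFunctor.comp x z) := by
  haveI := isFibGrpd_of_isAlgStack h𝒴
  haveI := isFibGrpd_of_isAlgStack h𝒵
  obtain ⟨U, x₀, hx, hxs⟩ := h𝒵.atlas
  haveI : IsFibGrpd (AlgSt.ofSch U).p := Stk.isFibGrpd_ofPsh _
  let x := BasedFunctor.comp (AlgSt.toOverCat U) x₀
  have hrep : AlgSt.RepByAlgSp1 (BasedFunctor.comp x z) :=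
    repByAlgSp1_of_space (repByAlgSp_ofSp (IsAlgSpace.yon_obj U)) (repByAlgSp1_diag_iff.mp h𝒴.diag) _
  have hU := isAlgStack_ofSch U
  have hx₁ := repByAlgSpWith_toOverCat_comp hx
  have q₁ := locQ_comp isSmoothLocalST_flat (fun _ _ _ h1 h2 h3 _ _ ha hb => locP_comp h1 h2 h3 ha hb) hU h𝒵 h𝒴 x z
    (locQ_of_repByAlgSpWith isSmoothLocalST_flat (good_locP _) hU h𝒵 x
      (repByAlgSpWith_mono (fun _ _ _ _ _ h => locP_flat_of_smooth h) hx₁)) hz₁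
  have q₂ := locQ_comp isSmoothLocalST_lfp (fun _ _ _ h1 h2 h3 _ _ ha hb => locP_comp h1 h2 h3 ha hb) hU h𝒵 h𝒴 x z
    (locQ_of_repByAlgSpWith isSmoothLocalST_lfp (good_locP _) hU h𝒵 x
      (repByAlgSpWith_mono (fun _ _ _ _ _ h => locP_lfp_of_smooth h) hx₁)) hz₂
  refine ⟨U, x, repByAlgSpWith_toOverCat_comp hxs,
    (locQ_iff_repByAlgSpWith isSmoothLocalST_flat (good_locP _).bc isLocalOnBase_fppf_flat hU h𝒴 _ hrep).mp q₁,
    (locQ_iff_repByAlgSpWith isSmoothLocalST_lfp (good_locP _).bc isLocalOnBase_fppf_lfp hU h𝒴 _ hrep).mp q₂,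
    (surjective_iff_repByAlgSpWith hrep).mp fun y => ?_⟩
  obtain ⟨w, rfl⟩ := hz₃ y
  obtain ⟨q, rfl⟩ := surjective_of_repByAlgSpWith (repByAlgSpWith_toOverCat_comp hxs) w
  exact ⟨q, map_comp x z q⟩

/-- A property of representable morphisms descends. -/
theorem repByAlgSpWith_iff_fpFst (hPb : StableBC P) (hPl : IsLocalOnBase IsFppfCover P)
    (h𝒳 : IsAS 𝒳) (h𝒴 : IsAS 𝒴) (h𝒵 : IsAS 𝒵) (f : 𝒳 ⥤ᵇ 𝒴) (hf : AlgSt.RepByAlgSp1 f) (z : 𝒵 ⥤ᵇ 𝒴)
    (hz₁ : AlgSt.LocQ (LocP @Flat) z) (hz₂ : AlgSt.LocQ (LocP @LocallyOfFinitePresentation) z)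
    (hz₃ : AlgSt.IsSurjective z) :
    AlgSt.RepByAlgSpWith P f ↔ AlgSt.RepByAlgSpWith P (FibCat.fpFst z f) := by
  haveI := isFibGrpd_of_isAlgStack h𝒳
  haveI := isFibGrpd_of_isAlgStack h𝒴
  haveI := isFibGrpd_of_isAlgStack h𝒵
  refine ⟨fun h => repByAlgSpWith_fpFst P z h, fun h => ?_⟩
  obtain ⟨U, x, -, h₁, h₂, h₃⟩ := exists_space_cover h𝒴 h𝒵 z hz₁ hz₂ hz₃
  haveI : IsFibGrpd (AlgSt.ofSch U).p := Stk.isFibGrpd_ofPsh _
  haveI : IsFibGrpd (fp z f).p := isFibGrpd_fp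
  obtain ⟨H, a, hH, ha, hPa⟩ := exists_along_prop hPb hPl h (IsAlgSpace.yon_obj U) x
  obtain ⟨e, he, hα⟩ := ha.of_fpFst
  exact (repByAlgSpWith_iff_cover hPb hPl hf ⟨_, IsAlgSpace.yon_obj U⟩ h₁ h₂ h₃).mpr
    ⟨⟨H, hH⟩, ObjectProperty.homMk a, e, he, hα, hPa⟩

/-- Quasi-compactness descends. -/
theorem isQcM_of_fpFst (h𝒳 : IsAS 𝒳) (h𝒴 : IsAS 𝒴) (h𝒵 : IsAS 𝒵) (f : 𝒳 ⥤ᵇ 𝒴) (z : 𝒵 ⥤ᵇ 𝒴)
    (hz₁ : AlgSt.LocQ (LocP @Flat) z) (hz₂ : AlgSt.LocQ (LocP @LocallyOfFinitePresentation) z)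
    (hz₃ : AlgSt.IsSurjective z) (hq : IsQcM (FibCat.fpFst z f)) : IsQcM f := by
  obtain ⟨U, x, -, h₁, h₂, h₃⟩ := exists_space_cover h𝒴 h𝒵 z hz₁ hz₂ hz₃
  refine isQcM_of_cover h𝒳 h𝒴 ⟨_, IsAlgSpace.yon_obj U⟩ h₁ h₂ h₃ fun 𝒯 h𝒯 hqc g => ?_
  have hU := isAlgStack_ofSch U
  exact isQuasiCompact_of_equivTo
    (isAlgStack_fp' h𝒯 (isAlgStack_fp' h𝒵 h𝒳 h𝒴 z f) h𝒵 (BasedFunctor.comp g x) _)
    (isAlgStack_fp' h𝒯 (isAlgStack_fp' hU h𝒳 h𝒴 _ f) hU g _)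
    ((equivTo_fp_paste (BasedFunctor.comp g x) z f).trans (equivTo_fp_paste g (BasedFunctor.comp x z) f).symm)
    (hq 𝒯 h𝒯 hqc (BasedFunctor.comp g x))

/-- A jointly covering family lifts charts locally for the fppf topology. -/
theorem exists_fppf_lift (h𝒳 : IsAS 𝒳) {J : Type u} (𝒳' : J → AlgSt.Cat S) (h𝒳' : ∀ j, IsAS (𝒳' j))
    (f : ∀ j, 𝒳' j ⥤ᵇ 𝒳) (hf₁ : ∀ j, AlgSt.LocQ (LocP @Flat) (f j))
    (hf₂ : ∀ j, AlgSt.LocQ (LocP @LocallyOfFinitePresentation) (f j))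
    (hf₃ : ∀ p : AlgSt.Points 𝒳, ∃ j, p ∈ Set.range (AlgSt.Points.map (f j)))
    (U : Over S) (x : FibCat.overCat U ⥤ᵇ 𝒳) :
    ∃ (ι : Type u) (V : ι → Over S) (g : ∀ i, V i ⟶ U) (c : ι → J),
      (Presieve.ofArrows (fun i ↦ (V i).left) fun i ↦ (g i).left) ∈ Scheme.fppfPrecoverage U.left ∧
      ∀ i, ∃ x' : FibCat.overCat (V i) ⥤ᵇ 𝒳' (c i),
        Nonempty (BasedFunctor.comp x' (f (c i)) ≅ BasedFunctor.comp (AlgSt.overMap (g i)) x) := by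
  haveI := isFibGrpd_of_isAlgStack h𝒳
  haveI : ∀ j, IsFibGrpd (𝒳' j).p := fun j => isFibGrpd_of_isAlgStack (h𝒳' j)
  haveI := isFibGrpd_overCat U
  have hU := isAlgStack_overCat U
  have hW : ∀ j, IsAS (fp x (f j)) := fun j => isAlgStack_fp' hU (h𝒳' j) h𝒳 x (f j)
  haveI : ∀ j, IsFibGrpd (fp x (f j)).p := fun j => isFibGrpd_fp
  have hid : AlgSt.RepByAlgSpWith (LocP @Smooth) (BasedFunctor.id (overCat U)) :=
    (repByAlgSpWith_square_iff (f := BasedFunctor.id (AlgSt.ofSch U)) (f' := BasedFunctor.id (overCat U))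
      (a := AlgSt.ofOverCat U) (b := AlgSt.ofOverCat U) (isEquivOver_ofOverCat U) (isEquivOver_ofOverCat U)
      (Iso.refl _) _).mp
      (repByAlgSpWith_of_isEquivOver good_smooth.bc (IsAlgSpace.yon_obj U) (AlgStLib.locP_smooth_id _) (isEquivOver_id _))
  choose V c hc hcs using fun j => (hW j).atlas
  choose g hg using fun j => exists_iso_overMap (BasedFunctor.comp (c j) (FibCat.fpFst x (f j)))
  have hprop : ∀ (P : MorphismProperty (Sp S)), IsSmoothLocalST P → StableBC P →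
      (∀ j, AlgSt.LocQ P (f j)) → ∀ j, P ((yon S).map (g j)) := by
    intro P hP hPb hf j
    haveI := isFibGrpd_overCat (V j)
    obtain ⟨β⟩ := hg j
    obtain ⟨E, hE, hEE, -⟩ := exists_inverse (isEquivOver_fpGraph (FibCat.fpFst x (f j)))
    let d := BasedFunctor.comp (c j) (fpGraph (FibCat.fpFst x (f j)))
    have hd : AlgSt.RepByAlgSpWith (LocP @Smooth) d :=
      (repByAlgSpWith_square_iff (f := c j) (f' := d) (a := BasedFunctor.id _) (b := E) (isEquivOver_id _) hE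
        (whiskerLeftIso' (c j) hEE.some) _).mp (hc j)
    exact prop_chartOver hP (hW j) hU (locQ_fpFst hP hPb (h𝒳' j) h𝒳 hU (f j) x (hf j)) hid
      (d := d) β hd
  refine ⟨J, V, g, id, (Scheme.ofArrows_mem_precoverage_iff _).2 ⟨fun u => ?_, fun j =>
    ⟨locP_yon_map (hprop _ isSmoothLocalST_flat (good_locP _).bc hf₁ j),
      locP_yon_map (hprop _ isSmoothLocalST_lfp (good_locP _).bc hf₂ j)⟩⟩, fun j => ?_⟩
  · let q := AlgSt.Points.map (AlgSt.toOverCat U) ((ptsEquiv _).symm (Points.schemeEquiv U u))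
    obtain ⟨j, p, hp⟩ := hf₃ (AlgSt.Points.map x q)
    obtain ⟨w, hw, -⟩ := exists_point_fp (g := x) (f := f j) q p hp.symm
    haveI := isFibGrpd_overCat (V j)
    obtain ⟨v, rfl⟩ := surjective_of_repByAlgSpWith (hcs j) w
    obtain ⟨v, rfl⟩ := (map_bijective_of_isEquivOver (isEquivOver_toOverCat (V j))).2 v
    obtain ⟨v, rfl⟩ := (ptsEquiv _).symm.surjective v
    obtain ⟨v, rfl⟩ := (Points.schemeEquiv (V j)).surjective v
    refine ⟨j, v, ?_⟩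
    obtain ⟨β⟩ := hg j
    apply (Points.schemeEquiv U).injective
    apply (ptsEquiv _).symm.injective
    refine (map_bijective_of_isEquivOver (isEquivOver_toOverCat U)).1 ?_
    refine Eq.trans ?_ hw
    rw [← map_comp, map_congr β]
    erw [← Points.map_yon_map_apply (g j) v]
    rw [← map_ofPshMap_ptsEquiv_symm, ← map_comp, ← map_comp]
    rfl
  · obtain ⟨β⟩ := hg j
    exact ⟨BasedFunctor.comp (c j) (FibCat.fpSnd x (f j)),
      ⟨whiskerLeftIso' (c j) (fpIso x (f j)).symm ≪≫ whiskerRightIso' β x⟩⟩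

end AlgStLib
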