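import Groth.Agent.AlgStLib.LocQ5

/-!
# Locally Noetherian algebraic stacks
-/

set_option autoImplicit false
set_option backward.isDefEq.respectTransparency false
set_option backward.isDefEq.respectTransparency.types false

universe u

open CategoryTheory CategoryTheory.Limits AlgebraicGeometry Opposite AlgSp FibCat FibLib AlgSpLib Topology
open TopologicalSpace (NoetherianSpace)

noncomputable section

namespace AlgStLib

variable {S : Scheme.{u}} {𝒳 𝒴 : AlgSt.Cat S}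

local notation "IsAS" => AlgSt.IsAlgStack Scheme.fppfPrecoverage
local notation "IsQcM" => AlgSt.IsQuasiCompactMor Scheme.fppfPrecoverage
local notation "LNoeth" => AlgSt.SmoothLocally (fun T ↦ IsLocallyNoetherian T)

/-- An immersion into a locally Noetherian scheme is quasi-compact. -/
lemma quasiCompact_of_isImmersion {X Y : Scheme.{u}} (f : X ⟶ Y) [IsImmersion f] [IsLocallyNoetherian Y] :
    QuasiCompact f := by
  rw [quasiCompact_iff_forall_isAffineOpen]
  intro U hU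
  haveI : NoetherianSpace (U : Set Y) := by
    haveI : IsNoetherianRing Γ(Y, U) := IsLocallyNoetherian.component_noetherian ⟨U, hU⟩
    exact (TopologicalSpace.noetherianSpace_iff_of_homeomorph hU.isoSpec.hom.homeomorph).2 inferInstance
  rw [f.isEmbedding.isCompact_iff, Scheme.Hom.coe_preimage, Set.image_preimage_eq_inter_range]
  have h := NoetherianSpace.isCompact (Subtype.val ⁻¹' Set.range f : Set (U : Set Y))
  rw [IsEmbedding.subtypeVal.isCompact_iff, Subtype.image_preimage_coe] at h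
  exact h

/-- Immersions into locally Noetherian stacks. -/
theorem noetherian_and_isQcM_of_isImm (h𝒳 : IsAS 𝒳) (h𝒴 : IsAS 𝒴) (j : 𝒳 ⥤ᵇ 𝒴) (hj : AlgSt.IsImm j)
    (hN : LNoeth 𝒴) : LNoeth 𝒳 ∧ IsQcM j := by
  haveI := isFibGrpd_of_isAlgStack h𝒳
  haveI := isFibGrpd_of_isAlgStack h𝒴
  refine ⟨smoothLocally_noetherian_of_lft h𝒳 h𝒴 j (locQ_of_repByAlgSpWith isSmoothLocalST_lft good_lft h𝒳 h𝒴 j
    (repByAlgSpWith_mono (fun _ _ _ _ _ ha => locP_of_repWith
      (repWith_mono (fun _ _ g (_ : IsImmersion g) => (inferInstance : LocallyOfFiniteType g)) ha)) hj)) hN, ?_⟩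
  obtain ⟨V, y₀, hy₀, hy₀s⟩ := h𝒴.atlas
  haveI := hN V y₀ hy₀
  haveI : IsFibGrpd (AlgSt.ofSch V).p := Stk.isFibGrpd_ofPsh _
  refine (isQcM_iff_rep h𝒳 h𝒴 (repByAlgSp1_of_with hj)).1 ?_
  obtain ⟨H, a, hH, ⟨e, he, hβ⟩, ha⟩ := exists_along_test (good_repWith @IsImmersion).bc
    (good_repWith @IsImmersion).test hj (IsAlgSpace.yon_obj V) (BasedFunctor.comp (AlgSt.toOverCat V) y₀)
  refine (repByAlgSpWith_iff_cover good_qc.bc (isLocalOnBase_fppf_of_fpqc (isLocalOnBase_fpqc_isQuasiCompactMor S))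
    (repByAlgSp1_of_with hj) ⟨_, IsAlgSpace.yon_obj V⟩
    (repByAlgSpWith_toOverCat_comp (repByAlgSpWith_mono (fun _ _ _ _ _ h => locP_flat_of_smooth h) hy₀))
    (repByAlgSpWith_toOverCat_comp (repByAlgSpWith_mono (fun _ _ _ _ _ h => locP_lfp_of_smooth h) hy₀))
    (repByAlgSpWith_toOverCat_comp hy₀s)).mpr ⟨⟨H, hH⟩, ObjectProperty.homMk a, e, he, hβ, ?_⟩
  obtain ⟨W, fst, snd, sq⟩ : ∃ (W : Over S) (fst : (yon S).obj W ⟶ H) (snd : W ⟶ V),
      IsPullback fst ((yon S).map snd) a (𝟙 _) := ⟨_, _, _, ha.1.isPullback (𝟙 _)⟩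
  haveI : IsIso fst := sq.isIso_fst_of_isIso
  haveI : IsImmersion snd.left := ha.2 (𝟙 _) fst snd sq
  have hq : IsQuasiCompactMor ((yon S).map snd) := isQuasiCompactMor_of_repWith (IsAlgSpace.yon_obj W)
    (IsAlgSpace.yon_obj V) ((repWith_yon_map_iff _ snd).2 (quasiCompact_of_isImmersion snd.left))
  have e' : a = inv fst ≫ (yon S).map snd := by
    rw [IsIso.eq_inv_comp, sq.w, Category.comp_id]
  change IsQuasiCompactMor a
  rw [e']
  exact good_qc.bc.precomp_iso (asIso fst).symm _ (IsAlgSpace.yon_obj W) (IsAlgSpace.yon_obj V) hq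

/-- Immersions into Noetherian stacks. -/
theorem noetherian_of_isImm (h𝒳 : IsAS 𝒳) (h𝒴 : IsAS 𝒴) (j : 𝒳 ⥤ᵇ 𝒴) (hj : AlgSt.IsImm j)
    (hq : AlgSt.IsQuasiCompact 𝒴) (hqs : AlgSt.IsQuasiSeparatedOver 𝒴) (hN : LNoeth 𝒴) :
    AlgSt.IsQuasiCompact 𝒳 ∧ AlgSt.IsQuasiSeparatedOver 𝒳 ∧ LNoeth 𝒳 := by
  haveI := isFibGrpd_of_isAlgStack h𝒳
  haveI := isFibGrpd_of_isAlgStack h𝒴
  obtain ⟨hN', hjq⟩ := noetherian_and_isQcM_of_isImm h𝒳 h𝒴 j hj hN
  refine ⟨isQuasiCompact_of_equivTo (isAlgStack_fp' h𝒴 h𝒳 h𝒴 _ j) h𝒳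
    ((equivTo_fp_swap (BasedFunctor.id 𝒴) j).trans (EquivTo.symm ⟨_, isEquivOver_fpGraph j⟩))
    (hjq 𝒴 h𝒴 hq (BasedFunctor.id 𝒴)), ?_, hN'⟩
  have hj' : AlgSt.RepByAlgSpWith (IsQuasiCompactMor ⊓ IsQuasiSeparatedMor) (diag j) :=
    (isQuasiSeparatedMor_iff_rep (repByAlgSp1_of_with hj)).mpr (repByAlgSpWith_mono (fun H U a hH hU ha =>
      haveI : Mono a := mono_of_repWith (fun g (_ : IsImmersion g) => inferInstance) ha
      haveI := prop_diagonal_mono hH a
      repWith_of_isIso _) hj)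
  exact repByAlgSpWith_diag_congr (compToSelfIso j).symm (repByAlgSpWith_diag_comp (good_qc.inf good_qs) hj' hqs)

section Top

/-- Every point has a Noetherian open neighbourhood. -/
theorem exists_noetherian_nhd (h𝒳 : IsAS 𝒳) (hN : LNoeth 𝒳) (x : AlgSt.Points 𝒳) :
    ∃ W : Set (AlgSt.Points 𝒳), IsOpen W ∧ x ∈ W ∧ NoetherianSpace W := by
  haveI := isFibGrpd_of_isAlgStack h𝒳
  obtain ⟨U, u, hu, hus⟩ := h𝒳.atlas
  haveI := hN U u hu
  obtain ⟨t, rfl⟩ := surjective_ofChart hus x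
  obtain ⟨O, hO, htO, -⟩ := exists_isAffineOpen_mem_and_subset (U := ⊤) (x := t) trivial
  haveI : IsNoetherianRing Γ(U.left, O) := IsLocallyNoetherian.component_noetherian ⟨O, hO⟩
  haveI : NoetherianSpace (O : Set U.left) :=
    (TopologicalSpace.noetherianSpace_iff_of_homeomorph hO.isoSpec.hom.homeomorph).2 inferInstance
  refine ⟨AlgSt.Points.ofChart u '' O, isOpenMap_ofChart_smooth u hu _ O.2, ⟨t, htO, rfl⟩, ?_⟩
  rw [Set.image_eq_range]
  exact NoetherianSpace.range _ ((continuous_ofChart h𝒳.atlas u).comp continuous_subtype_val)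

/-- A quasi-compact locally Noetherian stack has a Noetherian space of points. -/
theorem noetherianSpace_points (h𝒳 : IsAS 𝒳) (hq : AlgSt.IsQuasiCompact 𝒳) (hN : LNoeth 𝒳) :
    NoetherianSpace (AlgSt.Points 𝒳) := by
  haveI := isFibGrpd_of_isAlgStack h𝒳
  obtain ⟨U, u, hU, hu, hus⟩ := hq
  haveI := hN U u hu
  haveI : IsNoetherian U.left := ⟨⟩
  exact TopologicalSpace.noetherianSpace_of_surjective _ (continuous_ofChart h𝒳.atlas u) (surjective_ofChart hus)

/-- Irreducible closed subsets have generic points. -/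
theorem quasiSober_points (h𝒳 : IsAS 𝒳) (hN : LNoeth 𝒳) : QuasiSober (AlgSt.Points 𝒳) := by
  haveI := isFibGrpd_of_isAlgStack h𝒳
  refine ⟨fun {C} hC hCc => ?_⟩
  obtain ⟨U, u, hu, hus⟩ := h𝒳.atlas
  haveI := hN U u hu
  obtain ⟨c, hc⟩ := hC.nonempty
  obtain ⟨t, rfl⟩ := surjective_ofChart hus c
  obtain ⟨O, hO, htO, -⟩ := exists_isAffineOpen_mem_and_subset (U := ⊤) (x := t) trivial
  haveI : IsNoetherianRing Γ(U.left, O) := IsLocallyNoetherian.component_noetherian ⟨O, hO⟩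
  haveI : NoetherianSpace (O : Set U.left) :=
    (TopologicalSpace.noetherianSpace_iff_of_homeomorph hO.isoSpec.hom.homeomorph).2 inferInstance
  haveI : QuasiSober (O : Set U.left) := inferInstanceAs (QuasiSober O.toScheme)
  let φ : ↥(O : Set U.left) → AlgSt.Points 𝒳 := fun z => AlgSt.Points.ofChart u z
  have hφ : Continuous φ := (continuous_ofChart h𝒳.atlas u).comp continuous_subtype_val
  obtain ⟨Z, hZf, hZc, hZi, hZe⟩ := NoetherianSpace.exists_finite_set_isClosed_irreducible (hCc.preimage hφ)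
  choose η hη using fun z : Z => QuasiSober.sober (hZi z.1 z.2) (hZc z.1 z.2)
  have hW : IsOpen (AlgSt.Points.ofChart u '' (O : Set U.left)) := isOpenMap_ofChart_smooth u hu _ O.2
  haveI : Finite Z := hZf.to_subtype
  have hsub : C ∩ AlgSt.Points.ofChart u '' (O : Set U.left) ⊆ ⋃ z : Z, closure {φ (η z)} := by
    rintro _ ⟨hwC, w, hwO, rfl⟩
    have : (⟨w, hwO⟩ : O) ∈ φ ⁻¹' C := hwC
    rw [hZe] at this
    obtain ⟨z, hz, hwz⟩ := Set.mem_sUnion.1 this
    refine Set.mem_iUnion.2 ⟨⟨z, hz⟩, ?_⟩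
    have hw' : (⟨w, hwO⟩ : O) ∈ closure {η ⟨z, hz⟩} := by rw [(hη ⟨z, hz⟩).def]; exact hwz
    simpa using image_closure_subset_closure_image hφ ⟨_, hw', rfl⟩
  have hCsub : C ⊆ ⋃ z : Z, closure {φ (η z)} := by
    have hd := (subset_closure_inter_of_isPreirreducible_of_isOpen hC.isPreirreducible hW ⟨_, hc, t, htO, rfl⟩)
    exact hd.trans (closure_minimal hsub (isClosed_iUnion_of_finite fun _ => isClosed_closure))
  obtain ⟨_, hs, hz⟩ := isIrreducible_iff_sUnion_isClosed.1 hC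
    (Set.finite_range fun z : Z => closure {φ (η z)}).toFinset
    (fun s hs => by obtain ⟨z, rfl⟩ := (Set.Finite.mem_toFinset _).1 hs; exact isClosed_closure)
    (by simpa using hCsub)
  obtain ⟨z, rfl⟩ := (Set.Finite.mem_toFinset _).1 hs
  refine ⟨φ (η z), Set.Subset.antisymm (closure_minimal (Set.singleton_subset_iff.2 ?_) hCc) hz⟩
  have h1 : η z ∈ (z : Set (O : Set U.left)) := (hη z).mem
  have h2 : η z ∈ φ ⁻¹' C := by rw [hZe]; exact ⟨z, z.2, h1⟩
  exact h2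

end Top

end AlgStLib
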