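import Groth.Agent.FibLib.Basic
import Groth.Agent.FibLib.Fp
import Groth.Agent.FibLib.Rep
import Groth.Agent.FibLib.Setoid
import Groth.Prelude.Def_AlgSt
import Mathlib.CategoryTheory.Limits.Types.Pullbacks
import Mathlib.CategoryTheory.Limits.Shapes.Pullback.IsPullback.Basic
import Mathlib.CategoryTheory.Limits.FunctorCategory.Shapes.Pullbacks

/-!
# Categories over `C` of presheaves of sets: functors between them, fibre products, representing data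
-/

set_option autoImplicit false
set_option backward.isDefEq.respectTransparency false
set_option backward.isDefEq.respectTransparency.types false

universe w v₃ u₃ v₂ u₂ v u

open CategoryTheory CategoryTheory.Limits Opposite FibCat FibLib
open CategoryTheory.Functor (Fiber)

namespace AlgStLib

variable {C : Type u} [Category.{v} C] {P Q R K : Cᵒᵖ ⥤ Type w}
  {𝒲 : BasedCategory.{v₂, u₂} C} {𝒱 : BasedCategory.{v₃, u₃} C}

lemma elt_ext {a b : Stk.EltObj P} (h : a.base = b.base)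
    (hs : P.map (eqToHom h).op b.sec = a.sec) : a = b := by
  obtain ⟨A, s⟩ := a
  obtain ⟨B, t⟩ := b
  obtain rfl : A = B := h
  obtain rfl : t = s := by simpa using hs
  rfl

/-- Morphisms over the same morphism of the base are equal. -/
lemma elt_hom_eq {a b : Stk.EltObj P} {A B : C} (g : A ⟶ B) (f f' : a ⟶ b)
    [(Stk.ofPsh P).p.IsHomLift g f] [(Stk.ofPsh P).p.IsHomLift g f'] : f = f' :=
  Stk.EltObj.hom_ext ((IsHomLift.fac' (Stk.ofPsh P).p g f).trans (IsHomLift.fac' (Stk.ofPsh P).p g f').symm)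

/-- Vertical morphisms of `ofPsh P` do not move the section. -/
lemma sec_eq_of_vert {T : C} {s t : P.obj (op T)} (f : (⟨T, s⟩ : Stk.EltObj P) ⟶ ⟨T, t⟩)
    (h : (Stk.ofPsh P).p.IsHomLift (𝟙 T) f) : t = s := by
  have hf : f.hom = eqToHom rfl ≫ 𝟙 T ≫ eqToHom rfl :=
    @IsHomLift.fac' _ _ _ _ (Stk.ofPsh P).p _ _ _ _ (𝟙 T) f h
  have hs := f.map_sec
  rw [hf] at hs
  simpa using hs

/-- The section attached by a functor to `ofPsh P` to an object. -/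
def secOf (Φ : 𝒲 ⥤ᵇ Stk.ofPsh P) (a : 𝒲.obj) : P.obj (op (𝒲.p.obj a)) :=
  P.map (eqToHom (show (Φ.obj a).base = 𝒲.p.obj a from Φ.w_obj a).symm).op (Φ.obj a).sec

lemma secOf_naturality (Φ : 𝒲 ⥤ᵇ Stk.ofPsh P) {a b : 𝒲.obj} (f : a ⟶ b) :
    P.map (𝒲.p.map f).op (secOf Φ b) = secOf Φ a := by
  haveI : 𝒲.p.IsHomLift (𝒲.p.map f) f := IsHomLift.map _ f
  haveI hl : (Stk.ofPsh P).p.IsHomLift (𝒲.p.map f) (Φ.map f) := Φ.preserves_isHomLift (𝒲.p.map f) f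
  have h : (Φ.map f).hom = eqToHom (Φ.w_obj a) ≫ 𝒲.p.map f ≫ eqToHom (Φ.w_obj b).symm :=
    @IsHomLift.fac' _ _ _ _ (Stk.ofPsh P).p _ _ _ _ (𝒲.p.map f) (Φ.map f) hl
  have hs := (Φ.map f).map_sec
  rw [h] at hs
  simp only [secOf]
  rw [← hs]
  simp only [← Functor.map_comp_apply, ← op_comp, eqToHom_trans_assoc, eqToHom_refl, Category.id_comp]

lemma obj_eq (Φ : 𝒲 ⥤ᵇ Stk.ofPsh P) (a : 𝒲.obj) : Φ.obj a = ⟨𝒲.p.obj a, secOf Φ a⟩ :=
  elt_ext (Φ.w_obj a) (by simp [secOf, ← Functor.map_comp_apply, ← op_comp])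

lemma secOf_iso {Φ Ψ : 𝒲 ⥤ᵇ Stk.ofPsh P} (α : Φ ≅ Ψ) (a : 𝒲.obj) : secOf Φ a = secOf Ψ a := by
  haveI : (Stk.ofPsh P).p.IsHomLift (𝟙 (𝒲.p.obj a)) (α.hom.toNatTrans.app a) := α.hom.isHomLift' a
  have h : (α.hom.toNatTrans.app a).hom = eqToHom (Φ.w_obj a) ≫ 𝟙 _ ≫ eqToHom (Ψ.w_obj a).symm :=
    IsHomLift.fac' (Stk.ofPsh P).p (𝟙 (𝒲.p.obj a)) (α.hom.toNatTrans.app a)
  have hs := (α.hom.toNatTrans.app a).map_sec
  rw [h] at hs
  simp only [secOf]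
  rw [← hs]
  simp only [← Functor.map_comp_apply, ← op_comp, Category.id_comp, eqToHom_trans, eqToHom_trans_assoc]

lemma nonempty_iso_of_sec {Φ Ψ : 𝒲 ⥤ᵇ Stk.ofPsh P} (h : ∀ a, secOf Φ a = secOf Ψ a) :
    Nonempty (Φ ≅ Ψ) := by
  let c : ∀ a, Φ.obj a ≅ Ψ.obj a := fun a => eqToIso (by rw [obj_eq Φ a, obj_eq Ψ a, h a])
  have hc : ∀ a, (Stk.ofPsh P).p.IsHomLift (𝟙 (𝒲.p.obj a)) (c a).hom := fun a => by
    simp only [c, eqToIso.hom]
    exact IsHomLift.eqToHom_domain_lift_id _ (Φ.w_obj a)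
  exact ⟨BasedNatIso.mkNatIso (NatIso.ofComponents c (fun {a b} φ => by
    haveI := hc a
    haveI := hc b
    haveI : 𝒲.p.IsHomLift (𝒲.p.map φ) φ := IsHomLift.map _ φ
    haveI : (Stk.ofPsh P).p.IsHomLift (𝒲.p.map φ) (Φ.map φ) := Φ.preserves_isHomLift (𝒲.p.map φ) φ
    haveI : (Stk.ofPsh P).p.IsHomLift (𝒲.p.map φ) (Ψ.map φ) := Ψ.preserves_isHomLift (𝒲.p.map φ) φ
    exact elt_hom_eq (𝒲.p.map φ) _ _)) hc⟩

lemma secOf_comp {𝒰 : BasedCategory.{v₃, u₃} C} (Λ : 𝒰 ⥤ᵇ 𝒲) (Φ : 𝒲 ⥤ᵇ Stk.ofPsh P) (a : 𝒰.obj) :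
    secOf (BasedFunctor.comp Λ Φ) a = P.map (eqToHom (Λ.w_obj a).symm).op (secOf Φ (Λ.obj a)) := by
  simp only [secOf, ← Functor.map_comp_apply, ← op_comp, eqToHom_trans]
  rfl

lemma secOf_comp_map (Φ : 𝒲 ⥤ᵇ Stk.ofPsh P) (φ : P ⟶ Q) (a : 𝒲.obj) :
    secOf (BasedFunctor.comp Φ (Stk.ofPshMap φ)) a = φ.app _ (secOf Φ a) := by
  simp only [secOf]
  exact (NatTrans.naturality_apply φ _ _).symm

@[simp] lemma secOf_id (a : Stk.EltObj P) : secOf (BasedFunctor.id (Stk.ofPsh P)) a = a.sec := by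
  show P.map (𝟙 (op a.base)) a.sec = a.sec
  simp

@[simp] lemma secOf_ofPshMap (φ : P ⟶ Q) (a : Stk.EltObj P) :
    secOf (Stk.ofPshMap φ) a = φ.app _ a.sec := by
  simp [secOf, Stk.ofPshMap]

/-- The map of presheaves of a functor over `C`. -/
def mapOf (Φ : Stk.ofPsh P ⥤ᵇ Stk.ofPsh Q) : P ⟶ Q where
  app T := ↾fun x => secOf Φ ⟨T.unop, x⟩
  naturality T T' g := by
    ext x
    exact (secOf_naturality Φ (⟨g.unop, rfl⟩ : (⟨T'.unop, P.map g x⟩ : Stk.EltObj P) ⟶ ⟨T.unop, x⟩)).symm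

lemma mapOf_app (Φ : Stk.ofPsh P ⥤ᵇ Stk.ofPsh Q) (T : C) (x : P.obj (op T)) :
    (mapOf Φ).app (op T) x = secOf Φ ⟨T, x⟩ := rfl

@[simp] lemma mapOf_ofPshMap (φ : P ⟶ Q) : mapOf (Stk.ofPshMap φ) = φ := by
  ext T x
  exact secOf_ofPshMap φ ⟨T.unop, x⟩

lemma nonempty_iso_mapOf (Φ : Stk.ofPsh P ⥤ᵇ Stk.ofPsh Q) : Nonempty (Φ ≅ Stk.ofPshMap (mapOf Φ)) :=
  nonempty_iso_of_sec fun a => by rw [secOf_ofPshMap]; rfl

lemma mapOf_congr {Φ Ψ : Stk.ofPsh P ⥤ᵇ Stk.ofPsh Q} (α : Φ ≅ Ψ) : mapOf Φ = mapOf Ψ := by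
  ext T x
  exact secOf_iso α _

lemma eq_of_iso_ofPshMap {φ ψ : P ⟶ Q} (α : Stk.ofPshMap φ ≅ Stk.ofPshMap ψ) : φ = ψ := by
  simpa using mapOf_congr α

lemma ofPshMap_comp (φ : P ⟶ Q) (ψ : Q ⟶ R) :
    Stk.ofPshMap (φ ≫ ψ) = BasedFunctor.comp (Stk.ofPshMap φ) (Stk.ofPshMap ψ) := rfl

lemma ofPshMap_id : Stk.ofPshMap (𝟙 P) = BasedFunctor.id (Stk.ofPsh P) := rfl

lemma isEquivOver_ofPshMap (φ : P ≅ Q) : IsEquivOver (Stk.ofPshMap φ.hom) := by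
  refine ⟨Stk.ofPshMap φ.inv, ⟨eqToIso ?_⟩, ⟨eqToIso ?_⟩⟩
  · rw [← ofPshMap_comp, φ.hom_inv_id, ofPshMap_id]
  · rw [← ofPshMap_comp, φ.inv_hom_id, ofPshMap_id]

lemma exists_iso_of_isEquivOver {E : Stk.ofPsh P ⥤ᵇ Stk.ofPsh Q} (hE : IsEquivOver E) :
    ∃ i : P ≅ Q, Nonempty (E ≅ Stk.ofPshMap i.hom) := by
  obtain ⟨G, ⟨α⟩, ⟨β⟩⟩ := hE
  obtain ⟨γ⟩ := nonempty_iso_mapOf E
  obtain ⟨δ⟩ := nonempty_iso_mapOf G
  refine ⟨⟨mapOf E, mapOf G, eq_of_iso_ofPshMap ?_, eq_of_iso_ofPshMap ?_⟩, ⟨γ⟩⟩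
  · rw [ofPshMap_comp, ofPshMap_id]
    exact (whiskerRightIso' γ _).symm ≪≫ (whiskerLeftIso' E δ).symm ≪≫ α
  · rw [ofPshMap_comp, ofPshMap_id]
    exact (whiskerRightIso' δ _).symm ≪≫ (whiskerLeftIso' G γ).symm ≪≫ β

lemma isFibSetoid_ofPsh : IsFibSetoid (Stk.EltObj.forget P) :=
  ⟨inferInstance, fun U a b => ⟨fun φ ψ => by
    haveI := φ.2
    haveI := ψ.2
    exact Fiber.hom_ext (elt_hom_eq (𝟙 U) _ _)⟩⟩

section Pullback

variable {f : P ⟶ R} {g : Q ⟶ R}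

/-- An object of a fibre product of presheaf categories gives two compatible sections. -/
lemma fp_sec_eq (x : (fp (Stk.ofPshMap f) (Stk.ofPshMap g)).obj) :
    f.app _ (secOf (fpFst (Stk.ofPshMap f) (Stk.ofPshMap g)) x) =
      g.app _ (secOf (fpSnd (Stk.ofPshMap f) (Stk.ofPshMap g)) x) := by
  rw [← secOf_comp_map, ← secOf_comp_map]
  exact secOf_iso (fpIso _ _) x

/-- The pairs of compatible sections over `T`. -/
abbrev Pairs (f : P ⟶ R) (g : Q ⟶ R) (T : C) : Type w :=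
  {p : P.obj (op T) × Q.obj (op T) // f.app _ p.1 = g.app _ p.2}

variable {a : K ⟶ P} {b : K ⟶ Q} (hw : a ≫ f = b ≫ g)

/-- The map to the compatible pairs. -/
def toPairs (T : C) (k : K.obj (op T)) : Pairs f g T :=
  ⟨(a.app _ k, b.app _ k), by
    have h := congrArg (fun t : K ⟶ R => (ConcreteCategory.hom (t.app (op T))) k) hw
    simpa using h⟩

variable (e : BasedFunctor.comp (Stk.ofPshMap a) (Stk.ofPshMap f) ≅
    BasedFunctor.comp (Stk.ofPshMap b) (Stk.ofPshMap g))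

lemma isEquivOver_fpLift_of_bijective (h : ∀ T, Function.Bijective (toPairs hw T)) :
    IsEquivOver (fpLift (Stk.ofPshMap a) (Stk.ofPshMap b) e) := by
  set Φ := fpLift (Stk.ofPshMap a) (Stk.ofPshMap b) e
  haveI : Φ.toFunctor.Faithful := ⟨fun {x y φ ψ} hh =>
    Stk.EltObj.hom_ext (congrArg (fun t => t.hom.fst.hom) hh)⟩
  haveI : Φ.toFunctor.Full := ⟨fun {x y} φ => by
    have h1 : P.map φ.hom.fst.hom.op (a.app _ y.sec) = a.app _ x.sec := φ.hom.fst.map_sec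
    have h2 : Q.map φ.hom.snd.hom.op (b.app _ y.sec) = b.app _ x.sec := φ.hom.snd.map_sec
    have hb : φ.hom.snd.hom = φ.hom.fst.hom := by
      have hl : (Stk.ofPsh Q).p.IsHomLift ((fp (Stk.ofPshMap f) (Stk.ofPshMap g)).p.map φ) φ.hom.snd :=
        FibCat.fp_isHomLift_snd _ _ φ
      have hh : φ.hom.snd.hom = eqToHom rfl ≫ φ.hom.fst.hom ≫ eqToHom rfl :=
        @IsHomLift.fac' _ _ _ _ (Stk.ofPsh Q).p _ _ _ _ ((fp (Stk.ofPshMap f) (Stk.ofPshMap g)).p.map φ) φ.hom.snd hl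
      simpa using hh
    rw [hb] at h2
    have hk : K.map φ.hom.fst.hom.op y.sec = x.sec := by
      apply (h x.base).1
      apply Subtype.ext
      refine Prod.ext ?_ ?_
      · exact (NatTrans.naturality_apply a _ _).trans h1
      · exact (NatTrans.naturality_apply b _ _).trans h2
    refine ⟨⟨φ.hom.fst.hom, hk⟩, fp_hom_ext rfl (Stk.EltObj.hom_ext hb.symm)⟩⟩
  refine isEquivOver_of_vertEssSurj _ fun η => ?_
  obtain ⟨k, hk⟩ := (h η.obj.fst.base).2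
    ⟨(secOf (fpFst _ _) η, secOf (fpSnd _ _) η), fp_sec_eq η⟩
  have hk1 : a.app _ k = secOf (fpFst (Stk.ofPshMap f) (Stk.ofPshMap g)) η := congrArg (fun t => t.1.1) hk
  have hk2 : b.app _ k = secOf (fpSnd (Stk.ofPshMap f) (Stk.ofPshMap g)) η := congrArg (fun t => t.1.2) hk
  have e1 : (Φ.obj ⟨η.obj.fst.base, k⟩).obj.fst = η.obj.fst :=
    ((obj_eq (fpFst (Stk.ofPshMap f) (Stk.ofPshMap g)) η).trans
      (congrArg (fun s => (⟨η.obj.fst.base, s⟩ : Stk.EltObj P)) hk1.symm)).symm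
  have e2 : (Φ.obj ⟨η.obj.fst.base, k⟩).obj.snd = η.obj.snd :=
    ((obj_eq (fpSnd (Stk.ofPshMap f) (Stk.ofPshMap g)) η).trans
      (congrArg (fun s => (⟨η.obj.fst.base, s⟩ : Stk.EltObj Q)) hk2.symm)).symm
  haveI l1 : (Stk.ofPsh P).p.IsHomLift (𝟙 η.obj.fst.base) (eqToHom e1) :=
    IsHomLift.eqToHom_domain_lift_id e1 rfl
  haveI l2 : (Stk.ofPsh Q).p.IsHomLift (𝟙 η.obj.fst.base) (eqToHom e2) :=
    IsHomLift.eqToHom_domain_lift_id e2 rfl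
  haveI l3 : (Stk.ofPsh R).p.IsHomLift (𝟙 η.obj.fst.base) η.obj.iso.hom := η.property
  haveI l4 : (Stk.ofPsh R).p.IsHomLift (𝟙 η.obj.fst.base) (Φ.obj ⟨η.obj.fst.base, k⟩).obj.iso.hom :=
    (Φ.obj ⟨η.obj.fst.base, k⟩).property
  haveI m1 : (Stk.ofPsh R).p.IsHomLift (𝟙 η.obj.fst.base) ((Stk.ofPshMap f).map (eqToIso e1).hom) :=
    (Stk.ofPshMap f).preserves_isHomLift _ (eqToHom e1)
  haveI m2 : (Stk.ofPsh R).p.IsHomLift (𝟙 η.obj.fst.base) ((Stk.ofPshMap g).map (eqToIso e2).hom) :=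
    (Stk.ofPshMap g).preserves_isHomLift _ (eqToHom e2)
  refine ⟨⟨η.obj.fst.base, k⟩, fpIsoMk (eqToIso e1) (eqToIso e2)
    (elt_hom_eq (𝟙 η.obj.fst.base) _ _), ?_⟩
  haveI : (Stk.ofPsh P).p.IsHomLift (𝟙 η.obj.fst.base)
      (fpIsoMk (x := Φ.obj ⟨η.obj.fst.base, k⟩) (y := η) (eqToIso e1) (eqToIso e2)
        (elt_hom_eq (𝟙 η.obj.fst.base) _ _)).hom.hom.fst := l1
  exact isHomLift_of_fst (𝟙 η.obj.fst.base) _

lemma bijective_of_isEquivOver_fpLift (hE : IsEquivOver (fpLift (Stk.ofPshMap a) (Stk.ofPshMap b) e))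
    (T : C) : Function.Bijective (toPairs hw T) := by
  obtain ⟨⟨hF, hFf⟩, hess⟩ := (isEquivOver_iff _).mp hE
  set Φ := fpLift (Stk.ofPshMap a) (Stk.ofPshMap b) e
  constructor
  · intro k k' hkk
    have h1 : a.app _ k = a.app _ k' := congrArg (fun t => t.1.1) hkk
    have h2 : b.app _ k = b.app _ k' := congrArg (fun t => t.1.2) hkk
    let x : Stk.EltObj K := ⟨T, k⟩
    let y : Stk.EltObj K := ⟨T, k'⟩
    have e1 : (Φ.obj x).obj.fst = (Φ.obj y).obj.fst := congrArg (fun s => (⟨T, s⟩ : Stk.EltObj P)) h1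
    have e2 : (Φ.obj x).obj.snd = (Φ.obj y).obj.snd := congrArg (fun s => (⟨T, s⟩ : Stk.EltObj Q)) h2
    haveI l1 : (Stk.ofPsh P).p.IsHomLift (𝟙 T) (eqToHom e1) := IsHomLift.eqToHom_domain_lift_id e1 rfl
    haveI l2 : (Stk.ofPsh Q).p.IsHomLift (𝟙 T) (eqToHom e2) := IsHomLift.eqToHom_domain_lift_id e2 rfl
    haveI l3 : (Stk.ofPsh R).p.IsHomLift (𝟙 T) (Φ.obj x).obj.iso.hom := (Φ.obj x).property
    haveI l4 : (Stk.ofPsh R).p.IsHomLift (𝟙 T) (Φ.obj y).obj.iso.hom := (Φ.obj y).property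
    haveI m1 : (Stk.ofPsh R).p.IsHomLift (𝟙 T) ((Stk.ofPshMap f).map (eqToIso e1).hom) :=
      (Stk.ofPshMap f).preserves_isHomLift _ (eqToHom e1)
    haveI m2 : (Stk.ofPsh R).p.IsHomLift (𝟙 T) ((Stk.ofPshMap g).map (eqToIso e2).hom) :=
      (Stk.ofPshMap g).preserves_isHomLift _ (eqToHom e2)
    let i := fpIsoMk (eqToIso e1) (eqToIso e2) (elt_hom_eq (𝟙 T) _ _)
    obtain ⟨m, hm⟩ := hF.map_surjective i.hom
    haveI : (Stk.ofPsh P).p.IsHomLift (𝟙 T) i.hom.hom.fst := l1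
    haveI hi : (fp _ _).p.IsHomLift (𝟙 T) i.hom := isHomLift_of_fst (𝟙 T) i.hom
    haveI : (fp _ _).p.IsHomLift (𝟙 T) (Φ.map m) := by rw [hm]; exact hi
    exact (sec_eq_of_vert m (Φ.isHomLift_map (𝟙 T) m)).symm
  · rintro ⟨⟨p, q⟩, hpq⟩
    have hobj : (Stk.ofPshMap f).obj ⟨T, p⟩ = (Stk.ofPshMap g).obj ⟨T, q⟩ :=
      congrArg (fun s => (⟨T, s⟩ : Stk.EltObj R)) hpq
    let η : (fp (Stk.ofPshMap f) (Stk.ofPshMap g)).obj :=
      fpObj ⟨T, p⟩ ⟨T, q⟩ (eqToIso hobj) (IsHomLift.eqToHom_domain_lift_id hobj rfl)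
    obtain ⟨x, i, hi⟩ := hess η
    haveI hi' : (fp _ _).p.IsHomLift (𝟙 T) i.hom := hi
    have hx : x.base = T := IsHomLift.domain_eq (fp _ _).p (𝟙 T) i.hom
    obtain ⟨T', k⟩ := x
    obtain rfl : T' = T := hx
    refine ⟨k, Subtype.ext (Prod.ext ?_ ?_)⟩
    · exact (sec_eq_of_vert (P := P) i.hom.hom.fst (isHomLift_fst _ i.hom)).symm
    · exact (sec_eq_of_vert (P := Q) i.hom.hom.snd (isHomLift_snd _ i.hom)).symm

lemma bijective_toPairs_of_isPullback (sq : IsPullback a b f g) (T : C) :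
    Function.Bijective (toPairs sq.w T) := by
  have hsq : IsPullback (a.app (op T)) (b.app (op T)) (f.app (op T)) (g.app (op T)) :=
    sq.app (op T)
  rw [CategoryTheory.Limits.Types.isPullback_iff] at hsq
  refine ⟨fun k k' hk => hsq.2.1 _ _ ⟨congrArg (fun t => t.1.1) hk, congrArg (fun t => t.1.2) hk⟩, ?_⟩
  rintro ⟨⟨p, q⟩, hpq⟩
  obtain ⟨k, h1, h2⟩ := hsq.2.2 p q hpq
  exact ⟨k, Subtype.ext (Prod.ext h1 h2)⟩

lemma isPullback_of_bijective (hw : a ≫ f = b ≫ g) (h : ∀ T, Function.Bijective (toPairs hw T)) :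
    IsPullback a b f g := by
  refine IsPullback.of_forall_isPullback_app fun T => ?_
  rw [CategoryTheory.Limits.Types.isPullback_iff]
  refine ⟨congrArg (fun t => NatTrans.app t T) hw,
    fun k k' hk => (h T.unop).1 (Subtype.ext (Prod.ext hk.1 hk.2)), fun p q hpq => ?_⟩
  obtain ⟨k, hk⟩ := (h T.unop).2 ⟨(p, q), hpq⟩
  exact ⟨k, congrArg (fun t => t.1.1) hk, congrArg (fun t => t.1.2) hk⟩

end Pullback

end AlgStLib
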