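import Groth.Agent.AlgStLib.Substack

/-!
# Closed substacks and reduced stacks
-/

set_option autoImplicit false
set_option backward.isDefEq.respectTransparency false
set_option backward.isDefEq.respectTransparency.types false

universe u

open CategoryTheory CategoryTheory.Limits AlgebraicGeometry Opposite AlgSp FibCat FibLib AlgSpLib Topology

noncomputable section

namespace AlgStLib

variable {S : Scheme.{u}} {𝒳 𝒴 : AlgSt.Cat S} {Q : 𝒳.obj → Prop}

/-- A surjective closed immersion onto a reduced scheme is an isomorphism of sheaves. -/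
lemma isIso_of_closedImm_surjective_reduced {U : Over S} [IsReduced U.left] {H : Sp S} {a : H ⟶ (yon S).obj U}
    (ha : RepWith @IsClosedImmersion a) (hs : Function.Surjective (Points.map a)) : IsIso a := by
  obtain ⟨Y, s, t, sq⟩ := ha.rep (𝟙 _)
  haveI : IsIso t := sq.isIso_fst_of_isIso
  haveI : IsClosedImmersion s.left := ha.property (𝟙 _) t s sq
  haveI : Surjective s.left := ⟨fun x => by
    obtain ⟨z, hz⟩ := hs (Points.schemeHomeo U x)
    obtain ⟨w, rfl⟩ := (isHomeomorph_map_of_isIso t).surjective z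
    obtain ⟨y, rfl⟩ := (Points.schemeHomeo Y).surjective w
    refine ⟨y, (Points.schemeHomeo U).injective ?_⟩
    rw [← Points.map_comp, sq.w, Category.comp_id, Points.map_yon_map_apply] at hz
    exact hz⟩
  haveI : IsIso ((Over.forget S).map s) := isIso_of_isClosedImmersion_of_surjective s.left
  haveI : IsIso s := isIso_of_reflects_iso _ (Over.forget S)
  haveI : IsIso (t ≫ a) := by rw [sq.w, Category.comp_id]; infer_instance
  exact IsIso.of_isIso_comp_left t a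

theorem forall_mem_of_range_subset (h𝒳 : AlgSt.IsAlgStack Scheme.fppfPrecoverage 𝒳)
    (h𝒴 : AlgSt.IsAlgStack Scheme.fppfPrecoverage 𝒴) (hred : AlgSt.SmoothLocally (fun X => IsReduced X) 𝒴)
    (hQ : AlgSt.IsClosedSubstack 𝒳 Q Scheme.fppfPrecoverage) (f : 𝒴 ⥤ᵇ 𝒳)
    (h : Set.range (AlgSt.Points.map f) ⊆ Set.range (AlgSt.Points.map (AlgSt.subIncl 𝒳 Q))) (y : 𝒴.obj) :
    Q (f.obj y) := by
  haveI := isFibGrpd_of_isAlgStack h𝒳
  haveI := isFibGrpd_of_isAlgStack h𝒴
  haveI := isFibGrpd_of_isAlgStack hQ.2.1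
  haveI := hQ.1
  obtain ⟨U, x, hx, hxs⟩ := h𝒴.atlas
  haveI : IsReduced U.left := hred U x hx
  let x' := BasedFunctor.comp (AlgSt.toOverCat U) x
  -- over the atlas
  obtain ⟨H₀, a₀, hH₀, ha₀, hP₀⟩ := (repByAlgSpWith_iff _ _).mp hQ.2.2 U (BasedFunctor.comp x' f)
  haveI : IsIso a₀ := by
    refine isIso_of_closedImm_surjective_reduced hP₀ fun z => ?_
    obtain ⟨v, hv⟩ := preimage_image_along ha₀
    have : z ∈ ptMap (BasedFunctor.comp x' f) ⁻¹' (AlgSt.Points.map (AlgSt.subIncl 𝒳 Q) '' Set.univ) := by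
      rw [Set.image_univ]
      exact h ⟨ptMap x' z, by simp [ptMap, map_comp]⟩
    rw [hv] at this
    obtain ⟨w, -, hw⟩ := this
    exact ⟨w, hw⟩
  -- over the object
  let ξ : 𝒴.p.Fiber (𝒴.p.obj y) := Functor.Fiber.mk (p := 𝒴.p) (a := y) rfl
  let u : AlgSt.ofSch (𝒴.p.obj y) ⥤ᵇ 𝒴 := BasedFunctor.comp (AlgSt.toOverCat _) (ofPoint ξ)
  obtain ⟨k⟩ := nonempty_evalAtId_ofPoint_iso ξ
  let V := 𝒴.p.obj y
  obtain ⟨W, c, hW, hc, hc₁⟩ := (repByAlgSpWith_iff _ _).mp (repByAlgSpWith_toOverCat_comp hx) V u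
  have hc₃ := prop_of_along good_surjective.bc.precomp_iso (repByAlgSpWith_toOverCat_comp hxs) hc
  haveI : Sheaf.IsLocallySurjective c := isLocallySurjective_of_fppf hW (IsAlgSpace.yon_obj V) c
    (locP_flat_of_smooth hc₁) (locP_lfp_of_smooth hc₁) hc₃
  obtain ⟨e, he, ⟨β⟩⟩ := hc
  let v : AlgSt.ofSp W ⥤ᵇ AlgSt.ofSch U := BasedFunctor.comp e (FibCat.fpSnd u _)
  obtain ⟨αv⟩ := nonempty_iso_mapOf v
  let m : W ⟶ (yon S).obj U := ObjectProperty.homMk (mapOf v)
  have hv : BasedFunctor.comp (Stk.ofPshMap m.hom) x' ≅ BasedFunctor.comp (Stk.ofPshMap c.hom) u :=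
    whiskerRightIso' αv.symm x' ≪≫ (whiskerLeftIso' e (fpIso u x')).symm ≪≫ whiskerRightIso' β u
  obtain ⟨H, a, hH, ha, hP⟩ := (repByAlgSpWith_iff _ _).mp hQ.2.2 V (BasedFunctor.comp u f)
  haveI : IsIso (pullback.snd a c) := by
    have h2 := (ha₀.of_isPullback (isPullback_sheaf (IsPullback.of_hasPullback a₀ m))).congr
      (whiskerRightIso' hv f) (Iso.refl _)
    obtain ⟨i, hi⟩ := along_hom_unique (ha.of_isPullback (isPullback_sheaf (IsPullback.of_hasPullback a c))) h2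
    rw [← hi]
    infer_instance
  haveI : Mono a := AlgSpLib.mono_of_repWith (fun g (_ : IsClosedImmersion g) => inferInstance) hP
  haveI : Sheaf.IsLocallySurjective ((inv (pullback.snd a c) ≫ pullback.fst a c) ≫ a) := by
    rw [Category.assoc, pullback.condition, IsIso.inv_hom_id_assoc]; infer_instance
  haveI : Presheaf.IsLocallySurjective (AlgSp.J S) ((inv (pullback.snd a c) ≫ pullback.fst a c).hom ≫ a.hom) :=
    (inferInstance : Sheaf.IsLocallySurjective ((inv (pullback.snd a c) ≫ pullback.fst a c) ≫ a))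
  haveI : Sheaf.IsLocallySurjective a :=
    Presheaf.isLocallySurjective_of_isLocallySurjective (AlgSp.J S)
      (inv (pullback.snd a c) ≫ pullback.fst a c).hom a.hom
  haveI : Epi a := inferInstance
  haveI : IsIso a := isIso_of_mono_of_epi a
  obtain ⟨z, ⟨j⟩⟩ := exists_section_of_mem ha
  let ky : u.obj ⟨V, ⟨𝟙 V⟩⟩ ≅ y :=
    ⟨k.hom.1, k.inv.1, congrArg Subtype.val k.hom_inv_id, congrArg Subtype.val k.inv_hom_id⟩
  exact ObjectProperty.prop_of_iso Q (j.symm ≪≫ f.toFunctor.mapIso ky) z.property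

theorem forall_mem_iff_range_subset (h𝒳 : AlgSt.IsAlgStack Scheme.fppfPrecoverage 𝒳)
    (h𝒴 : AlgSt.IsAlgStack Scheme.fppfPrecoverage 𝒴) (hred : AlgSt.SmoothLocally (fun X => IsReduced X) 𝒴)
    (hQ : AlgSt.IsClosedSubstack 𝒳 Q Scheme.fppfPrecoverage) (f : 𝒴 ⥤ᵇ 𝒳) :
    (∀ y : 𝒴.obj, Q (f.obj y)) ↔
      Set.range (AlgSt.Points.map f) ⊆ Set.range (AlgSt.Points.map (AlgSt.subIncl 𝒳 Q)) := by
  refine ⟨fun h => ?_, fun h y => forall_mem_of_range_subset h𝒳 h𝒴 hred hQ f h y⟩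
  rintro _ ⟨z, rfl⟩
  obtain ⟨p, rfl⟩ := AlgSt.Points.mk_surjective z
  exact mk_mem_range_subIncl (p.map f) (h p.obj)

end AlgStLib
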