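import Groth.Agent.AlgStLib.Psh

/-!
# Representing data for a category over a presheaf, and for base changes of functors
-/

set_option autoImplicit false
set_option backward.isDefEq.respectTransparency false
set_option backward.isDefEq.respectTransparency.types false

universe w v₄ u₄ v₃ u₃ v₂ u₂ v u

open CategoryTheory CategoryTheory.Limits Opposite FibCat FibLib
open CategoryTheory.Functor (Fiber)

namespace AlgStLib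

variable {C : Type u} [Category.{v} C] {G G' G'' H H' K : Cᵒᵖ ⥤ Type w}
  {𝒲 : BasedCategory.{v₂, u₂} C}

/-- `a : H ⟶ G` represents `p : 𝒲 ⟶ G` over `C`. -/
def PRep (p : 𝒲 ⥤ᵇ Stk.ofPsh G) (a : H ⟶ G) : Prop :=
  ∃ e : Stk.ofPsh H ⥤ᵇ 𝒲, IsEquivOver e ∧ Nonempty (BasedFunctor.comp e p ≅ Stk.ofPshMap a)

lemma pRep_self (a : H ⟶ G) : PRep (Stk.ofPshMap a) a :=
  ⟨BasedFunctor.id _, isEquivOver_id _, ⟨Iso.refl _⟩⟩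

lemma exists_inverse {𝒰 : BasedCategory.{v₃, u₃} C} {e : 𝒰 ⥤ᵇ 𝒲} (he : IsEquivOver e) :
    ∃ e' : 𝒲 ⥤ᵇ 𝒰, IsEquivOver e' ∧ Nonempty (BasedFunctor.comp e e' ≅ BasedFunctor.id 𝒰) ∧
      Nonempty (BasedFunctor.comp e' e ≅ BasedFunctor.id 𝒲) :=
  let ⟨e', h₁, h₂⟩ := he
  ⟨e', ⟨e, h₂, h₁⟩, h₁, h₂⟩

/-- Representing maps are unique up to isomorphism over `G`. -/
lemma PRep.unique {p : 𝒲 ⥤ᵇ Stk.ofPsh G} {a : H ⟶ G} {a' : H' ⟶ G} (h : PRep p a) (h' : PRep p a') :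
    ∃ i : H ≅ H', i.hom ≫ a' = a := by
  obtain ⟨e, he, ⟨α⟩⟩ := h
  obtain ⟨e', he', ⟨α'⟩⟩ := h'
  obtain ⟨g, hg, -, ⟨β⟩⟩ := exists_inverse he'
  obtain ⟨i, ⟨γ⟩⟩ := exists_iso_of_isEquivOver (isEquivOver_comp he hg)
  refine ⟨i, eq_of_iso_ofPshMap ?_⟩
  rw [ofPshMap_comp]
  exact (whiskerRightIso' γ _).symm ≪≫ (whiskerLeftIso' (BasedFunctor.comp e g) α'.symm) ≪≫
    whiskerLeftIso' e (whiskerRightIso' β p) ≪≫ α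

lemma PRep.congr {p p' : 𝒲 ⥤ᵇ Stk.ofPsh G} {a : H ⟶ G} (h : PRep p a) (α : p ≅ p') : PRep p' a :=
  let ⟨e, he, ⟨β⟩⟩ := h
  ⟨e, he, ⟨(whiskerLeftIso' e α).symm ≪≫ β⟩⟩

lemma PRep.postcomp {p : 𝒲 ⥤ᵇ Stk.ofPsh G} {a : H ⟶ G} (h : PRep p a) (b : G ⟶ G') :
    PRep (BasedFunctor.comp p (Stk.ofPshMap b)) (a ≫ b) :=
  let ⟨e, he, ⟨β⟩⟩ := h
  ⟨e, he, ⟨by rw [ofPshMap_comp]; exact whiskerRightIso' β (Stk.ofPshMap b)⟩⟩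

lemma PRep.transport {𝒰 : BasedCategory.{v₃, u₃} C} {p : 𝒲 ⥤ᵇ Stk.ofPsh G} {q : 𝒰 ⥤ᵇ Stk.ofPsh G}
    {a : H ⟶ G} (h : PRep p a) {E : 𝒲 ⥤ᵇ 𝒰} (hE : IsEquivOver E) (α : BasedFunctor.comp E q ≅ p) :
    PRep q a :=
  let ⟨e, he, ⟨β⟩⟩ := h
  ⟨BasedFunctor.comp e E, isEquivOver_comp he hE, ⟨whiskerLeftIso' e α ≪≫ β⟩⟩

lemma PRep.of_iso {p : 𝒲 ⥤ᵇ Stk.ofPsh G} {a : H ⟶ G} (h : PRep p a) (i : H' ≅ H) :
    PRep p (i.hom ≫ a) :=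
  let ⟨e, he, ⟨β⟩⟩ := h
  ⟨BasedFunctor.comp (Stk.ofPshMap i.hom) e, isEquivOver_comp (isEquivOver_ofPshMap i) he,
    ⟨by rw [ofPshMap_comp]; exact whiskerLeftIso' (Stk.ofPshMap i.hom) β⟩⟩

/-- The fibre product over a presheaf is represented by the pullback. -/
lemma PRep.fpFst_of_isPullback {p : 𝒲 ⥤ᵇ Stk.ofPsh G} {a : H ⟶ G} (h : PRep p a) {b : G' ⟶ G}
    {a' : K ⟶ G'} {b' : K ⟶ H} (sq : IsPullback b' a' a b) : PRep (fpFst (Stk.ofPshMap b) p) a' := by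
  obtain ⟨e, he, ⟨β⟩⟩ := h
  obtain ⟨α⟩ := nonempty_iso_of_sec (P := G)
    (Φ := BasedFunctor.comp (Stk.ofPshMap a') (Stk.ofPshMap b))
    (Ψ := BasedFunctor.comp (Stk.ofPshMap b') (Stk.ofPshMap a))
    (fun x => by
      rw [← ofPshMap_comp, ← ofPshMap_comp, ← sq.w])
  let L := fpLift (Stk.ofPshMap a') (Stk.ofPshMap b') α
  have hL : IsEquivOver L :=
    isEquivOver_fpLift_of_bijective sq.flip.w α (fun T => bijective_toPairs_of_isPullback sq.flip T)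
  haveI : (BasedFunctor.id (Stk.ofPsh G)).toFunctor.Full := inferInstanceAs (𝟭 _).Full
  haveI : (BasedFunctor.id (Stk.ofPsh G)).toFunctor.Faithful := inferInstanceAs (𝟭 _).Faithful
  let M : fp (Stk.ofPshMap b) (Stk.ofPshMap a) ⥤ᵇ fp (Stk.ofPshMap b) p :=
    fpMap (a := BasedFunctor.id _) (b := e) (c := BasedFunctor.id _) (Iso.refl _) β
  have hM : IsEquivOver M := isEquivOver_fpMap _ _ (isEquivOver_id _) he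
  exact ⟨BasedFunctor.comp L M, isEquivOver_comp hL hM, ⟨Iso.refl _⟩⟩

/-- Every category fibred in setoids comes from a presheaf. -/
lemma exists_ofPsh_equiv {𝒱 : BasedCategory.{v₂, w} C} (h : IsFibSetoid 𝒱.p) :
    ∃ (P : Cᵒᵖ ⥤ Type w) (e : Stk.ofPsh P ⥤ᵇ 𝒱), IsEquivOver e := by
  haveI := h.1
  have ex : ∀ {T' T : C} (g : T' ⟶ T) (q : FibClass 𝒱 T), ∃ q' : FibClass 𝒱 T',
      ∃ φ : (fibRep 𝒱 q').1 ⟶ (fibRep 𝒱 q).1, 𝒱.p.IsHomLift g φ := fun {T' T} g q => by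
    obtain ⟨x, φ, hφ⟩ := exists_lift 𝒱.p (fibRep 𝒱 q).2 g
    have hx : 𝒱.p.obj x = T' := IsHomLift.domain_eq 𝒱.p g φ
    obtain ⟨i⟩ := nonempty_fibRep_iso 𝒱 (Fiber.mk (p := 𝒱.p) hx)
    haveI := i.hom.2
    haveI : 𝒱.p.IsHomLift g φ := hφ
    exact ⟨fibClass 𝒱 (Fiber.mk hx), i.hom.1 ≫ φ,
      @IsHomLift.comp_lift_id_left _ _ _ _ 𝒱.p _ _ _ _ _ g φ hφ i.hom.1 i.hom.2⟩
  have uniq : ∀ {T' T : C} (g : T' ⟶ T) (q : FibClass 𝒱 T) (q₁ q₂ : FibClass 𝒱 T'),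
      (∃ φ : (fibRep 𝒱 q₁).1 ⟶ (fibRep 𝒱 q).1, 𝒱.p.IsHomLift g φ) →
      (∃ φ : (fibRep 𝒱 q₂).1 ⟶ (fibRep 𝒱 q).1, 𝒱.p.IsHomLift g φ) → q₁ = q₂ := by
    rintro T' T g q q₁ q₂ ⟨φ, hφ⟩ ⟨ψ, hψ⟩
    let χ : fibRep 𝒱 q₁ ⟶ fibRep 𝒱 q₂ :=
      ⟨CategoryTheory.Functor.IsCartesian.map 𝒱.p g ψ φ, CategoryTheory.Functor.IsCartesian.map_isHomLift 𝒱.p g ψ φ⟩
    haveI := isGroupoid_fiber 𝒱.p T'
    rw [← fibClass_fibRep 𝒱 q₁, ← fibClass_fibRep 𝒱 q₂]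
    exact Quotient.sound ⟨asIso χ⟩
  choose m hm using @ex
  let P : Cᵒᵖ ⥤ Type w :=
    { obj := fun T => FibClass 𝒱 T.unop
      map := fun g => ↾(m g.unop)
      map_id := fun T => by
        ext q
        exact uniq _ _ _ _ (hm _ _) ⟨𝟙 _, IsHomLift.id (fibRep 𝒱 _).2⟩
      map_comp := fun {T T' T''} g g' => by
        ext q
        refine uniq _ _ _ _ (hm _ _) ?_
        obtain ⟨φ, hφ⟩ := hm g.unop q
        obtain ⟨ψ, hψ⟩ := hm g'.unop (m g.unop q)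
        exact ⟨ψ ≫ φ, inferInstanceAs (𝒱.p.IsHomLift (g'.unop ≫ g.unop) (ψ ≫ φ))⟩ }
  let E : 𝒱 ⥤ᵇ Stk.ofPsh P :=
    { toFunctor :=
      { obj := fun x => ⟨𝒱.p.obj x, fibClass 𝒱 (Fiber.mk rfl)⟩
        map := fun {x y} φ => ⟨𝒱.p.map φ, by
          show m (𝒱.p.map φ) _ = _
          refine uniq _ _ _ _ (hm _ _) ?_
          obtain ⟨i⟩ := nonempty_fibRep_iso 𝒱 (Fiber.mk (p := 𝒱.p) (a := x) rfl)
          obtain ⟨j⟩ := nonempty_fibRep_iso 𝒱 (Fiber.mk (p := 𝒱.p) (a := y) rfl)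
          haveI : 𝒱.p.IsHomLift (𝒱.p.map φ) (φ ≫ j.inv.1) :=
            @IsHomLift.comp_lift_id_right _ _ _ _ 𝒱.p _ _ _ _ _ (𝒱.p.map φ) φ (IsHomLift.map _ _)
              j.inv.1 j.inv.2
          exact ⟨i.hom.1 ≫ φ ≫ j.inv.1,
            @IsHomLift.comp_lift_id_left _ _ _ _ 𝒱.p _ _ _ _ _ (𝒱.p.map φ) _ this i.hom.1 i.hom.2⟩⟩
        map_id := fun x => Stk.EltObj.hom_ext (𝒱.p.map_id x)
        map_comp := fun f g => Stk.EltObj.hom_ext (𝒱.p.map_comp f g) }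
      w := rfl }
  haveI : E.toFunctor.Faithful := ⟨fun {x y φ ψ} e => by
    have he : 𝒱.p.map φ = 𝒱.p.map ψ := congrArg (fun t => t.hom) e
    haveI : 𝒱.p.IsHomLift (𝒱.p.map φ) ψ := he ▸ IsHomLift.map _ _
    haveI : 𝒱.p.IsHomLift (𝒱.p.map φ) φ := IsHomLift.map _ _
    exact hom_eq_of_thin h.2 (𝒱.p.map φ) φ ψ⟩
  haveI : E.toFunctor.Full := ⟨fun {x y} φ => by
    obtain ⟨f, hf⟩ : ∃ f : 𝒱.p.obj x ⟶ 𝒱.p.obj y, f = φ.hom := ⟨φ.hom, rfl⟩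
    have hs' : m f (fibClass 𝒱 (Fiber.mk (p := 𝒱.p) (a := y) rfl)) =
        fibClass 𝒱 (Fiber.mk (p := 𝒱.p) (a := x) rfl) := by subst hf; exact φ.map_sec
    obtain ⟨ψ, hψ⟩ : ∃ ψ : (fibRep 𝒱 (fibClass 𝒱 (Fiber.mk (p := 𝒱.p) (a := x) rfl))).1 ⟶
        (fibRep 𝒱 (fibClass 𝒱 (Fiber.mk (p := 𝒱.p) (a := y) rfl))).1, 𝒱.p.IsHomLift f ψ :=
      hs' ▸ hm f _
    obtain ⟨i⟩ := nonempty_fibRep_iso 𝒱 (Fiber.mk (p := 𝒱.p) (a := x) rfl)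
    obtain ⟨j⟩ := nonempty_fibRep_iso 𝒱 (Fiber.mk (p := 𝒱.p) (a := y) rfl)
    haveI h1 : 𝒱.p.IsHomLift f (ψ ≫ j.hom.1) :=
      @IsHomLift.comp_lift_id_right _ _ _ _ 𝒱.p _ _ _ _ _ f ψ hψ j.hom.1 j.hom.2
    let k : x ⟶ y := i.inv.1 ≫ ψ ≫ j.hom.1
    haveI hk : 𝒱.p.IsHomLift f k :=
      @IsHomLift.comp_lift_id_left _ _ _ _ 𝒱.p _ _ _ _ _ f _ h1 i.inv.1 i.inv.2
    exact ⟨k, Stk.EltObj.hom_ext (((IsHomLift.fac' 𝒱.p f k).trans (by simp)).trans hf)⟩⟩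
  have hE : IsEquivOver E := by
    refine isEquivOver_of_vertEssSurj _ fun η => ?_
    obtain ⟨T, q⟩ := η
    have key : ∀ (x : 𝒱.obj) (hx : 𝒱.p.obj x = T), E.obj x = ⟨T, fibClass 𝒱 (Fiber.mk hx)⟩ := by
      intro x hx
      subst hx
      rfl
    have hobj : E.obj (fibRep 𝒱 q).1 = ⟨T, q⟩ :=
      (key _ (fibRep 𝒱 q).2).trans (congrArg (fun s => (⟨T, s⟩ : Stk.EltObj P)) (fibClass_fibRep 𝒱 q))
    exact ⟨(fibRep 𝒱 q).1, eqToIso hobj, IsHomLift.eqToHom_codomain_lift_id hobj rfl⟩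
  obtain ⟨e, he, -⟩ := exists_inverse hE
  exact ⟨P, e, he⟩

section Along

variable {𝒳 : BasedCategory.{v₂, u₂} C} {𝒴 : BasedCategory.{v₃, u₃} C} {𝒵 : BasedCategory.{v₄, u₄} C}

/-- `a : H ⟶ G` represents the base change of `f` along `u : G ⟶ 𝒴`. -/
def Along (u : Stk.ofPsh G ⥤ᵇ 𝒴) (f : 𝒳 ⥤ᵇ 𝒴) (a : H ⟶ G) : Prop := PRep (fpFst u f) a

lemma Along.unique {u : Stk.ofPsh G ⥤ᵇ 𝒴} {f : 𝒳 ⥤ᵇ 𝒴} {a : H ⟶ G} {a' : H' ⟶ G} (h : Along u f a)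
    (h' : Along u f a') : ∃ i : H ≅ H', i.hom ≫ a' = a :=
  PRep.unique h h'

lemma Along.of_iso {u : Stk.ofPsh G ⥤ᵇ 𝒴} {f : 𝒳 ⥤ᵇ 𝒴} {a : H ⟶ G} (h : Along u f a) (i : H' ≅ H) :
    Along u f (i.hom ≫ a) :=
  PRep.of_iso h i

lemma Along.congr {u u' : Stk.ofPsh G ⥤ᵇ 𝒴} {f f' : 𝒳 ⥤ᵇ 𝒴} {a : H ⟶ G} (h : Along u f a)
    (α : u ≅ u') (β : f ≅ f') : Along u' f' a := by
  haveI : (BasedFunctor.id 𝒴).toFunctor.Full := inferInstanceAs (𝟭 _).Full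
  haveI : (BasedFunctor.id 𝒴).toFunctor.Faithful := inferInstanceAs (𝟭 _).Faithful
  exact PRep.transport h
    (isEquivOver_fpMap (a := BasedFunctor.id _) (b := BasedFunctor.id _) (c := BasedFunctor.id _)
      (F := u') (G := f') (F' := u) (G' := f) α.symm β.symm (isEquivOver_id _) (isEquivOver_id _))
    (Iso.refl _)

/-- Base change along a map of presheaves. -/
lemma Along.of_isPullback {u : Stk.ofPsh G ⥤ᵇ 𝒴} {f : 𝒳 ⥤ᵇ 𝒴} {a : H ⟶ G} (h : Along u f a)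
    {b : G' ⟶ G} {a' : K ⟶ G'} {b' : K ⟶ H} (sq : IsPullback b' a' a b) :
    Along (BasedFunctor.comp (Stk.ofPshMap b) u) f a' :=
  PRep.transport (PRep.fpFst_of_isPullback h sq) (isEquivOver_fpPaste (Stk.ofPshMap b) u f) (Iso.refl _)

/-- Base change of the base change. -/
lemma Along.fpFst {u : Stk.ofPsh G ⥤ᵇ 𝒵} {g : 𝒵 ⥤ᵇ 𝒴} {f : 𝒳 ⥤ᵇ 𝒴} {a : H ⟶ G}
    (h : Along (BasedFunctor.comp u g) f a) : Along u (FibCat.fpFst g f) a := by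
  obtain ⟨E, hE, -, ⟨β⟩⟩ := exists_inverse (isEquivOver_fpPaste u g f)
  refine PRep.transport h hE ?_
  exact whiskerRightIso' β (FibCat.fpFst (BasedFunctor.comp u g) f)

lemma Along.of_fpFst {u : Stk.ofPsh G ⥤ᵇ 𝒵} {g : 𝒵 ⥤ᵇ 𝒴} {f : 𝒳 ⥤ᵇ 𝒴} {a : H ⟶ G}
    (h : Along u (FibCat.fpFst g f) a) : Along (BasedFunctor.comp u g) f a :=
  PRep.transport h (isEquivOver_fpPaste u g f) (Iso.refl _)

/-- Composition. -/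
lemma Along.comp {u : Stk.ofPsh G ⥤ᵇ 𝒵} {g : 𝒴 ⥤ᵇ 𝒵} {f : 𝒳 ⥤ᵇ 𝒴} {a : H ⟶ G} (h : Along u g a) :
    ∃ v : Stk.ofPsh H ⥤ᵇ 𝒴, ∀ {K : Cᵒᵖ ⥤ Type w} (b : K ⟶ H), Along v f b →
      Along u (BasedFunctor.comp f g) (b ≫ a) := by
  obtain ⟨e, he, ⟨β⟩⟩ := h
  refine ⟨BasedFunctor.comp e (fpSnd u g), fun {K} b hb => ?_⟩
  haveI : (BasedFunctor.id 𝒴).toFunctor.Full := inferInstanceAs (𝟭 _).Full
  haveI : (BasedFunctor.id 𝒴).toFunctor.Faithful := inferInstanceAs (𝟭 _).Faithful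
  have hE : IsEquivOver (fpMap (a := e) (b := BasedFunctor.id 𝒳) (c := BasedFunctor.id 𝒴)
      (F := fpSnd u g) (G := f) (F' := BasedFunctor.comp e (fpSnd u g)) (G' := f)
      (Iso.refl _) (Iso.refl _)) := isEquivOver_fpMap _ _ he (isEquivOver_id _)
  refine PRep.transport (PRep.postcomp hb a) (isEquivOver_comp hE (isEquivOver_fpCompRight u f g)) ?_
  exact whiskerLeftIso' (FibCat.fpFst (BasedFunctor.comp e (fpSnd u g)) f) β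

/-- Being pullbacks of presheaves. -/
lemma along_ofPshMap {b : G' ⟶ G} {a : H ⟶ G} {a' : K ⟶ G'} {b' : K ⟶ H} (sq : IsPullback b' a' a b) :
    Along (Stk.ofPshMap b) (Stk.ofPshMap a) a' :=
  PRep.fpFst_of_isPullback (pRep_self a) sq

lemma isPullback_of_along {b : G' ⟶ G} {a : H ⟶ G} {a' : K ⟶ G'}
    (h : Along (Stk.ofPshMap b) (Stk.ofPshMap a) a') : ∃ b' : K ⟶ H, IsPullback b' a' a b := by
  obtain ⟨i, hi⟩ := h.unique (along_ofPshMap (IsPullback.of_hasPullback a b))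
  exact ⟨i.hom ≫ pullback.fst a b, (IsPullback.of_hasPullback a b).of_iso i.symm (Iso.refl _) (Iso.refl _)
    (Iso.refl _) (by simp) (by simp [← hi]) (by simp) (by simp)⟩

end Along

end AlgStLib
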