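import Groth.Agent.AlgStLib.Rows3
import Groth.Agent.AlgStLib.Stack

/-!
# Algebraic stacks: stack property, atlases, fibre products
-/

set_option autoImplicit false
set_option backward.isDefEq.respectTransparency false
set_option backward.isDefEq.respectTransparency.types false

universe u

open CategoryTheory CategoryTheory.Limits AlgebraicGeometry Opposite AlgSp FibCat FibLib AlgSpLib

namespace AlgStLib

variable {S : Scheme.{u}} {𝒳 𝒴 𝒵 𝒲 : AlgSt.Cat S} {K : Precoverage Scheme.{u}}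

section StackProperty

theorem isStack_ofSp (F : Sp S) : Stk.IsStack (AlgSp.J S) (AlgSt.ofSp F) :=
  isStack_ofPsh_iff.mpr ((isSheaf_iff_isSheaf_of_type _ _).mp F.property)

theorem isStack_of_repByAlgSp (h : AlgSt.RepByAlgSp 𝒳) : Stk.IsStack (AlgSp.J S) 𝒳 := by
  obtain ⟨F, e, he⟩ := h
  exact (isStack_iff_of_isEquivOver he).mp (isStack_ofSp F.obj)

/-- A category over a stack that is representable by algebraic spaces over it is a stack. -/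
theorem isStack_of_repByAlgSp1 [IsFibGrpd 𝒳.p] (h𝒴 : Stk.IsStack (AlgSp.J S) 𝒴) {j : 𝒳 ⥤ᵇ 𝒴}
    (hj : AlgSt.RepByAlgSp1 j) : Stk.IsStack (AlgSp.J S) 𝒳 :=
  isStack_of_fp_over h𝒴 fun U y => isStack_of_repByAlgSp (hj U y)

theorem isStack_fp_of_repByAlgSp1 [IsFibGrpd 𝒳.p] [IsFibGrpd 𝒵.p] (h𝒴 : Stk.IsStack (AlgSp.J S) 𝒴)
    (f : 𝒳 ⥤ᵇ 𝒵) (g : 𝒴 ⥤ᵇ 𝒵) (hf : AlgSt.RepByAlgSp1 f) : Stk.IsStack (AlgSp.J S) (fp f g) := by
  haveI := h𝒴.1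
  haveI : IsFibGrpd (fp f g).p := isFibGrpd_fp
  exact isStack_of_repByAlgSp1 h𝒴
    (repByAlgSp1_of_with (repByAlgSpWith_fpSnd g ((repByAlgSp1_iff_with_top f).mp hf)))

end StackProperty

section Classes

lemma good_smooth : Good (LocP @Smooth : MorphismProperty (Sp S)) := good_locP _

lemma good_isEtaleMor : Good (IsEtaleMor : MorphismProperty (Sp S)) :=
  ⟨fun _ _ _ _ hX hY _ hY' _ _ _ _ sq h => isEtaleMor_of_isPullback hX hY hY' sq h,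
    fun _ _ _ _ _ _ _ _ ha hb => isEtaleMor_comp hb ha, schTest_of_etale (isLocalOnBase_isEtaleMor S)⟩

end Classes

section Atlas

variable {P : MorphismProperty (Sp S)}

/-- The covering of a space by its atlas, as a functor. -/
lemma exists_space_chart (hW : AlgSt.RepByAlgSp 𝒲) (hPb : StableBC P)
    (het : ∀ ⦃F G : Sp S⦄ (f : F ⟶ G), IsEtaleMor f → P f) :
    ∃ (U : Over S) (c : overCat U ⥤ᵇ 𝒲),
      AlgSt.RepByAlgSpWith P c ∧ AlgSt.RepByAlgSpWith IsSurjectiveMor c := by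
  obtain ⟨F, e, he⟩ := hW
  obtain ⟨U, p, hp, hps⟩ := F.property.atlas
  refine ⟨U, BasedFunctor.comp (BasedFunctor.comp (AlgSt.ofOverCat U) (AlgSt.ofSpMap p)) e, ?_⟩
  have key : ∀ {Q : MorphismProperty (Sp S)}, StableBC Q → Q p → AlgSt.RepByAlgSpWith Q
      (BasedFunctor.comp (BasedFunctor.comp (AlgSt.ofOverCat U) (AlgSt.ofSpMap p)) e) := fun {Q} hQ hQp => by
    refine (repByAlgSpWith_square_iff (f' := AlgSt.ofSpMap p) (a := AlgSt.toOverCat U) (b := e)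
      (isEquivOver_toOverCat U) he (Iso.refl _) Q).mpr ?_
    exact repByAlgSpWith_ofSpMap (IsAlgSpace.yon_obj U) F.property p fun V ξ =>
      hQ (IsAlgSpace.yon_obj U) F.property
        (isAlgSpace_pullback (IsAlgSpace.yon_obj U) (IsAlgSpace.yon_obj V) F.property p ξ)
        (IsAlgSpace.yon_obj V) p ξ _ _ (IsPullback.of_hasPullback p ξ) hQp
  exact ⟨key hPb (het p (isEtaleMor_of_repWith hp)),
    key good_surjective.bc (map_surjective_of_repWith hps)⟩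

lemma isFibGrpd_of_space (hW : AlgSt.RepByAlgSp 𝒲) : IsFibGrpd 𝒲.p := isFibGrpd_of_repByAlgSp hW

/-- A space mapping onto `𝒳` gives an atlas. -/
theorem hasAtlas_of_space [IsFibGrpd 𝒳.p] (hP : Good P) (het : ∀ ⦃F G : Sp S⦄ (f : F ⟶ G), IsEtaleMor f → P f)
    (hW : AlgSt.RepByAlgSp 𝒲) (w : 𝒲 ⥤ᵇ 𝒳) (hw : AlgSt.RepByAlgSpWith P w)
    (hs : AlgSt.RepByAlgSpWith IsSurjectiveMor w) : AlgSt.HasAtlas P 𝒳 := by
  haveI := isFibGrpd_of_repByAlgSp hW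
  obtain ⟨U, c, hc, hcs⟩ := exists_space_chart hW hP.bc het
  haveI := isFibGrpd_overCat U
  exact ⟨U, BasedFunctor.comp c w, repByAlgSpWith_comp' hP hc hw,
    repByAlgSpWith_comp' good_surjective hcs hs⟩

/-- Atlases pull back along functors representable by algebraic spaces. -/
theorem hasAtlas_of_repByAlgSp1 [IsFibGrpd 𝒳.p] (hP : Good P)
    (het : ∀ ⦃F G : Sp S⦄ (f : F ⟶ G), IsEtaleMor f → P f) {j : 𝒳 ⥤ᵇ 𝒴} (hj : AlgSt.RepByAlgSp1 j)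
    (h : AlgSt.HasAtlas P 𝒴) : AlgSt.HasAtlas P 𝒳 := by
  obtain ⟨U, y, hy, hys⟩ := h
  exact hasAtlas_of_space hP het (hj U y) (FibCat.fpSnd y j) (repByAlgSpWith_fpSnd j hy)
    (repByAlgSpWith_fpSnd j hys)

end Atlas

section Diagonal

lemma repByAlgSp1_diag_congr {f f' : 𝒳 ⥤ᵇ 𝒴} (α : f ≅ f') (h : AlgSt.RepByAlgSp1 (diag f')) :
    AlgSt.RepByAlgSp1 (diag f) :=
  repByAlgSp1_of_with (repByAlgSpWith_diag_congr α ((repByAlgSp1_iff_with_top _).mp h))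

lemma repByAlgSp1_diag_comp [IsFibGrpd 𝒳.p] [IsFibGrpd 𝒴.p] [IsFibGrpd 𝒵.p] {f : 𝒳 ⥤ᵇ 𝒴} {g : 𝒴 ⥤ᵇ 𝒵}
    (hf : AlgSt.RepByAlgSp1 (diag f)) (hg : AlgSt.RepByAlgSp1 (diag g)) :
    AlgSt.RepByAlgSp1 (diag (BasedFunctor.comp f g)) :=
  repByAlgSp1_of_with (repByAlgSpWith_diag_comp good_top ((repByAlgSp1_iff_with_top _).mp hf)
    ((repByAlgSp1_iff_with_top _).mp hg))

/-- A functor between categories with representable diagonals has a representable diagonal. -/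
theorem repByAlgSp1_diag_of_diag (h𝒳 : AlgSt.RepByAlgSp1 (diag (toSelf 𝒳)))
    (h𝒴 : AlgSt.RepByAlgSp1 (diag (toSelf 𝒴))) (f : 𝒳 ⥤ᵇ 𝒴) : AlgSt.RepByAlgSp1 (diag f) := by
  have h2 : AlgSt.RepByAlgSp1 (diag (BasedFunctor.comp f (toSelf 𝒴))) :=
    repByAlgSp1_diag_congr (compToSelfIso f) h𝒳
  refine repByAlgSp1_of_comp (G := fpPush f f (toSelf 𝒴)) ?_ (repByAlgSp1_fpPush f f _ h𝒴)
  exact repByAlgSp1_of_with (repByAlgSpWith_congr (diagCompIso f (toSelf 𝒴))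
    ((repByAlgSp1_iff_with_top _).mp h2))

lemma repByAlgSp1_diag_toSelf_of_rep [IsFibGrpd 𝒳.p] [IsFibGrpd 𝒴.p] {j : 𝒳 ⥤ᵇ 𝒴} (hj : AlgSt.RepByAlgSp1 j)
    (h : AlgSt.RepByAlgSp1 (diag (toSelf 𝒴))) : AlgSt.RepByAlgSp1 (diag (toSelf 𝒳)) := by
  have hd : AlgSt.RepByAlgSp1 (diag j) :=
    repByAlgSp1_of_with (repByAlgSpWith_diag_of_rep1 good_top.bc hj fun _ _ _ _ => trivial)
  exact repByAlgSp1_diag_congr (compToSelfIso j).symm (repByAlgSp1_diag_comp hd h)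

lemma repByAlgSp1_diag_toSelf_fp [IsFibGrpd 𝒳.p] [IsFibGrpd 𝒴.p] [IsFibGrpd 𝒵.p] (f : 𝒳 ⥤ᵇ 𝒵) (g : 𝒴 ⥤ᵇ 𝒵)
    (h𝒳 : AlgSt.RepByAlgSp1 (diag (toSelf 𝒳))) (h𝒴 : AlgSt.RepByAlgSp1 (diag (toSelf 𝒴)))
    (h𝒵 : AlgSt.RepByAlgSp1 (diag (toSelf 𝒵))) : AlgSt.RepByAlgSp1 (diag (toSelf (fp f g))) := by
  haveI : IsFibGrpd (fp f g).p := isFibGrpd_fp
  have hg := repByAlgSp1_diag_of_diag h𝒴 h𝒵 g
  have hd : AlgSt.RepByAlgSp1 (diag (FibCat.fpFst f g)) :=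
    repByAlgSp1_of_with (repByAlgSpWith_diag_fpFst g f ((repByAlgSp1_iff_with_top _).mp hg))
  exact repByAlgSp1_diag_congr (compToSelfIso (FibCat.fpFst f g)).symm (repByAlgSp1_diag_comp hd h𝒳)

end Diagonal

section AlgebraicStacks

theorem isAlgStack_of_rep [IsFibGrpd 𝒳.p] (hst : Stk.IsStack (QuotSh.J K S) 𝒳)
    (h𝒴 : AlgSt.IsAlgStack K 𝒴) {j : 𝒳 ⥤ᵇ 𝒴} (hj : AlgSt.RepByAlgSp1 j) : AlgSt.IsAlgStack K 𝒳 := by
  haveI := h𝒴.isStack.1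
  exact ⟨hst, repByAlgSp1_diag_toSelf_of_rep hj h𝒴.diag,
    hasAtlas_of_repByAlgSp1 good_smooth (fun _ _ _ h => locP_smooth_of_isEtaleMor h) hj h𝒴.atlas⟩

theorem isDM_of_rep [IsFibGrpd 𝒳.p] (hst : Stk.IsStack (QuotSh.J K S) 𝒳)
    (h𝒴 : AlgSt.IsDM K 𝒴) {j : 𝒳 ⥤ᵇ 𝒴} (hj : AlgSt.RepByAlgSp1 j) : AlgSt.IsDM K 𝒳 :=
  ⟨isAlgStack_of_rep hst h𝒴.1 hj, hasAtlas_of_repByAlgSp1 good_isEtaleMor (fun _ _ _ h => h) hj h𝒴.2⟩

lemma repByAlgSp1_of_isEquivOver [IsFibGrpd 𝒳.p] [IsFibGrpd 𝒴.p] {e : 𝒳 ⥤ᵇ 𝒴} (he : IsEquivOver e) :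
    AlgSt.RepByAlgSp1 e := fun U y =>
  RepByAlgSp.of_equivTo ((equivTo_fp_right he y (BasedFunctor.id 𝒴)).trans
    (EquivTo.symm ⟨_, isEquivOver_fpGraph y⟩)) (repByAlgSp_overCat U)

theorem isAlgStack_of_equiv {e : 𝒳 ⥤ᵇ 𝒴} (he : IsEquivOver e) (h : AlgSt.IsAlgStack K 𝒴) :
    AlgSt.IsAlgStack K 𝒳 := by
  haveI := h.isStack.1
  have hst := (isStack_iff_of_isEquivOver he).mpr h.isStack
  haveI := hst.1
  exact isAlgStack_of_rep hst h (repByAlgSp1_of_isEquivOver he)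

theorem isDM_of_equiv {e : 𝒳 ⥤ᵇ 𝒴} (he : IsEquivOver e) (h : AlgSt.IsDM K 𝒴) : AlgSt.IsDM K 𝒳 := by
  haveI := h.1.isStack.1
  have hst := (isStack_iff_of_isEquivOver he).mpr h.1.isStack
  haveI := hst.1
  exact isDM_of_rep hst h (repByAlgSp1_of_isEquivOver he)

theorem isAlgStack_iff_of_isEquivOver {e : 𝒳 ⥤ᵇ 𝒴} (he : IsEquivOver e) :
    AlgSt.IsAlgStack K 𝒳 ↔ AlgSt.IsAlgStack K 𝒴 := by
  obtain ⟨G, hG⟩ := isEquivOver_symm he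
  exact ⟨isAlgStack_of_equiv hG, isAlgStack_of_equiv he⟩

theorem isDM_iff_of_isEquivOver {e : 𝒳 ⥤ᵇ 𝒴} (he : IsEquivOver e) :
    AlgSt.IsDM K 𝒳 ↔ AlgSt.IsDM K 𝒴 := by
  obtain ⟨G, hG⟩ := isEquivOver_symm he
  exact ⟨isDM_of_equiv hG, isDM_of_equiv he⟩

lemma repByAlgSp1_diag_toSelf_of_space (h : AlgSt.RepByAlgSp 𝒳) : AlgSt.RepByAlgSp1 (diag (toSelf 𝒳)) := by
  haveI := isFibGrpd_of_repByAlgSp h
  haveI : IsFibGrpd (selfOver (Over S)).p := inferInstance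
  exact repByAlgSp1_of_repByAlgSp h
    (repByAlgSp_fp _ (repByAlgSp1_of_repByAlgSp h repByAlgSp_selfOver _) h) _

/-- An algebraic space is a Deligne-Mumford stack. -/
theorem isDM_of_repByAlgSp (h : AlgSt.RepByAlgSp 𝒳) (hst : Stk.IsStack (QuotSh.J K S) 𝒳) :
    AlgSt.IsDM K 𝒳 := by
  haveI := hst.1
  obtain ⟨U, c, hc, hcs⟩ := exists_space_chart h good_isEtaleMor.bc (fun _ _ _ hh => hh)
  obtain ⟨U', c', hc', hcs'⟩ := exists_space_chart h good_smooth.bc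
    (fun _ _ _ hh => locP_smooth_of_isEtaleMor hh)
  exact ⟨⟨hst, repByAlgSp1_diag_toSelf_of_space h, U', c', hc', hcs'⟩, U, c, hc, hcs⟩

theorem hasAtlas_fp [IsFibGrpd 𝒳.p] [IsFibGrpd 𝒴.p] [IsFibGrpd 𝒵.p] {P : MorphismProperty (Sp S)}
    (hP : Good P) (het : ∀ ⦃F G : Sp S⦄ (f : F ⟶ G), IsEtaleMor f → P f)
    (hΔ : AlgSt.RepByAlgSp1 (diag (toSelf 𝒵)))
    (h𝒳 : AlgSt.HasAtlas P 𝒳) (h𝒴 : AlgSt.HasAtlas P 𝒴) (f : 𝒳 ⥤ᵇ 𝒵) (g : 𝒴 ⥤ᵇ 𝒵) :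
    AlgSt.HasAtlas P (fp f g) := by
  obtain ⟨U, x, hx, hxs⟩ := h𝒳
  obtain ⟨V, y, hy, hys⟩ := h𝒴
  haveI := isFibGrpd_overCat U
  haveI := isFibGrpd_overCat V
  haveI : IsFibGrpd (fp f g).p := isFibGrpd_fp
  have hW : AlgSt.RepByAlgSp (fp (BasedFunctor.comp x f) (BasedFunctor.comp y g)) :=
    repByAlgSp1_diag_iff.mp hΔ V (BasedFunctor.comp y g) U (BasedFunctor.comp x f)
  exact hasAtlas_of_space hP het hW (pairBoth x y f g) (repByAlgSpWith_pairBoth x y f g hP hx hy)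
    (repByAlgSpWith_pairBoth x y f g good_surjective hxs hys)

theorem isAlgStack_fp (h𝒵 : Stk.IsPrestack (QuotSh.J K S) 𝒵) (hΔ : AlgSt.RepByAlgSp1 (diag (toSelf 𝒵)))
    (h𝒳 : AlgSt.IsAlgStack K 𝒳) (h𝒴 : AlgSt.IsAlgStack K 𝒴) (f : 𝒳 ⥤ᵇ 𝒵) (g : 𝒴 ⥤ᵇ 𝒵) :
    AlgSt.IsAlgStack K (fp f g) := by
  haveI := h𝒳.isStack.1
  haveI := h𝒴.isStack.1
  haveI := h𝒵.1
  exact ⟨isStack_fp h𝒳.isStack h𝒴.isStack h𝒵, repByAlgSp1_diag_toSelf_fp f g h𝒳.diag h𝒴.diag hΔ,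
    hasAtlas_fp good_smooth (fun _ _ _ h => locP_smooth_of_isEtaleMor h) hΔ h𝒳.atlas h𝒴.atlas f g⟩

theorem isDM_fp (h𝒵 : Stk.IsPrestack (QuotSh.J K S) 𝒵) (hΔ : AlgSt.RepByAlgSp1 (diag (toSelf 𝒵)))
    (h𝒳 : AlgSt.IsDM K 𝒳) (h𝒴 : AlgSt.IsDM K 𝒴) (f : 𝒳 ⥤ᵇ 𝒵) (g : 𝒴 ⥤ᵇ 𝒵) :
    AlgSt.IsDM K (fp f g) := by
  haveI := h𝒳.1.isStack.1
  haveI := h𝒴.1.isStack.1
  haveI := h𝒵.1
  exact ⟨isAlgStack_fp h𝒵 hΔ h𝒳.1 h𝒴.1 f g,
    hasAtlas_fp good_isEtaleMor (fun _ _ _ h => h) hΔ h𝒳.2 h𝒴.2 f g⟩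

/-- An atlas over an atlas. -/
theorem exists_chart_over (h𝒳 : AlgSt.IsAlgStack K 𝒳) (h𝒴 : AlgSt.IsAlgStack K 𝒴) (f : 𝒳 ⥤ᵇ 𝒴) (V : Over S)
    (y : overCat V ⥤ᵇ 𝒴) (hy : AlgSt.RepByAlgSpWith (LocP @Smooth) y)
    (hys : AlgSt.RepByAlgSpWith IsSurjectiveMor y) :
    ∃ (U : Over S) (a : U ⟶ V) (x : overCat U ⥤ᵇ 𝒳),
      AlgSt.RepByAlgSpWith (LocP @Smooth) x ∧ AlgSt.RepByAlgSpWith IsSurjectiveMor x ∧
        Nonempty (BasedFunctor.comp x f ≅ BasedFunctor.comp (AlgSt.overMap a) y) := by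
  haveI := h𝒳.isStack.1
  haveI := h𝒴.isStack.1
  haveI := isFibGrpd_overCat V
  obtain ⟨U₀, x₀, hx, hxs⟩ := h𝒳.atlas
  haveI := isFibGrpd_overCat U₀
  haveI : IsFibGrpd (fp f y).p := isFibGrpd_fp
  have hW : AlgSt.RepByAlgSp (fp (BasedFunctor.comp x₀ f) y) := repByAlgSp1_of_with hy U₀ _
  haveI := isFibGrpd_of_repByAlgSp hW
  obtain ⟨U, c, hc, hcs⟩ := exists_space_chart hW good_smooth.bc (fun _ _ _ h => locP_smooth_of_isEtaleMor h)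
  haveI := isFibGrpd_overCat U
  let w : fp (BasedFunctor.comp x₀ f) y ⥤ᵇ 𝒳 := BasedFunctor.comp (pairLeft x₀ f y) (FibCat.fpFst f y)
  have hw : ∀ {P : MorphismProperty (Sp S)}, Good P → AlgSt.RepByAlgSpWith P x₀ → AlgSt.RepByAlgSpWith P y →
      AlgSt.RepByAlgSpWith P w := fun hP h₀ h₁ =>
    repByAlgSpWith_comp' hP (repByAlgSpWith_pairLeft x₀ f y h₀) (repByAlgSpWith_fpFst _ f h₁)
  let k := BasedFunctor.comp c (FibCat.fpSnd (BasedFunctor.comp x₀ f) y)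
  obtain ⟨a, ⟨α⟩⟩ := exists_iso_overMap k
  refine ⟨U, a, BasedFunctor.comp c w, repByAlgSpWith_comp' good_smooth hc (hw good_smooth hx hy),
    repByAlgSpWith_comp' good_surjective hcs (hw good_surjective hxs hys), ⟨?_⟩⟩
  exact whiskerLeftIso' c (fpIso (BasedFunctor.comp x₀ f) y) ≪≫ whiskerRightIso' α y

end AlgebraicStacks

end AlgStLib
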