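import Mathlib.AlgebraicGeometry.Morphisms.FormallyUnramified
import Mathlib.AlgebraicGeometry.Morphisms.QuasiFinite
import Mathlib.RingTheory.Kaehler.TensorProduct
import Groth.Agent.AlgSpLib.LocP
import Groth.Agent.AlgSpLib.Iso
import Groth.Agent.AlgSpLib.LocalST

/-!
# Properties detected on the base change of a morphism along itself
-/

set_option autoImplicit false
set_option backward.isDefEq.respectTransparency false
set_option backward.isDefEq.respectTransparency.types false

universe u

open CategoryTheory CategoryTheory.Limits AlgebraicGeometry AlgSp AlgSpLib TensorProduct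

noncomputable section

namespace AlgStLib

theorem formallyUnramified_of_self_baseChange {R S A : Type u} [CommRing R] [CommRing S] [CommRing A]
    [Algebra R S] [Algebra R A] (e : S ≃ₐ[R] A) [Algebra.FormallyUnramified S (S ⊗[R] A)] :
    Algebra.FormallyUnramified R A := by
  letI : Algebra A (S ⊗[R] A) := Algebra.TensorProduct.rightAlgebra
  haveI : Algebra.IsPushout R S A (S ⊗[R] A) := inferInstance
  have h : Subsingleton (S ⊗[R] Ω[A⁄R]) :=
    (KaehlerDifferential.tensorKaehlerEquivBase R S A (S ⊗[R] A)).toEquiv.subsingleton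
  refine ⟨?_⟩
  let μ : S ⊗[R] Ω[A⁄R] →ₗ[R] Ω[A⁄R] :=
    TensorProduct.lift ((LinearMap.lsmul A Ω[A⁄R]).restrictScalars₁₂ R R ∘ₗ e.toLinearMap)
  have hμ : ∀ ω, μ (1 ⊗ₜ ω) = ω := fun ω => by simp [μ]
  exact ⟨fun a b => by rw [← hμ a, ← hμ b, h.elim (1 ⊗ₜ a) (1 ⊗ₜ b)]⟩

theorem quasiFinite_of_self_baseChange (R A : Type u) [CommRing R] [CommRing A] [Algebra R A]
    [Algebra.QuasiFinite A (A ⊗[R] A)] : Algebra.QuasiFinite R A := by
  refine ⟨fun P hP => ?_⟩
  by_cases h : ∃ q : PrimeSpectrum A, PrimeSpectrum.comap (algebraMap R A) q = ⟨P, hP⟩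
  · obtain ⟨q, hq⟩ := h
    let T := q.asIdeal.ResidueField
    letI : Algebra P.ResidueField T :=
      (Ideal.ResidueField.map P q.asIdeal (algebraMap R A) (congrArg PrimeSpectrum.asIdeal hq).symm).toAlgebra
    haveI : IsScalarTower R P.ResidueField T := .of_algebraMap_eq fun r => by
      rw [RingHom.algebraMap_toAlgebra, Ideal.ResidueField.map_algebraMap]
      exact IsScalarTower.algebraMap_apply R A T r
    haveI : Algebra.QuasiFinite T (T ⊗[A] (A ⊗[R] A)) := inferInstance
    haveI : Algebra.QuasiFinite T (T ⊗[R] A) :=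
      (Algebra.QuasiFinite.iff_of_algEquiv (Algebra.TensorProduct.cancelBaseChange R A T T A)).1 inferInstance
    haveI : Module.Finite T (T ⊗[R] A) := .of_quasiFinite
    haveI : Module.Finite T (T ⊗[P.ResidueField] (P.Fiber A)) :=
      Module.Finite.equiv (Algebra.TensorProduct.cancelBaseChange R P.ResidueField T T A).symm.toLinearEquiv
    haveI : Module.Free P.ResidueField T := Module.Free.of_divisionRing _ _
    haveI : Nontrivial T := inferInstance
    haveI : Module.FaithfullyFlat P.ResidueField T :=
      Module.FaithfullyFlat.of_linearEquiv _ _ (Module.Free.chooseBasis P.ResidueField T).repr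
    exact Module.Finite.of_finite_tensorProduct_of_faithfullyFlat T
  · haveI : IsEmpty (PrimeSpectrum (P.Fiber A)) :=
      ⟨fun y => h ⟨_, ((PrimeSpectrum.preimageEquivFiber R A ⟨P, hP⟩).symm y).2⟩⟩
    haveI : Subsingleton (P.Fiber A) := PrimeSpectrum.isEmpty_iff_subsingleton.1 inferInstance
    exact inferInstance

section Scheme

variable {P : MorphismProperty Scheme.{u}}

/-- A property of affine maps detected on the self base change is detected so for all maps. -/
theorem of_self_baseChange [IsZariskiLocalAtSource P] [IsZariskiLocalAtTarget P] [P.IsStableUnderBaseChange]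
    (aff : ∀ {A R : CommRingCat.{u}} (φ : R ⟶ A), P (pullback.fst (Spec.map φ) (Spec.map φ)) → P (Spec.map φ))
    {X Y : Scheme.{u}} (a : X ⟶ Y) (h : P (pullback.fst a a)) : P a := by
  have key : ∀ {W V : Scheme.{u}} (k : W ⟶ X) (c : V ⟶ Y) (w : W ⟶ V) [IsOpenImmersion k] [IsOpenImmersion c],
      w ≫ c = k ≫ a → P (pullback.fst w w) := by
    intro W V k c w _ _ e
    have h1 : P (pullback.fst (k ≫ a) a) :=
      MorphismProperty.of_isPullback (IsPullback.of_right
        (h₁₁ := pullback.map (k ≫ a) a a a k (𝟙 _) (𝟙 _) (by simp) (by simp))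
        (by rw [pullback.lift_snd, Category.comp_id]; exact (IsPullback.of_hasPullback (k ≫ a) a).flip)
        (pullback.lift_fst _ _ _) (IsPullback.of_hasPullback a a).flip) h
    let j : pullback w w ⟶ pullback (k ≫ a) a := pullback.lift (pullback.fst w w) (pullback.snd w w ≫ k)
      (by rw [← e, Category.assoc, ← e, ← Category.assoc, ← Category.assoc, pullback.condition])
    have sq : IsPullback j (pullback.snd w w) (pullback.snd (k ≫ a) a) k := by
      refine IsPullback.of_right (h₁₂ := pullback.fst (k ≫ a) a) (v₁₃ := k ≫ a) (h₂₂ := a) ?_ (by simp [j])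
        (IsPullback.of_hasPullback (k ≫ a) a)
      have : IsPullback (pullback.fst w w) (pullback.snd w w) (w ≫ c) (w ≫ c) :=
        ⟨⟨by rw [← Category.assoc, pullback.condition, Category.assoc]⟩, ⟨PullbackCone.IsLimit.mk _
          (fun s => pullback.lift s.fst s.snd (by rw [← cancel_mono c, Category.assoc, Category.assoc]; exact s.condition))
          (fun s => pullback.lift_fst _ _ _) (fun s => pullback.lift_snd _ _ _)
          (fun s m hm₁ hm₂ => pullback.hom_ext (by simpa using hm₁) (by simpa using hm₂))⟩⟩
      simpa [j, e] using this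
    haveI : IsOpenImmersion j := MorphismProperty.of_isPullback (P := @IsOpenImmersion) sq.flip ‹_›
    have e' : pullback.fst w w = j ≫ pullback.fst (k ≫ a) a := by simp [j]
    rw [e']
    exact IsZariskiLocalAtSource.comp h1 j
  rw [IsZariskiLocalAtTarget.iff_of_openCover (P := P) Y.affineCover]
  intro i
  change P (pullback.snd a (Y.affineCover.f i))
  rw [IsZariskiLocalAtSource.iff_of_openCover (P := P) (pullback a (Y.affineCover.f i)).affineCover]
  intro j
  obtain ⟨φ, hφ⟩ := Spec.map_surjective
    ((pullback a (Y.affineCover.f i)).affineCover.f j ≫ pullback.snd a (Y.affineCover.f i))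
  refine hφ ▸ ?_
  exact aff φ (key ((pullback a (Y.affineCover.f i)).affineCover.f j ≫ pullback.fst a _) (Y.affineCover.f i) _
    (by rw [hφ, Category.assoc, Category.assoc, pullback.condition]))

theorem formallyUnramified_of_self {X Y : Scheme.{u}} (a : X ⟶ Y) (h : FormallyUnramified (pullback.fst a a)) :
    FormallyUnramified a := by
  refine of_self_baseChange (P := @FormallyUnramified) (fun {A R} φ hh => ?_) a h
  algebraize [φ.hom]
  have h' : FormallyUnramified (Spec.map (CommRingCat.ofHom (algebraMap A (A ⊗[R] A)))) := by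
    rw [← pullbackSpecIso_inv_fst' R A A]
    exact MorphismProperty.RespectsIso.precomp @FormallyUnramified _ _ hh
  rw [HasRingHomProperty.Spec_iff (P := @FormallyUnramified)] at h' ⊢
  haveI : Algebra.FormallyUnramified A (A ⊗[R] A) := RingHom.formallyUnramified_algebraMap.1 h'
  exact RingHom.formallyUnramified_algebraMap.2 (formallyUnramified_of_self_baseChange (AlgEquiv.refl (R := R) (A₁ := A)))

theorem locallyQuasiFinite_of_self {X Y : Scheme.{u}} (a : X ⟶ Y) (h : LocallyQuasiFinite (pullback.fst a a)) :
    LocallyQuasiFinite a := by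
  refine of_self_baseChange (P := @LocallyQuasiFinite) (fun {A R} φ hh => ?_) a h
  algebraize [φ.hom]
  have h' : LocallyQuasiFinite (Spec.map (CommRingCat.ofHom (algebraMap A (A ⊗[R] A)))) := by
    rw [← pullbackSpecIso_inv_fst' R A A]
    exact MorphismProperty.RespectsIso.precomp @LocallyQuasiFinite _ _ hh
  rw [HasRingHomProperty.Spec_iff (P := @LocallyQuasiFinite)] at h' ⊢
  haveI : Algebra.QuasiFinite A (A ⊗[R] A) := RingHom.quasiFinite_algebraMap.1 h'
  exact RingHom.quasiFinite_algebraMap.2 (quasiFinite_of_self_baseChange R A)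

end Scheme

section Space

variable {S : Scheme.{u}} {Q : MorphismProperty Scheme.{u}}

/-- For algebraic spaces the same detection holds. -/
theorem locP_of_self_baseChange [EtLocProp Q] {R : MorphismProperty Scheme.{u}} {H U : Sp S} (hH : IsAlgSpace H)
    (hU : IsAlgSpace U) {a : H ⟶ U} (hR : LocP R a)
    (hd : ∀ {X Y : Scheme.{u}} (f : X ⟶ Y), R f → Q (pullback.fst f f) → Q f)
    (h : LocP Q (pullback.fst a a)) : LocP Q a := by
  intro U₀ V p b k hp hb e
  have hk : R k.left := hR p b k hp hb e
  have hU₀ := IsAlgSpace.yon_obj (S := S) U₀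
  have hV := IsAlgSpace.yon_obj (S := S) V
  let pa := p ≫ a
  let kk := (yon S).map k
  have hep : IsEtaleMor p := isEtaleMor_of_repWith hp
  have hT : IsAlgSpace (pullback pa b) := isAlgSpace_pullback hU₀ hV hU _ _
  -- the self base change of the chart composed to the target
  have h0 : LocP Q (pullback.fst pa a) := by
    refine locP_of_isPullback (isAlgSpace_pullback hH hH hU a a) hH hU₀
      (g := p) (fst := pullback.lift (pullback.fst pa a ≫ p) (pullback.snd pa a) (by simp [pa, pullback.condition])) ?_ h
    exact (IsPullback.of_right (h₁₂ := pullback.snd a a) (v₁₃ := a) (h₂₂ := a)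
      (by rw [pullback.lift_snd]; exact (IsPullback.of_hasPullback pa a).flip) (pullback.lift_fst _ _ _)
      (IsPullback.of_hasPullback a a).flip).flip.flip
  have h1 : LocP Q (pullback.fst pa pa) := by
    let m : pullback pa pa ⟶ pullback pa a := pullback.lift (pullback.fst pa pa) (pullback.snd pa pa ≫ p)
      (by simp [pa, pullback.condition])
    have hm : IsEtaleMor m := by
      refine isEtaleMor_of_isPullback hU₀ hH (isAlgSpace_pullback hU₀ hH hU pa a)
        (f := p) (g := pullback.snd pa a) (fst := pullback.snd pa pa) ?_ hep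
      exact IsPullback.of_bot (v₁₁ := m) (v₁₂ := p)
        (by rw [show m ≫ pullback.fst pa a = pullback.fst pa pa from pullback.lift_fst _ _ _]
            exact (IsPullback.of_hasPullback pa pa).flip) (pullback.lift_snd _ _ _).symm
        (IsPullback.of_hasPullback pa a).flip
    rw [show pullback.fst pa pa = m ≫ pullback.fst pa a from (pullback.lift_fst _ _ _).symm]
    exact locP_etale_comp hm h0
  -- the graph of the chart
  let s : (yon S).obj U₀ ⟶ pullback pa b := pullback.lift (𝟙 _) kk (by simpa [pa, kk] using e)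
  have hs : IsEtaleMor s := by
    refine isEtaleMor_cancel hT hU₀ (g := pullback.fst pa b)
      (isEtaleMor_of_isPullback hV hU hU₀ (IsPullback.of_hasPullback pa b).flip (isEtaleMor_of_repWith hb)) ?_
    rw [show s ≫ pullback.fst pa b = 𝟙 _ from pullback.lift_fst _ _ _]
    exact isEtaleMor_of_repWith (repWith_id _ _)
  let τ := pullback.snd pa b
  let L := pullback kk τ
  have hL' : IsPullback (pullback.fst kk τ) (pullback.snd kk τ ≫ pullback.fst pa b) pa pa := by
    have := (IsPullback.of_hasPullback kk τ).flip.paste_horiz (IsPullback.of_hasPullback pa b)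
    have e2 : kk ≫ b = pa := by simpa [pa, kk] using e.symm
    rw [e2] at this
    exact this.flip
  have hL : LocP Q (pullback.fst kk τ) := by
    rw [← hL'.isoPullback_hom_fst]
    exact locP_etale_comp (isEtaleMor_of_isIso' _) h1
  obtain ⟨W, r₁, r₂, sqW⟩ := exists_isPullback_yon kk kk (representable_yon_map k)
  let n : (yon S).obj W ⟶ L := pullback.lift ((yon S).map r₁) ((yon S).map r₂ ≫ s)
    (by rw [Category.assoc, show s ≫ τ = kk from pullback.lift_snd _ _ _]; exact sqW.w)
  have hn : IsEtaleMor n := by
    refine isEtaleMor_of_isPullback hU₀ hT (isAlgSpace_pullback hU₀ hT hV kk τ)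
      (f := s) (g := pullback.snd kk τ) (fst := (yon S).map r₂) ?_ hs
    exact IsPullback.of_bot (v₁₁ := n) (v₁₂ := s)
      (by rw [show s ≫ τ = kk from pullback.lift_snd _ _ _,
            show n ≫ pullback.fst kk τ = (yon S).map r₁ from pullback.lift_fst _ _ _]
          exact sqW.flip)
      (pullback.lift_snd _ _ _).symm (IsPullback.of_hasPullback kk τ).flip
  have hW : LocP Q ((yon S).map r₁) := by
    rw [show (yon S).map r₁ = n ≫ pullback.fst kk τ from (pullback.lift_fst _ _ _).symm]
    exact locP_etale_comp hn hL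
  have sq' : IsPullback r₁ r₂ k k := IsPullback.of_map (yon S) ((yon S).map_injective (by simpa using sqW.w)) sqW
  have sqL := sq'.map (Over.forget S)
  refine hd k.left hk ?_
  have hr : Q r₁.left := (locP_yon_map_iff r₁).1 hW
  haveI : Q.RespectsIso := EtLocProp.respectsIso
  change Q (pullback.fst ((Over.forget S).map k) ((Over.forget S).map k))
  rw [← sqL.isoPullback_inv_fst]
  exact MorphismProperty.RespectsIso.precomp Q _ _ hr

end Space

section Classes

variable {S : Scheme.{u}} {H U : Sp S} {a : H ⟶ U}

theorem locP_unramified_of_self (hH : IsAlgSpace H) (hU : IsAlgSpace U) (hl : LocP @LocallyOfFiniteType a)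
    (h : LocP (@LocallyOfFiniteType ⊓ @FormallyUnramified) (pullback.fst a a)) :
    LocP (@LocallyOfFiniteType ⊓ @FormallyUnramified) a :=
  locP_of_self_baseChange hH hU hl (fun f hf hq => ⟨hf, formallyUnramified_of_self f hq.2⟩) h

theorem locP_lqf_of_self (hH : IsAlgSpace H) (hU : IsAlgSpace U) (hl : LocP @LocallyOfFiniteType a)
    (h : LocP (@LocallyQuasiFinite ⊓ @LocallyOfFiniteType) (pullback.fst a a)) :
    LocP (@LocallyQuasiFinite ⊓ @LocallyOfFiniteType) a :=
  locP_of_self_baseChange hH hU hl (fun f hf hq => ⟨locallyQuasiFinite_of_self f hq.1, hf⟩) h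

end Classes

end AlgStLib
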