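import Groth.Agent.AlgStLib.Basic
import Groth.Agent.AlgSpLib.Sheaf
import Groth.Agent.AlgSpLib.LocP
import Groth.Prelude.Def_AlgSpCov

/-!
# Base change of representable functors along maps from algebraic spaces
-/

set_option autoImplicit false
set_option backward.isDefEq.respectTransparency false
set_option backward.isDefEq.respectTransparency.types false

universe w' v' w v u

open CategoryTheory CategoryTheory.Limits AlgebraicGeometry Opposite AlgSp FibCat FibLib AlgSpLib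

namespace AlgStLib

variable {S : Scheme.{u}}

lemma eqToHom_hom {P : (Over S)ᵒᵖ ⥤ Type (u + 1)} {a b : Stk.EltObj P} (h : a = b) :
    (eqToHom h).hom = eqToHom (congrArg Stk.EltObj.base h) := by
  subst h; rfl

/-- A presheaf over a sheaf whose pullbacks to representables are sheaves is a sheaf. -/
theorem isSheaf_of_forall_pullback {P : (Over S)ᵒᵖ ⥤ Type (u + 1)} {G : Sp S} (π : P ⟶ G.obj)
    (h : ∀ (T : Over S) (g : ((yon S).obj T).obj ⟶ G.obj), ∃ (K : Sp S) (k₁ : K.obj ⟶ P)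
      (k₂ : K.obj ⟶ ((yon S).obj T).obj), IsPullback k₁ k₂ π g) :
    Presheaf.IsSheaf (J S) P := by
  rw [isSheaf_iff_isSheaf_of_type]
  intro T R hR x hx
  have hG := ((isSheaf_iff_isSheaf_of_type _ _).1 G.property R hR)
  let y : Presieve.FamilyOfElements G.obj R.arrows := fun Z f hf => π.app _ (x f hf)
  have hy : y.Compatible := fun Z₁ Z₂ W g₁ g₂ f₁ f₂ h₁ h₂ e => by
    show G.obj.map g₁.op (π.app _ _) = G.obj.map g₂.op (π.app _ _)
    rw [← NatTrans.naturality_apply, ← NatTrans.naturality_apply, hx g₁ g₂ h₁ h₂ e]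
  obtain ⟨g, hg, hguniq⟩ := hG y hy
  let ĝ : ((yon S).obj T).obj ⟶ G.obj := ((J S).uliftYonedaEquiv.{u + 1}.symm g : (yon S).obj T ⟶ G).hom
  have hĝ : ∀ (Z : Over S) (f : Z ⟶ T), ĝ.app (op Z) ⟨f⟩ = G.obj.map f.op g := fun Z f => rfl
  obtain ⟨K, k₁, k₂, sq⟩ := h T ĝ
  have hb := fun Z => bijective_toPairs_of_isPullback sq Z
  have hz : ∀ ⦃Z : Over S⦄ (f : Z ⟶ T) (hf : R f), ∃ z : K.obj.obj (op Z), k₁.app _ z = x f hf ∧
      k₂.app _ z = ⟨f⟩ := fun Z f hf => by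
    obtain ⟨z, hz⟩ := (hb Z).2 ⟨(x f hf, ⟨f⟩), (hg f hf).symm.trans (hĝ Z f).symm⟩
    exact ⟨z, congrArg (fun t => t.1.1) hz, congrArg (fun t => t.1.2) hz⟩
  choose z hz₁ hz₂ using hz
  have inj : ∀ {Z : Over S} {c d : K.obj.obj (op Z)}, k₁.app _ c = k₁.app _ d →
      k₂.app _ c = k₂.app _ d → c = d := fun {Z c d} h1 h2 =>
    (hb Z).1 (Subtype.ext (Prod.ext h1 h2))
  have hzc : Presieve.FamilyOfElements.Compatible (R := R.arrows) (P := K.obj) z := by
    intro Z₁ Z₂ W g₁ g₂ f₁ f₂ h₁ h₂ e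
    apply inj
    · rw [NatTrans.naturality_apply, NatTrans.naturality_apply, hz₁, hz₁]
      exact hx g₁ g₂ h₁ h₂ e
    · rw [NatTrans.naturality_apply, NatTrans.naturality_apply, hz₂, hz₂]
      exact congrArg ULift.up e
  obtain ⟨z₀, hz₀, hz₀uniq⟩ := ((isSheaf_iff_isSheaf_of_type _ _).1 K.property R hR) z hzc
  refine ⟨k₁.app _ z₀, fun Z f hf => ?_, fun t ht => ?_⟩
  · rw [← NatTrans.naturality_apply, hz₀ f hf, hz₁]
  · have htg : π.app _ t = g := hguniq _ fun Z f hf => by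
      show G.obj.map f.op (π.app _ t) = π.app _ (x f hf)
      rw [← NatTrans.naturality_apply, ht f hf]
    obtain ⟨w, hw⟩ := (hb T).2 ⟨(t, ⟨𝟙 T⟩), htg.trans (by rw [hĝ T (𝟙 T)]; simp)⟩
    have hw₁ : k₁.app _ w = t := congrArg (fun s => s.1.1) hw
    have hw₂ : k₂.app _ w = ⟨𝟙 T⟩ := congrArg (fun s => s.1.2) hw
    rw [← hw₁, hz₀uniq w fun Z f hf => inj (by rw [NatTrans.naturality_apply, hw₁, hz₁]; exact ht f hf)
      (by rw [NatTrans.naturality_apply, hw₂, hz₂]; exact congrArg ULift.up (Category.comp_id f))]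

/-- A sheaf over an algebraic space whose pullbacks to schemes are algebraic spaces is an algebraic space. -/
theorem isAlgSpace_of_forall_pullback {H G : Sp S} (hG : IsAlgSpace G) (π : H ⟶ G)
    (h : ∀ (U : Over S) (g : (yon S).obj U ⟶ G), IsAlgSpace (pullback π g)) : IsAlgSpace H := by
  refine ⟨fun {T} t => ?_, ?_⟩
  · obtain ⟨T', s, k, sq⟩ := hG.diag (t ≫ prod.map π π)
    let a : (yon S).obj T' ⟶ H := (yon S).map s ≫ t ≫ prod.fst
    let b : (yon S).obj T' ⟶ H := (yon S).map s ≫ t ≫ prod.snd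
    have hk₁ : a ≫ π = k := by
      have := congrArg (· ≫ prod.fst) sq.w
      simpa [a] using this.symm
    have hk₂ : b ≫ π = k := by
      have := congrArg (· ≫ prod.snd) sq.w
      simpa [b] using this.symm
    let a' : (yon S).obj T' ⟶ pullback π k := pullback.lift a (𝟙 _) (by rw [hk₁, Category.id_comp])
    let b' : (yon S).obj T' ⟶ pullback π k := pullback.lift b (𝟙 _) (by rw [hk₂, Category.id_comp])
    obtain ⟨T'', s', j, sq'⟩ := (h T' k).diag (prod.lift a' b')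
    have hj₁ : j = (yon S).map s' ≫ a' := by simpa using congrArg (· ≫ prod.fst) sq'.w
    have hj₂ : j = (yon S).map s' ≫ b' := by simpa using congrArg (· ≫ prod.snd) sq'.w
    have hab : (yon S).map s' ≫ a = (yon S).map s' ≫ b := by
      have := congrArg (· ≫ pullback.fst π k) (hj₁.symm.trans hj₂)
      simpa [a', b'] using this
    refine ⟨T'', s' ≫ s, (yon S).map s' ≫ a, isPullback_of_forall_existsUnique ?_ fun R x r e => ?_⟩
    · apply Limits.prod.hom_ext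
      · simp [a]
      · simp only [Category.assoc, Limits.prod.lift_snd, Category.comp_id, Functor.map_comp]
        exact hab
    · have e₁ : x = r ≫ t ≫ prod.fst := by simpa using congrArg (· ≫ prod.fst) e
      have e₂ : x = r ≫ t ≫ prod.snd := by simpa using congrArg (· ≫ prod.snd) e
      have hGw : (x ≫ π) ≫ Limits.diag G = r ≫ t ≫ prod.map π π := by
        apply Limits.prod.hom_ext
        · simp only [Category.assoc, Limits.prod.lift_fst, Limits.prod.map_fst, Category.comp_id]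
          rw [e₁, Category.assoc, Category.assoc]
        · simp only [Category.assoc, Limits.prod.lift_snd, Limits.prod.map_snd, Category.comp_id]
          rw [e₂, Category.assoc, Category.assoc]
      let r' := sq.lift (x ≫ π) r hGw
      have hr's : r' ≫ (yon S).map s = r := sq.lift_snd _ _ _
      have hr'a : r' ≫ a = x := by simp only [a]; rw [reassoc_of% hr's, ← e₁]
      have hr'b : r' ≫ b = x := by simp only [b]; rw [reassoc_of% hr's, ← e₂]
      have hK : (r' ≫ a') ≫ Limits.diag (pullback π k) = r' ≫ prod.lift a' b' := by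
        apply Limits.prod.hom_ext
        · simp
        · simp only [Category.assoc, Limits.prod.lift_snd, Category.comp_id]
          apply pullback.hom_ext
          · simp [a', b', hr'a, hr'b]
          · simp [a', b']
      refine ⟨sq'.lift (r' ≫ a') r' hK, ⟨?_, ?_⟩, fun l hl => ?_⟩
      · rw [sq'.lift_snd_assoc, hr'a]
      · rw [Functor.map_comp, sq'.lift_snd_assoc, hr's]
      · obtain ⟨hl₁, hl₂⟩ := hl
        have hls : l ≫ (yon S).map s' = r' := by
          apply sq.hom_ext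
          · rw [sq.lift_fst, ← hl₁]
            have := congrArg (fun m => (yon S).map s' ≫ m) hk₁
            simp only [Category.assoc] at this ⊢
            rw [this]
          · rw [sq.lift_snd, Category.assoc, ← Functor.map_comp, hl₂]
        apply sq'.hom_ext
        · rw [sq'.lift_fst, hj₁, ← Category.assoc, hls]
        · rw [sq'.lift_snd, hls]
  · obtain ⟨U, p, hp, hp'⟩ := hG.atlas
    obtain ⟨V, q, hq, hq'⟩ := (h U p).atlas
    have sq := (IsPullback.of_hasPullback π p).flip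
    exact ⟨V, q ≫ pullback.fst π p, repWith_comp hq (repWith_of_isPullback sq hp),
      repWith_comp hq' (repWith_of_isPullback sq hp')⟩

variable {𝒳 𝒴 : AlgSt.Cat S}

lemma isFibSetoid_fp [IsFibGrpd 𝒳.p] [IsFibGrpd 𝒴.p] {f : 𝒳 ⥤ᵇ 𝒴} (hf : AlgSt.RepByAlgSp1 f)
    {G : Sp S} (u : AlgSt.ofSp G ⥤ᵇ 𝒴) : IsFibSetoid (fp u f).p := by
  haveI : IsFibGrpd (fp u f).p := isFibGrpd_fp
  refine ⟨inferInstance, fun T x y => ⟨fun φ ψ => ?_⟩⟩
  let U : Over S := y.1.obj.fst.base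
  let g : (yon S).obj U ⟶ G := (J S).uliftYonedaEquiv.symm y.1.obj.fst.sec
  obtain ⟨H, a, hH, ha, -⟩ := (repByAlgSp1_iff f).mp hf U (BasedFunctor.comp (AlgSt.ofSpMap g) u)
  obtain ⟨e, he, -⟩ := ha
  obtain ⟨e', he', -⟩ := exists_inverse he
  have hset : IsFibSetoid (fp (BasedFunctor.comp (AlgSt.ofSpMap g) u) f).p :=
    isFibSetoid_of_isEquivOver isFibSetoid_ofPsh he'
  have hset' : IsFibSetoid (fp (AlgSt.ofSpMap g) (FibCat.fpFst u f)).p :=
    isFibSetoid_of_isEquivOver hset (isEquivOver_fpPaste (AlgSt.ofSpMap g) u f)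
  haveI := hset'.1
  haveI hφ : (fp u f).p.IsHomLift (𝟙 T) φ.1 := φ.2
  haveI hψ : (fp u f).p.IsHomLift (𝟙 T) ψ.1 := ψ.2
  haveI := isHomLift_fst (𝟙 T) φ.1
  haveI := isHomLift_fst (𝟙 T) ψ.1
  have hfst : φ.1.hom.fst = ψ.1.hom.fst := elt_hom_eq (𝟙 T) _ _
  let m : x.1.obj.fst.base ⟶ U := φ.1.hom.fst.hom
  have hy : (AlgSt.ofSpMap g).obj ⟨U, ⟨𝟙 U⟩⟩ = (FibCat.fpFst u f).obj y.1 := by
    show (⟨U, G.obj.map (𝟙 U).op y.1.obj.fst.sec⟩ : Stk.EltObj G.obj) = ⟨U, y.1.obj.fst.sec⟩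
    simp
  have hx : (AlgSt.ofSpMap g).obj ⟨x.1.obj.fst.base, ⟨m⟩⟩ = (FibCat.fpFst u f).obj x.1 :=
    congrArg (fun s => (⟨x.1.obj.fst.base, s⟩ : Stk.EltObj G.obj)) φ.1.hom.fst.map_sec
  let y' : (fp (AlgSt.ofSpMap g) (FibCat.fpFst u f)).obj :=
    fpObj ⟨U, ⟨𝟙 U⟩⟩ y.1 (eqToIso hy) (IsHomLift.eqToHom_domain_lift_id hy rfl)
  let x' : (fp (AlgSt.ofSpMap g) (FibCat.fpFst u f)).obj :=
    fpObj ⟨x.1.obj.fst.base, ⟨m⟩⟩ x.1 (eqToIso hx) (IsHomLift.eqToHom_domain_lift_id hx rfl)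
  let mm : x'.obj.fst ⟶ y'.obj.fst := ⟨m, congrArg ULift.up (Category.comp_id m)⟩
  have hw : ∀ θ : x.1 ⟶ y.1, θ.hom.fst = φ.1.hom.fst →
      (AlgSt.ofSpMap g).map mm ≫ y'.obj.iso.hom = x'.obj.iso.hom ≫ (FibCat.fpFst u f).map θ := by
    intro θ hθ
    apply Stk.EltObj.hom_ext
    have h1 : (eqToHom hy).hom = 𝟙 U := eqToHom_hom hy
    have h2 : (eqToHom hx).hom = 𝟙 x.1.obj.fst.base := eqToHom_hom hx
    show m ≫ (eqToHom hy).hom = (eqToHom hx).hom ≫ θ.hom.fst.hom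
    rw [h1, h2, hθ]
    exact (Category.comp_id m).trans (Category.id_comp m).symm
  let φ' : x' ⟶ y' := fpHom mm φ.1 (hw φ.1 rfl)
  let ψ' : x' ⟶ y' := fpHom mm ψ.1 (hw ψ.1 hfst.symm)
  haveI : (fp (AlgSt.ofSpMap g) (FibCat.fpFst u f)).p.IsHomLift m φ' := IsHomLift.map _ φ'
  haveI : (fp (AlgSt.ofSpMap g) (FibCat.fpFst u f)).p.IsHomLift m ψ' := IsHomLift.map _ ψ'
  have := hom_eq_of_thin hset'.2 m φ' ψ'
  exact CategoryTheory.Functor.Fiber.hom_ext (congrArg (fun t => t.hom.snd) this)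

/-- Base change of a functor representable by algebraic spaces along a map from an algebraic space. -/
theorem exists_along [IsFibGrpd 𝒳.p] [IsFibGrpd 𝒴.p] {f : 𝒳 ⥤ᵇ 𝒴} (hf : AlgSt.RepByAlgSp1 f)
    {G : Sp S} (hG : IsAlgSpace G) (u : AlgSt.ofSp G ⥤ᵇ 𝒴) :
    ∃ (H : Sp S) (a : H ⟶ G), IsAlgSpace H ∧ Along u f a.hom := by
  obtain ⟨P, e, he⟩ := exists_ofPsh_equiv (isFibSetoid_fp hf u)
  obtain ⟨α⟩ := nonempty_iso_mapOf (BasedFunctor.comp e (FibCat.fpFst u f))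
  set π := mapOf (BasedFunctor.comp e (FibCat.fpFst u f))
  have ha : Along u f π := ⟨e, he, ⟨α⟩⟩
  have key : ∀ (U : Over S) (g : (yon S).obj U ⟶ G), ∃ (K : Sp S) (k₁ : K.obj ⟶ P)
      (k₂ : K ⟶ (yon S).obj U), IsAlgSpace K ∧ IsPullback k₁ k₂.hom π g.hom := by
    intro U g
    obtain ⟨K, k₂, hK, hk, -⟩ := (repByAlgSp1_iff f).mp hf U (BasedFunctor.comp (AlgSt.ofSpMap g) u)
    have sq := IsPullback.of_hasPullback π g.hom
    obtain ⟨i, hi⟩ := Along.unique hk (ha.of_isPullback sq)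
    exact ⟨K, i.hom ≫ pullback.fst π g.hom, k₂, hK, sq.of_iso i.symm (Iso.refl _) (Iso.refl _)
      (Iso.refl _) (by simp) (by simp [← hi]) (by simp) (by simp)⟩
  have hP : Presheaf.IsSheaf (J S) P := isSheaf_of_forall_pullback π fun U g =>
    let ⟨K, k₁, k₂, _, sq⟩ := key U (ObjectProperty.homMk g)
    ⟨K, k₁, k₂.hom, sq⟩
  let H : Sp S := ⟨P, hP⟩
  let a : H ⟶ G := ObjectProperty.homMk π
  refine ⟨H, a, isAlgSpace_of_forall_pullback hG a fun U g => ?_, ha⟩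
  obtain ⟨K, k₁, k₂, hK, sq⟩ := key U g
  have sq' := (IsPullback.of_hasPullback a g).map (sheafToPresheaf (J S) _)
  exact hK.of_iso ((fullyFaithfulSheafToPresheaf (J S) _).preimageIso (sq.isoIsPullback _ _ sq'))

/-- Stability under base change, for morphisms of algebraic spaces. -/
def StableBC (P : MorphismProperty (Sp S)) : Prop :=
  ∀ ⦃X₁ Y₁ X₂ Y₂ : Sp S⦄, IsAlgSpace X₁ → IsAlgSpace Y₁ → IsAlgSpace X₂ →
    IsAlgSpace Y₂ → ∀ (a : X₁ ⟶ Y₁) (b : Y₂ ⟶ Y₁) (a' : X₂ ⟶ Y₂) (b' : X₂ ⟶ X₁),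
      IsPullback b' a' a b → P a → P a'

lemma StableBC.precomp_iso {P : MorphismProperty (Sp S)} (hP : StableBC P) ⦃H H' G : Sp S⦄ (i : H ≅ H')
    (a : H' ⟶ G) (hH : IsAlgSpace H') (hG : IsAlgSpace G) (h : P a) : P (i.hom ≫ a) :=
  hP hH hG (hH.of_iso i.symm) hG a (𝟙 G) (i.hom ≫ a) i.hom
    (IsPullback.of_horiz_isIso ⟨by simp⟩) h

lemma isPullback_sheaf {F G H W : Sp S} {fst : W ⟶ F} {snd : W ⟶ H} {f : F ⟶ G} {g : H ⟶ G}
    (sq : IsPullback fst snd f g) : IsPullback fst.hom snd.hom f.hom g.hom :=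
  sq.map (sheafToPresheaf (J S) _)

/-- An étale atlas is an fppf covering. -/
lemma isFppfCover_atlas {G : Sp S} {U : Over S} {p : (yon S).obj U ⟶ G} (hp : RepWith @Etale p)
    (hp' : RepWith @Surjective p) :
    IsFppfCover (fun _ : PUnit.{u + 1} => (yon S).obj U) (fun _ => p) := by
  have he := isEtaleMor_of_repWith hp
  refine ⟨fun _ => ⟨locP_mono ?_ (locP_etale_of_isEtaleMor he), locP_mono ?_ (locP_etale_of_isEtaleMor he)⟩,
    fun x => ⟨⟨⟩, map_surjective_of_repWith hp' x⟩⟩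
  · exact fun _ _ g (hg : Etale g) => inferInstanceAs (Flat g)
  · exact fun _ _ g (hg : Etale g) => inferInstanceAs (LocallyOfFinitePresentation g)

/-- A property local on the base holds for base changes to algebraic spaces. -/
theorem exists_along_prop [IsFibGrpd 𝒳.p] [IsFibGrpd 𝒴.p] {P : MorphismProperty (Sp S)}
    (hPb : StableBC P) (hP : IsLocalOnBase IsFppfCover P) {f : 𝒳 ⥤ᵇ 𝒴} (hf : AlgSt.RepByAlgSpWith P f)
    {G : Sp S} (hG : IsAlgSpace G) (u : AlgSt.ofSp G ⥤ᵇ 𝒴) :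
    ∃ (H : Sp S) (a : H ⟶ G), IsAlgSpace H ∧ Along u f a.hom ∧ P a := by
  obtain ⟨H, a, hH, ha⟩ := exists_along (repByAlgSp1_of_with hf) hG u
  refine ⟨H, a, hH, ha, ?_⟩
  obtain ⟨U, p, hp, hp'⟩ := hG.atlas
  have sq := IsPullback.of_hasPullback a p
  have hW : IsAlgSpace (pullback a p) := isAlgSpace_of_isPullback hH (IsAlgSpace.yon_obj U) hG sq
  refine (hP (ι := PUnit.{u + 1}) _ (fun _ => p) hG (fun _ => IsAlgSpace.yon_obj U)
    (isFppfCover_atlas hp hp') a hH _ (fun _ => pullback.snd a p) (fun _ => pullback.fst a p)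
    (fun _ => hW) (fun _ => sq)).mpr fun _ => ?_
  exact prop_of_along hPb.precomp_iso hf (ha.of_isPullback (isPullback_sheaf sq))

end AlgStLib
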