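import Groth.Agent.AlgStLib.SmLoc
import Groth.Agent.AlgStLib.UnivInj

/-!
# Substacks and subsets of the space of points
-/

set_option autoImplicit false
set_option backward.isDefEq.respectTransparency false
set_option backward.isDefEq.respectTransparency.types false

universe u

open CategoryTheory CategoryTheory.Limits AlgebraicGeometry Opposite AlgSp FibCat FibLib AlgSpLib Topology

noncomputable section

namespace AlgStLib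

variable {S : Scheme.{u}} {𝒳 𝒴 : AlgSt.Cat S}

lemma exists_vert_to_lift [IsFibGrpd 𝒳.p] {R T : Over S} (β : R ⟶ T) {a b c : 𝒳.obj} (m : a ⟶ c) (n : b ⟶ c)
    [𝒳.p.IsHomLift β m] [𝒳.p.IsHomLift β n] : ∃ χ : a ⟶ b, 𝒳.p.IsHomLift (𝟙 R) χ := by
  haveI : 𝒳.p.IsStronglyCartesian β n :=
    (isStronglyCartesian_map_iff 𝒳.p β n).mp (IsFibGrpd.isStronglyCartesian n)
  obtain ⟨χ, ⟨hχ, -⟩, -⟩ := Functor.IsStronglyCartesian.universal_property 𝒳.p β n (𝟙 R) β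
    (Category.id_comp β).symm m
  exact ⟨χ, hχ⟩

section Full

variable {Q : 𝒳.obj → Prop}

lemma isFibGrpd_fullSub [IsFibGrpd 𝒳.p] (hQ : ∀ ⦃a b : 𝒳.obj⦄ (_ : b ⟶ a), Q a → Q b) :
    IsFibGrpd (AlgSt.fullSub 𝒳 Q).p where
  exists_lift {x V} f := by
    obtain ⟨b, φ, hφ⟩ := exists_lift 𝒳.p (a := x.obj) rfl f
    refine ⟨⟨b, hQ φ x.property⟩, ObjectProperty.homMk φ, ?_⟩
    exact IsHomLift.of_fac _ _ _ (IsHomLift.domain_eq 𝒳.p f φ) rfl (@IsHomLift.fac _ _ _ _ 𝒳.p _ _ _ _ f φ hφ)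
  isStronglyCartesian {y x} φ := by
    haveI : ((AlgSt.fullSub 𝒳 Q).p).IsHomLift ((AlgSt.fullSub 𝒳 Q).p.map φ) φ := IsHomLift.map _ φ
    refine { universal_property' := fun {a'} g φ' hφ' => ?_ }
    haveI h0 : 𝒳.p.IsStronglyCartesian (𝒳.p.map φ.hom) φ.hom := IsFibGrpd.isStronglyCartesian φ.hom
    haveI : 𝒳.p.IsHomLift (g ≫ 𝒳.p.map φ.hom) φ'.hom :=
      IsHomLift.of_fac _ _ _ rfl rfl (@IsHomLift.fac _ _ _ _ (AlgSt.fullSub 𝒳 Q).p _ _ _ _ _ φ' hφ')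
    obtain ⟨χ, ⟨hχ₁, hχ₂⟩, hu⟩ := Functor.IsStronglyCartesian.universal_property 𝒳.p (𝒳.p.map φ.hom) φ.hom
      g _ rfl φ'.hom
    refine ⟨ObjectProperty.homMk χ, ⟨IsHomLift.of_fac _ _ _ rfl rfl (@IsHomLift.fac _ _ _ _ 𝒳.p _ _ _ _ g χ hχ₁),
      ObjectProperty.hom_ext _ hχ₂⟩, fun ψ ⟨h₁, h₂⟩ => ObjectProperty.hom_ext _ (hu ψ.hom ⟨?_, ?_⟩)⟩
    · exact IsHomLift.of_fac _ _ _ rfl rfl (@IsHomLift.fac _ _ _ _ (AlgSt.fullSub 𝒳 Q).p _ _ _ _ g ψ h₁)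
    · exact congrArg (fun t => t.hom) h₂

lemma mem_of_hom [IsFibGrpd 𝒳.p] [hiso : ObjectProperty.IsClosedUnderIsomorphisms Q]
    (hgr : IsFibGrpd (AlgSt.fullSub 𝒳 Q).p) {a b : 𝒳.obj} (m : b ⟶ a) (ha : Q a) : Q b := by
  haveI := hgr
  obtain ⟨c, φ, hφ⟩ := exists_lift (AlgSt.fullSub 𝒳 Q).p (a := (⟨a, ha⟩ : (AlgSt.fullSub 𝒳 Q).obj))
    rfl (𝒳.p.map m)
  haveI : 𝒳.p.IsHomLift (𝒳.p.map m) φ.hom :=
    IsHomLift.of_fac _ _ _ (IsHomLift.domain_eq (AlgSt.fullSub 𝒳 Q).p (𝒳.p.map m) φ) rfl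
      (@IsHomLift.fac _ _ _ _ (AlgSt.fullSub 𝒳 Q).p _ _ _ _ _ φ hφ)
  haveI : 𝒳.p.IsHomLift (𝒳.p.map m) m := IsHomLift.map _ m
  obtain ⟨χ, hχ⟩ := exists_vert_to_lift (𝒳.p.map m) φ.hom m
  haveI := isIso_of_isHomLift 𝒳.p (𝟙 (𝒳.p.obj b)) χ
  exact ObjectProperty.prop_of_iso Q (asIso χ) c.property

lemma mk_mem_range_subIncl (p : AlgSt.FPt 𝒳) (hp : Q p.obj) :
    AlgSt.Points.mk p ∈ Set.range (AlgSt.Points.map (AlgSt.subIncl 𝒳 Q)) :=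
  ⟨AlgSt.Points.mk { K := p.K, str := p.str, obj := ⟨p.obj, hp⟩, lies := p.lies }, rfl⟩

end Full

section OfSet

variable (T : Set (AlgSt.Points 𝒳))

/-- The objects all of whose points lie in `T`. -/
def PtsIn : 𝒳.obj → Prop := fun a => ∀ (p : AlgSt.FPt 𝒳), (p.obj ⟶ a) → AlgSt.Points.mk p ∈ T

variable {T}

lemma ptsIn_of_hom ⦃a b : 𝒳.obj⦄ (m : b ⟶ a) (ha : PtsIn T a) : PtsIn T b := fun p f => ha p (f ≫ m)

instance : ObjectProperty.IsClosedUnderIsomorphisms (PtsIn T) := ⟨fun e ha => ptsIn_of_hom e.inv ha⟩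

lemma ptsIn_of_mk_mem {p : AlgSt.FPt 𝒳} (h : AlgSt.Points.mk p ∈ T) : PtsIn T p.obj :=
  fun q f => (mk_eq_of_hom f) ▸ h

lemma range_subIncl_ptsIn (T : Set (AlgSt.Points 𝒳)) :
    Set.range (AlgSt.Points.map (AlgSt.subIncl 𝒳 (PtsIn T))) = T := by
  ext x
  constructor
  · rintro ⟨y, rfl⟩
    obtain ⟨q, rfl⟩ := AlgSt.Points.mk_surjective y
    exact q.obj.property (q.map (AlgSt.subIncl 𝒳 (PtsIn T))) (𝟙 _)
  · intro hx
    obtain ⟨p, rfl⟩ := AlgSt.Points.mk_surjective x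
    exact mk_mem_range_subIncl p (ptsIn_of_mk_mem hx)

lemma ptsIn_obj_iff [IsFibGrpd 𝒳.p] {F : Sp S} (u : AlgSt.ofSp F ⥤ᵇ 𝒳) (o : (AlgSt.ofSp F).obj) :
    PtsIn T (u.obj o) ↔
      ∀ t, ptMap u (Points.ofPt ((AlgSp.J S).uliftYonedaEquiv.symm o.sec : (yon S).obj o.base ⟶ F) t) ∈ T := by
  let a : (yon S).obj o.base ⟶ F := (AlgSp.J S).uliftYonedaEquiv.symm o.sec
  constructor
  · intro h t
    let P := AlgSp.FieldPt.ofPt a t
    let m : (⟨Over.mk P.str, P.val⟩ : Stk.EltObj F.obj) ⟶ o :=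
      ⟨Over.homMk (o.base.left.fromSpecResidueField t) rfl, rfl⟩
    exact h ((ofFieldPt F P).map u) (u.map m)
  · intro h p f
    let q' : AlgSt.FPt 𝒳 := p
    have hb : 𝒳.p.obj (u.obj o) = o.base := u.w_obj o
    let β : Over.mk p.str ⟶ o.base := eqToHom p.lies.symm ≫ 𝒳.p.map f ≫ eqToHom hb
    haveI : 𝒳.p.IsHomLift β f := IsHomLift.of_fac _ _ _ p.lies hb rfl
    let P : AlgSp.FieldPt F := ⟨p.K, p.str, F.obj.map β.op o.sec⟩
    let m : (⟨Over.mk p.str, P.val⟩ : Stk.EltObj F.obj) ⟶ o := ⟨β, rfl⟩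
    haveI : (AlgSt.ofSp F).p.IsHomLift β m := IsHomLift.map _ m
    haveI := u.preserves_isHomLift β m
    obtain ⟨χ, -⟩ := exists_vert_to_lift β f (u.map m)
    have e1 : AlgSt.Points.mk p = ptMap u (Points.mk P) := mk_eq_of_hom (q := (ofFieldPt F P).map u) χ
    have e2 : toMor P = (yon S).map β ≫ a := GrothendieckTopology.uliftYonedaEquiv_symm_map _ _ _
    rw [e1, mk_eq_ofPt_toMor, e2, ofPt_yon_comp]
    exact h _

lemma isFibGrpd_ptsIn [IsFibGrpd 𝒳.p] : IsFibGrpd (AlgSt.fullSub 𝒳 (PtsIn T)).p :=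
  isFibGrpd_fullSub fun _ _ m h => ptsIn_of_hom m h

/-- The inclusion of the objects with points in an open set is an open immersion. -/
theorem isOpenImm_subIncl [IsFibGrpd 𝒳.p] (hA : AlgSt.HasAtlas (LocP @Smooth) 𝒳) (hT : IsOpen T) :
    AlgSt.IsOpenImm (AlgSt.subIncl 𝒳 (PtsIn T)) := by
  refine (repByAlgSpWith_iff _ _).mpr fun U u => ?_
  let F := (yon S).obj U
  let O : Set (Points F) := ptMap u ⁻¹' T
  have hO : IsOpen O := hT.preimage (continuous_ptMap hA (IsAlgSpace.yon_obj U) u)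
  have hF := IsAlgSpace.yon_obj (S := S) U
  refine ⟨openSub F O, openSubι F O, isAlgSpace_openSub hF hO, ?_, repWith_openSubι F hO⟩
  let ι := Stk.ofPshMap (openSubι F O).hom
  have hQ : ∀ o, PtsIn T (u.obj (ι.obj o)) := fun o =>
    (ptsIn_obj_iff u _).2 fun t => o.sec.property t
  let v : AlgSt.ofSp (openSub F O) ⥤ᵇ AlgSt.fullSub 𝒳 (PtsIn T) :=
    { toFunctor := ObjectProperty.lift (PtsIn T) (ι.toFunctor ⋙ u.toFunctor) hQ
      w := (BasedFunctor.comp ι u).w }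
  let e := fpLift (F := u) (G := AlgSt.subIncl 𝒳 (PtsIn T)) ι v (Iso.refl _)
  refine ⟨e, ?_, ⟨Iso.refl _⟩⟩
  haveI : e.toFunctor.Faithful := ⟨fun {a b} x y h => by
    refine Stk.EltObj.hom_ext ?_
    exact congrArg (fun k => k.hom.fst.hom) h⟩
  haveI : e.toFunctor.Full := ⟨fun {a b} k => by
    have hk : (openSub F O).obj.map k.hom.fst.hom.op b.sec = a.sec := Subtype.ext k.hom.fst.map_sec
    refine ⟨⟨k.hom.fst.hom, hk⟩, fp_hom_ext (Stk.EltObj.hom_ext rfl) (ObjectProperty.hom_ext _ ?_)⟩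
    have w := k.hom.w
    change u.map k.hom.fst ≫ 𝟙 _ = 𝟙 _ ≫ k.hom.snd.hom at w
    erw [Category.comp_id, Category.id_comp] at w
    exact w⟩
  refine isEquivOver_of_vertEssSurj e fun ξ => ?_
  obtain ⟨⟨⟨U', sec⟩, z, i⟩, hi⟩ := ξ
  have hs : PtsIn T (u.obj ⟨U', sec⟩) := ptsIn_of_hom i.hom z.property
  let o : Stk.EltObj (openSub F O).obj := ⟨U', ⟨sec, (ptsIn_obj_iff u _).1 hs⟩⟩
  let j : (⟨u.obj (ι.obj o), hQ o⟩ : (AlgSt.fullSub 𝒳 (PtsIn T)).obj) ≅ z :=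
    ObjectProperty.isoMk _ i
  let k : e.obj o ≅ _ := fpIsoMk (x := e.obj o) (y := ⟨⟨⟨U', sec⟩, z, i⟩, hi⟩) (Iso.refl _) j (by
    change u.map (𝟙 _) ≫ i.hom = 𝟙 _ ≫ i.hom
    rw [u.toFunctor.map_id])
  refine ⟨o, k, ?_⟩
  haveI : (AlgSt.ofSch U).p.IsHomLift (𝟙 U') k.hom.hom.fst := IsHomLift.id rfl
  exact isHomLift_of_fst (𝟙 U') k.hom

theorem isOpenSubstack_ptsIn (h𝒳 : AlgSt.IsAlgStack Scheme.fppfPrecoverage 𝒳) (hT : IsOpen T) :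
    AlgSt.IsOpenSubstack 𝒳 (PtsIn T) Scheme.fppfPrecoverage := by
  haveI := isFibGrpd_of_isAlgStack h𝒳
  haveI := isFibGrpd_ptsIn (T := T)
  have h := isOpenImm_subIncl h𝒳.atlas hT
  exact ⟨inferInstance, isAlgStack_of_rep (isStack_of_repByAlgSp1 h𝒳.isStack (repByAlgSp1_of_with h))
    h𝒳 (repByAlgSp1_of_with h), h⟩

end OfSet

section Range

/-- The image of an open immersion is open. -/
theorem isOpen_range_of_isOpenImm [IsFibGrpd 𝒳.p] [IsFibGrpd 𝒴.p] {i : 𝒴 ⥤ᵇ 𝒳} (hi : AlgSt.IsOpenImm i) :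
    IsOpen (Set.range (AlgSt.Points.map i)) := by
  intro U x _
  rw [ofChart_preimage, (Points.schemeHomeo U).isOpen_preimage]
  obtain ⟨H, a, hH, ha, hPa⟩ := (repByAlgSpWith_iff _ i).mp hi U (BasedFunctor.comp (AlgSt.toOverCat U) x)
  obtain ⟨v, hv⟩ := preimage_image_along ha
  rw [← Set.image_univ, hv, Set.preimage_univ, Set.image_univ]
  exact (isOpenMap_map_of_isEtaleMor hH (isEtaleMor_of_openImmersion hPa)).isOpen_range

/-- A section of a base change along a chart through an object. -/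
lemma exists_section_of_mem [IsFibGrpd 𝒳.p] {i : 𝒴 ⥤ᵇ 𝒳} {V : Over S} {u : AlgSt.ofSch V ⥤ᵇ 𝒳} {H : Sp S}
    {a : H ⟶ (yon S).obj V} (ha : Along u i a.hom) [IsIso a] :
    ∃ z : 𝒴.obj, Nonempty (u.obj ⟨V, ⟨𝟙 V⟩⟩ ≅ i.obj z) := by
  obtain ⟨e, he, ⟨β⟩⟩ := ha
  let o : Stk.EltObj H.obj := ⟨V, (inv a).hom.app _ ⟨𝟙 V⟩⟩
  refine ⟨(e.obj o).obj.snd, ⟨?_ ≪≫ (e.obj o).obj.iso⟩⟩
  refine eqToIso (congrArg u.obj ?_) ≪≫ (u.toFunctor.mapIso (appIso β o)).symm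
  change (⟨V, _⟩ : Stk.EltObj _) = ⟨V, a.hom.app _ ((inv a).hom.app _ ⟨𝟙 V⟩)⟩
  congr 1
  exact congrArg (fun f : (yon S).obj V ⟶ (yon S).obj V => f.hom.app (op V) ⟨𝟙 V⟩) (IsIso.inv_hom_id a).symm

variable {Q : 𝒳.obj → Prop}

theorem openSubstack_eq (h𝒳 : AlgSt.IsAlgStack Scheme.fppfPrecoverage 𝒳)
    (hQ : AlgSt.IsOpenSubstack 𝒳 Q Scheme.fppfPrecoverage) :
    Q = PtsIn (Set.range (AlgSt.Points.map (AlgSt.subIncl 𝒳 Q))) := by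
  haveI := isFibGrpd_of_isAlgStack h𝒳
  haveI hgr := isFibGrpd_of_isAlgStack hQ.2.1
  haveI := hQ.1
  funext y
  apply propext
  refine ⟨fun hy p f => mk_mem_range_subIncl p (mem_of_hom hgr f hy), fun hy => ?_⟩
  let x : 𝒳.p.Fiber (𝒳.p.obj y) := Functor.Fiber.mk (p := 𝒳.p) (a := y) rfl
  let u : AlgSt.ofSch (𝒳.p.obj y) ⥤ᵇ 𝒳 := BasedFunctor.comp (AlgSt.toOverCat _) (ofPoint x)
  obtain ⟨k⟩ := nonempty_evalAtId_ofPoint_iso x
  let o : (AlgSt.ofSch (𝒳.p.obj y)).obj := ⟨𝒳.p.obj y, ⟨𝟙 _⟩⟩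
  let ko : u.obj o ≅ y := ⟨k.hom.1, k.inv.1, congrArg Subtype.val k.hom_inv_id, congrArg Subtype.val k.inv_hom_id⟩
  obtain ⟨H, a, hH, ha, hPa⟩ := (repByAlgSpWith_iff _ _).mp hQ.2.2 _ u
  obtain ⟨v, hv⟩ := preimage_image_along ha
  have hsurj : Function.Surjective (Points.map a) := fun z => by
    have hz : ptMap u z ∈ Set.range (AlgSt.Points.map (AlgSt.subIncl 𝒳 Q)) := by
      obtain ⟨t, rfl⟩ := (Points.schemeHomeo _).surjective z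
      refine (ptsIn_obj_iff (F := (yon S).obj _) u o).1 (ptsIn_of_hom ko.hom hy) t |> fun h => ?_
      have e : ((AlgSp.J S).uliftYonedaEquiv.symm o.sec : (yon S).obj o.base ⟶ (yon S).obj (𝒳.p.obj y)) = 𝟙 _ :=
        (AlgSp.J S).uliftYonedaEquiv.symm_apply_eq.2 rfl
      rw [e] at h
      exact h
    have : z ∈ ptMap u ⁻¹' (AlgSt.Points.map (AlgSt.subIncl 𝒳 Q) '' Set.univ) := by
      rw [Set.image_univ]; exact hz
    rw [hv] at this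
    obtain ⟨w, -, hw⟩ := this
    exact ⟨w, hw⟩
  haveI := isIso_of_openImmersion_surjective hPa hsurj
  obtain ⟨z, ⟨j⟩⟩ := exists_section_of_mem ha
  exact ObjectProperty.prop_of_iso Q (j.symm ≪≫ ko) z.property

theorem openSubstack_le_iff (h𝒳 : AlgSt.IsAlgStack Scheme.fppfPrecoverage 𝒳) {Q Q' : 𝒳.obj → Prop}
    (hQ : AlgSt.IsOpenSubstack 𝒳 Q Scheme.fppfPrecoverage) (hQ' : AlgSt.IsOpenSubstack 𝒳 Q' Scheme.fppfPrecoverage) :
    (∀ y, Q y → Q' y) ↔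
      Set.range (AlgSt.Points.map (AlgSt.subIncl 𝒳 Q)) ⊆ Set.range (AlgSt.Points.map (AlgSt.subIncl 𝒳 Q')) := by
  constructor
  · rintro h _ ⟨x, rfl⟩
    obtain ⟨p, rfl⟩ := AlgSt.Points.mk_surjective x
    exact mk_mem_range_subIncl (p.map (AlgSt.subIncl 𝒳 Q)) (h _ p.obj.property)
  · intro h y hy
    rw [openSubstack_eq h𝒳 hQ] at hy
    rw [openSubstack_eq h𝒳 hQ']
    exact fun p f => h (hy p f)

theorem bijOn_openSubstack (h𝒳 : AlgSt.IsAlgStack Scheme.fppfPrecoverage 𝒳) :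
    Set.BijOn (fun Q : 𝒳.obj → Prop => Set.range (AlgSt.Points.map (AlgSt.subIncl 𝒳 Q)))
      {Q | AlgSt.IsOpenSubstack 𝒳 Q Scheme.fppfPrecoverage} {T | IsOpen T} := by
  refine ⟨fun Q hQ => ?_, fun Q hQ Q' hQ' h => ?_, fun T hT => ⟨PtsIn T, isOpenSubstack_ptsIn h𝒳 hT, range_subIncl_ptsIn T⟩⟩
  · haveI := isFibGrpd_of_isAlgStack h𝒳
    haveI := isFibGrpd_of_isAlgStack hQ.2.1
    exact isOpen_range_of_isOpenImm hQ.2.2
  · rw [openSubstack_eq h𝒳 hQ, openSubstack_eq h𝒳 hQ']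
    exact congrArg PtsIn h

theorem exists_union_openSubstack (h𝒳 : AlgSt.IsAlgStack Scheme.fppfPrecoverage 𝒳) {ι : Type*}
    (Q : ι → 𝒳.obj → Prop) (hQ : ∀ i, AlgSt.IsOpenSubstack 𝒳 (Q i) Scheme.fppfPrecoverage) :
    ∃ Q' : 𝒳.obj → Prop, AlgSt.IsOpenSubstack 𝒳 Q' Scheme.fppfPrecoverage ∧ (∀ i y, Q i y → Q' y) ∧
      Set.range (AlgSt.Points.map (AlgSt.subIncl 𝒳 Q')) = ⋃ i, Set.range (AlgSt.Points.map (AlgSt.subIncl 𝒳 (Q i))) := by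
  have hO : IsOpen (⋃ i, Set.range (AlgSt.Points.map (AlgSt.subIncl 𝒳 (Q i)))) :=
    isOpen_iUnion fun i => (bijOn_openSubstack h𝒳).1 (hQ i)
  refine ⟨_, isOpenSubstack_ptsIn h𝒳 hO, fun i y hy => ?_, range_subIncl_ptsIn _⟩
  rw [openSubstack_eq h𝒳 (hQ i)] at hy
  exact fun p f => Set.mem_iUnion.2 ⟨i, hy p f⟩

theorem exists_finset_cover (h𝒳 : AlgSt.IsAlgStack Scheme.fppfPrecoverage 𝒳) {Q' : 𝒳.obj → Prop}
    (hQ' : AlgSt.IsOpenSubstack 𝒳 Q' Scheme.fppfPrecoverage) (hqc : AlgSt.IsQuasiCompact (AlgSt.fullSub 𝒳 Q'))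
    {ι : Type*} (Q : ι → 𝒳.obj → Prop) (hQ : ∀ i, AlgSt.IsOpenSubstack 𝒳 (Q i) Scheme.fppfPrecoverage)
    (hcov : Set.range (AlgSt.Points.map (AlgSt.subIncl 𝒳 Q')) ⊆ ⋃ i, Set.range (AlgSt.Points.map (AlgSt.subIncl 𝒳 (Q i)))) :
    ∃ I' : Finset ι, Set.range (AlgSt.Points.map (AlgSt.subIncl 𝒳 Q')) ⊆
      ⋃ i ∈ I', Set.range (AlgSt.Points.map (AlgSt.subIncl 𝒳 (Q i))) := by
  haveI := isFibGrpd_of_isAlgStack h𝒳
  haveI := isFibGrpd_of_isAlgStack hQ'.2.1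
  haveI := compactSpace_of_isQuasiCompact hQ'.2.1.atlas hqc
  exact (isCompact_range (continuous_map h𝒳.atlas (AlgSt.subIncl 𝒳 Q'))).elim_finite_subcover _
    (fun i => (bijOn_openSubstack h𝒳).1 (hQ i)) hcov

end Range

section OpenImage

/-- The open substack image of an open subspace of a smooth cover. -/
theorem exists_open_image (h𝒳 : AlgSt.IsAlgStack Scheme.fppfPrecoverage 𝒳) {U V : Sp S} (hU : IsAlgSpace U)
    (hV : IsAlgSpace V) (u : AlgSt.ofSp U ⥤ᵇ 𝒳) (hu₁ : AlgSt.RepByAlgSpWith (LocP @Smooth) u) (j : V ⟶ U)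
    (hj : RepWith @IsOpenImmersion j) :
    ∃ (𝒴 : AlgSt.Cat S) (i : 𝒴 ⥤ᵇ 𝒳) (g : AlgSt.ofSp V ⥤ᵇ 𝒴),
      AlgSt.IsAlgStack Scheme.fppfPrecoverage 𝒴 ∧ AlgSt.IsOpenImm i ∧
        AlgSt.RepByAlgSpWith (LocP @Smooth) g ∧ AlgSt.RepByAlgSpWith IsSurjectiveMor g ∧
          Nonempty (BasedFunctor.comp g i ≅ BasedFunctor.comp (AlgSt.ofSpMap j) u) := by
  haveI := isFibGrpd_of_isAlgStack h𝒳
  haveI : IsFibGrpd (AlgSt.ofSp U).p := Stk.isFibGrpd_ofPsh _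
  haveI : IsFibGrpd (AlgSt.ofSp V).p := Stk.isFibGrpd_ofPsh _
  let w := BasedFunctor.comp (AlgSt.ofSpMap j) u
  have hw : AlgSt.RepByAlgSpWith (LocP @Smooth) w := repByAlgSpWith_comp' good_smooth
    (repByAlgSpWith_ofSpMap hV hU j fun W ξ => good_smooth.bc hV hU
      (isAlgSpace_pullback hV (IsAlgSpace.yon_obj W) hU j ξ) (IsAlgSpace.yon_obj W) j ξ _ _
      (IsPullback.of_hasPullback j ξ) (locP_smooth_of_isEtaleMor (isEtaleMor_of_openImmersion hj))) hu₁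
  let T := Set.range (AlgSt.Points.map w)
  have hT : IsOpen T := (isOpenMap_map_of_space hV w
    (repByAlgSpWith_mono (fun _ _ _ _ _ h => locP_flat_of_smooth h) hw)
    (repByAlgSpWith_mono (fun _ _ _ _ _ h => locP_lfp_of_smooth h) hw)).isOpen_range
  have hsub := isOpenSubstack_ptsIn h𝒳 hT
  haveI := isFibGrpd_of_isAlgStack hsub.2.1
  have hQ : ∀ o, PtsIn T (w.obj o) := fun o => (ptsIn_obj_iff w o).2 fun t => ⟨_, rfl⟩
  let g : AlgSt.ofSp V ⥤ᵇ AlgSt.fullSub 𝒳 (PtsIn T) :=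
    { toFunctor := ObjectProperty.lift (PtsIn T) w.toFunctor hQ
      w := w.w }
  let i := AlgSt.subIncl 𝒳 (PtsIn T)
  have hgi : BasedFunctor.comp g i = w := rfl
  have hg : AlgSt.RepByAlgSpWith (LocP @Smooth) g := by
    refine repByAlgSpWith_of_comp good_smooth.bc (Q := MorphismProperty.monomorphisms (Sp S)) (G := i)
      (by rw [hgi]; exact hw) (repByAlgSpWith_mono (fun _ _ _ _ _ h => mono_of_openImmersion h) hsub.2.2) ?_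
    intro A B C hA hB hC a b hab hb
    haveI : Mono b := hb
    exact good_smooth.bc hA hC hA hB (a ≫ b) b a (𝟙 A)
      ⟨⟨by simp⟩, ⟨PullbackCone.IsLimit.mk _ (fun c => c.fst) (fun c => Category.comp_id _)
        (fun c => by rw [← cancel_mono b, Category.assoc, c.condition]) (fun c m h₁ _ =>
          (Category.comp_id m).symm.trans h₁)⟩⟩ hab
  refine ⟨_, i, g, hsub.2.1, hsub.2.2, hg, ?_, ⟨eqToIso hgi⟩⟩
  refine (surjective_iff_repByAlgSpWith (repByAlgSp1_of_with hg)).1 fun z => ?_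
  have hz : AlgSt.Points.map i z ∈ T := (range_subIncl_ptsIn T).subset ⟨z, rfl⟩
  obtain ⟨y, hy⟩ := hz
  refine ⟨y, injective_of_isMono (repByAlgSpWith_mono (fun _ _ _ _ _ h => mono_of_openImmersion h) hsub.2.2) ?_⟩
  rw [← hy, ← map_comp, hgi]

end OpenImage

section Image

variable {i : 𝒴 ⥤ᵇ 𝒳}

/-- The essential image. -/
def EssIm (i : 𝒴 ⥤ᵇ 𝒳) : 𝒳.obj → Prop := fun y => ∃ z, Nonempty (i.obj z ≅ y)

instance : ObjectProperty.IsClosedUnderIsomorphisms (EssIm i) :=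
  ⟨fun e ⟨z, ⟨f⟩⟩ => ⟨z, ⟨f ≪≫ e⟩⟩⟩

/-- An immersion identifies its source with a locally closed substack, and with no other. -/
theorem exists_substack_of_isImm (h𝒴 : AlgSt.IsAlgStack Scheme.fppfPrecoverage 𝒴)
    (h𝒳 : AlgSt.IsAlgStack Scheme.fppfPrecoverage 𝒳) (hi : AlgSt.IsImm i) :
    ∃ Q : 𝒳.obj → Prop,
      (AlgSt.IsLocClosedSubstack 𝒳 Q Scheme.fppfPrecoverage ∧
        (∃ i' : 𝒴 ⥤ᵇ AlgSt.fullSub 𝒳 Q, FibCat.IsEquivOver i' ∧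
          Nonempty (BasedFunctor.comp i' (AlgSt.subIncl 𝒳 Q) ≅ i)) ∧
        (AlgSt.IsClosedImm i → AlgSt.IsClosedSubstack 𝒳 Q Scheme.fppfPrecoverage) ∧
        (AlgSt.IsOpenImm i → AlgSt.IsOpenSubstack 𝒳 Q Scheme.fppfPrecoverage)) ∧
      ∀ Q' : 𝒳.obj → Prop, AlgSt.IsLocClosedSubstack 𝒳 Q' Scheme.fppfPrecoverage →
        (∃ i' : 𝒴 ⥤ᵇ AlgSt.fullSub 𝒳 Q', FibCat.IsEquivOver i' ∧
          Nonempty (BasedFunctor.comp i' (AlgSt.subIncl 𝒳 Q') ≅ i)) → Q' = Q := by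
  haveI := isFibGrpd_of_isAlgStack h𝒳
  haveI := isFibGrpd_of_isAlgStack h𝒴
  have hm : AlgSt.IsMono i := repByAlgSpWith_mono
    (fun _ _ _ _ _ h => AlgSpLib.mono_of_repWith (fun g (_ : IsImmersion g) => inferInstance) h) hi
  haveI := full_of_isMono hm
  haveI := faithful_of_repByAlgSp1 (repByAlgSp1_of_with hm)
  let i' : 𝒴 ⥤ᵇ AlgSt.fullSub 𝒳 (EssIm i) :=
    { toFunctor := ObjectProperty.lift (EssIm i) i.toFunctor fun z => ⟨z, ⟨Iso.refl _⟩⟩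
      w := i.w }
  haveI : i'.toFunctor.Full := inferInstanceAs (ObjectProperty.lift (EssIm i) i.toFunctor _).Full
  haveI : i'.toFunctor.Faithful := inferInstanceAs (ObjectProperty.lift (EssIm i) i.toFunctor _).Faithful
  have hdown : ∀ ⦃a b : 𝒳.obj⦄ (_ : b ⟶ a), EssIm i a → EssIm i b := by
    rintro a b m ⟨z, ⟨f⟩⟩
    let m' := m ≫ f.inv
    let β : 𝒳.p.obj b ⟶ 𝒴.p.obj z := 𝒳.p.map m' ≫ eqToHom (i.w_obj z)
    obtain ⟨z', φ, hφ⟩ := exists_lift 𝒴.p rfl β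
    haveI := i.preserves_isHomLift β φ
    haveI : 𝒳.p.IsHomLift β m' := IsHomLift.of_fac _ _ _ rfl (i.w_obj z) (by simp [β])
    obtain ⟨χ, hχ⟩ := exists_vert_to_lift β (i.map φ) m'
    haveI := isIso_of_isHomLift 𝒳.p (𝟙 (𝒳.p.obj b)) χ
    haveI : IsIso χ := this
    exact ⟨z', ⟨(asIso χ)⟩⟩
  haveI := isFibGrpd_fullSub (Q := EssIm i) hdown
  have hi' : IsEquivOver i' := by
    refine isEquivOver_of_vertEssSurj i' fun η => ?_
    obtain ⟨z, ⟨f⟩⟩ := η.property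
    let β : 𝒳.p.obj η.obj ⟶ 𝒴.p.obj z := 𝒳.p.map f.inv ≫ eqToHom (i.w_obj z)
    obtain ⟨z', φ, hφ⟩ := exists_lift 𝒴.p rfl β
    haveI := i.preserves_isHomLift β φ
    haveI : 𝒳.p.IsHomLift β f.inv := IsHomLift.of_fac _ _ _ rfl (i.w_obj z) (by simp [β])
    obtain ⟨χ, hχ⟩ := exists_vert_to_lift β (i.map φ) f.inv
    haveI := isIso_of_isHomLift 𝒳.p (𝟙 (𝒳.p.obj η.obj)) χ
    have hz' : 𝒴.p.obj z' = 𝒳.p.obj η.obj := IsHomLift.domain_eq 𝒴.p β φ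
    refine ⟨z', ObjectProperty.isoMk _ (asIso χ), ?_⟩
    refine IsHomLift.of_fac _ _ _ ((i'.w_obj z').trans hz') rfl ?_
    exact @IsHomLift.fac _ _ _ _ 𝒳.p _ _ _ _ _ χ hχ
  have hrep : ∀ {P : MorphismProperty (Sp S)}, AlgSt.RepByAlgSpWith P i →
      AlgSt.RepByAlgSpWith P (AlgSt.subIncl 𝒳 (EssIm i)) := fun {P} h =>
    (repByAlgSpWith_square_iff (f := AlgSt.subIncl 𝒳 (EssIm i)) (f' := i) (a := i') (b := BasedFunctor.id _)
      hi' (isEquivOver_id _) (Iso.refl _) P).mpr h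
  obtain ⟨j', hj', -⟩ := exists_inverse hi'
  have halg := isAlgStack_of_equiv hj' h𝒴
  refine ⟨EssIm i, ⟨⟨inferInstance, halg, hrep hi⟩, ⟨i', hi', ⟨Iso.refl _⟩⟩,
    fun h => ⟨inferInstance, halg, hrep h⟩, fun h => ⟨inferInstance, halg, hrep h⟩⟩, ?_⟩
  rintro Q' ⟨hiso, hQa, -⟩ ⟨k, hk, ⟨α⟩⟩
  haveI := hiso
  funext y
  apply propext
  constructor
  · intro hy
    obtain ⟨z, e, -⟩ := vertEssSurj_of_isEquivOver hk ⟨y, hy⟩
    exact ⟨z, ⟨(appIso α z).symm ≪≫ (ObjectProperty.ι Q').mapIso e⟩⟩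
  · rintro ⟨z, ⟨f⟩⟩
    exact ObjectProperty.prop_of_iso Q' (appIso α z ≪≫ f) (k.obj z).property

end Image

end AlgStLib
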