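import Groth.Agent.AlgStLib.QcMor
import Groth.Agent.AlgStLib.LocQ5

/-!
# Universal topological properties of representable morphisms
-/

set_option autoImplicit false
set_option backward.isDefEq.respectTransparency false
set_option backward.isDefEq.respectTransparency.types false

universe u

open CategoryTheory CategoryTheory.Limits AlgebraicGeometry Opposite AlgSp FibCat FibLib AlgSpLib Topology

noncomputable section

namespace AlgStLib

variable {S : Scheme.{u}} {𝒳 𝒴 : AlgSt.Cat S}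

local notation "IsAS" => AlgSt.IsAlgStack Scheme.fppfPrecoverage

/-- What the test on spaces gives for the base change to an algebraic stack. -/
structure PtsSquare {P Z : Type*} [TopologicalSpace P] [TopologicalSpace Z] (g : P → Z) {H U : Type*}
    [TopologicalSpace H] [TopologicalSpace U] (a : H → U) (z : U → Z) (q : H → P) : Prop where
  cont : Continuous g
  zcont : Continuous z
  zopen : IsOpenMap z
  zsurj : Function.Surjective z
  qcont : Continuous q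
  comm : ∀ h, g (q h) = z (a h)
  cart : ∀ w u, g w = z u → ∃ h, q h = w ∧ a h = u

section Descend
variable {P Z H U : Type*} [TopologicalSpace P] [TopologicalSpace Z] [TopologicalSpace H] [TopologicalSpace U]
  {g : P → Z} {a : H → U} {z : U → Z} {q : H → P} (h : PtsSquare g a z q)
include h

lemma PtsSquare.preimage_image (A : Set P) : z ⁻¹' (g '' A) = a '' (q ⁻¹' A) := by
  ext u
  constructor
  · rintro ⟨w, hw, hwu⟩
    obtain ⟨x, hx, hxu⟩ := h.cart w u hwu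
    exact ⟨x, by rw [Set.mem_preimage, hx]; exact hw, hxu⟩
  · rintro ⟨x, hx, rfl⟩
    exact ⟨q x, hx, h.comm x⟩

lemma PtsSquare.isOpenMap (ha : IsOpenMap a) : IsOpenMap g := fun A hA => by
  rw [← Set.image_preimage_eq (g '' A) h.zsurj, h.preimage_image]
  exact h.zopen _ (ha _ (hA.preimage h.qcont))

lemma PtsSquare.isClosedMap (ha : IsClosedMap a) : IsClosedMap g := fun A hA => by
  rw [← (h.zopen.isQuotientMap h.zcont h.zsurj).isClosed_preimage, h.preimage_image]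
  exact ha _ (hA.preimage h.qcont)

lemma PtsSquare.injective (ha : Function.Injective a) : Function.Injective g := fun w w' hw => by
  obtain ⟨u, hu⟩ := h.zsurj (g w)
  obtain ⟨x, rfl, hx⟩ := h.cart w u hu.symm
  obtain ⟨x', rfl, hx'⟩ := h.cart w' u (hw.symm.trans hu.symm)
  rw [ha (hx.trans hx'.symm)]

lemma PtsSquare.surjective (ha : Function.Surjective a) : Function.Surjective g := fun y => by
  obtain ⟨u, rfl⟩ := h.zsurj y
  obtain ⟨x, rfl⟩ := ha u
  exact ⟨q x, h.comm x⟩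

lemma PtsSquare.isQuotientMap (ha : IsQuotientMap a) : IsQuotientMap g := by
  refine ⟨isCoinducing_iff.2 fun B => ⟨fun hB => ?_, fun hB => hB.preimage h.cont⟩, h.surjective ha.surjective⟩
  rw [← (h.zopen.isQuotientMap h.zcont h.zsurj).isOpen_preimage, ← ha.isOpen_preimage]
  have e : a ⁻¹' (z ⁻¹' B) = q ⁻¹' (g ⁻¹' B) := by ext x; simp [h.comm x]
  rw [e]
  exact hB.preimage h.qcont

lemma PtsSquare.isHomeomorph (ha : IsHomeomorph a) : IsHomeomorph g :=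
  ⟨h.cont, h.isOpenMap ha.isOpenMap, h.injective ha.bijective.1, h.surjective ha.bijective.2⟩

end Descend

/-- Forward: the square of point maps over an atlas of the test stack. -/
theorem exists_ptsSquare (h𝒳 : IsAS 𝒳) (h𝒴 : IsAS 𝒴) {f : 𝒳 ⥤ᵇ 𝒴} {Q : MorphismProperty (Sp S)}
    (hf : AlgSt.RepByAlgSpWith (UnivSp Q) f) {𝒵 : AlgSt.Cat S} (h𝒵 : IsAS 𝒵) (g : 𝒵 ⥤ᵇ 𝒴) :
    ∃ (H : Sp S) (U : Over S) (a : H ⟶ (yon S).obj U) (z : Points ((yon S).obj U) → AlgSt.Points 𝒵)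
      (q : Points H → AlgSt.Points (fp g f)),
      Q a ∧ PtsSquare (AlgSt.Points.map (FibCat.fpFst g f)) (Points.map a) z q := by
  haveI := isFibGrpd_of_isAlgStack h𝒳
  haveI := isFibGrpd_of_isAlgStack h𝒴
  haveI := isFibGrpd_of_isAlgStack h𝒵
  obtain ⟨U, z₀, hz, hzs⟩ := h𝒵.atlas
  let z := BasedFunctor.comp (AlgSt.toOverCat U) z₀
  obtain ⟨H, a, hH, ⟨e, he, ⟨β⟩⟩, ha⟩ := (repByAlgSpWith_iff _ f).mp hf U (BasedFunctor.comp z g)
  obtain ⟨P', hP', -, ⟨κ⟩⟩ := exists_inverse (isEquivOver_fpPaste z g f)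
  haveI : IsFibGrpd (AlgSt.ofSch U).p := Stk.isFibGrpd_ofPsh _
  haveI : IsFibGrpd (AlgSt.ofSp H).p := Stk.isFibGrpd_ofPsh _
  haveI : IsFibGrpd (fp g f).p := isFibGrpd_fp
  let qq : AlgSt.ofSp H ⥤ᵇ fp g f :=
    BasedFunctor.comp (BasedFunctor.comp e P') (FibCat.fpSnd z (FibCat.fpFst g f))
  have hfp := isAlgStack_fp' h𝒵 h𝒳 h𝒴 g f
  have ha' : Q a := ha (IsAlgSpace.yon_obj U) (𝟙 _) (𝟙 H) a (IsPullback.of_horiz_isIso ⟨by simp⟩)
  have hsm₁ := repByAlgSpWith_toOverCat_comp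
    (repByAlgSpWith_mono (Q := LocP @Flat) (fun _ _ _ _ _ h => locP_flat_of_smooth h) hz)
  have hsm₂ := repByAlgSpWith_toOverCat_comp
    (repByAlgSpWith_mono (Q := LocP @LocallyOfFinitePresentation) (fun _ _ _ _ _ h => locP_lfp_of_smooth h) hz)
  let β' : BasedFunctor.comp (BasedFunctor.comp e P') (FibCat.fpFst z (FibCat.fpFst g f)) ≅ Stk.ofPshMap a.hom :=
    whiskerLeftIso' e (whiskerRightIso' κ (FibCat.fpFst (BasedFunctor.comp z g) f)) ≪≫ β
  refine ⟨H, U, a, ptMap z, ptMap qq, ha', continuous_map h𝒵.atlas _, continuous_ptMap h𝒵.atlas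
    (IsAlgSpace.yon_obj U) z, isOpenMap_ptMap (IsAlgSpace.yon_obj U) z hsm₁ hsm₂, fun y => ?_,
    continuous_ptMap hfp.atlas hH qq, fun x => ?_, fun w u hwu => ?_⟩
  · obtain ⟨p, rfl⟩ := surjective_of_repByAlgSpWith (repByAlgSpWith_toOverCat_comp hzs) y
    exact ⟨ptsEquiv _ p, congrArg (AlgSt.Points.map z) (Equiv.symm_apply_apply _ _)⟩
  · let i : BasedFunctor.comp qq (FibCat.fpFst g f) ≅ BasedFunctor.comp (Stk.ofPshMap a.hom) z :=
      whiskerLeftIso' (BasedFunctor.comp e P') (fpIso z (FibCat.fpFst g f)).symm ≪≫ whiskerRightIso' β' z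
    change AlgSt.Points.map _ (AlgSt.Points.map qq _) = AlgSt.Points.map z ((ptsEquiv _).symm _)
    rw [← map_ofPshMap_ptsEquiv_symm, ← map_comp, map_congr i, map_comp]
  · obtain ⟨v, hv₁, hv₂⟩ := exists_point_fp (g := z) (f := FibCat.fpFst g f) ((ptsEquiv _).symm u) w hwu.symm
    obtain ⟨x, rfl⟩ := (map_bijective_of_isEquivOver (isEquivOver_comp he hP')).2 v
    refine ⟨ptsEquiv H x, ?_, ?_⟩
    · change AlgSt.Points.map qq ((ptsEquiv H).symm (ptsEquiv H x)) = w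
      rw [Equiv.symm_apply_apply, map_comp]
      exact hv₂
    · rw [← Equiv.apply_symm_apply (ptsEquiv _) u, ← hv₁, ← map_comp, map_congr β', ptsEquiv_map]

/-- Backward: the map of points of a test is that of a base change to a stack, up to homeomorphism. -/
theorem exists_homeomorph_of_along (h𝒳 : IsAS 𝒳) (h𝒴 : IsAS 𝒴) {f : 𝒳 ⥤ᵇ 𝒴} {G H : Sp S} (hG : IsAlgSpace G)
    (hH : IsAlgSpace H) {u : AlgSt.ofSp G ⥤ᵇ 𝒴} {a : H ⟶ G} (ha : Along u f a.hom) :
    ∃ (φ : Points H ≃ₜ AlgSt.Points (fp u f)) (ψ : AlgSt.Points (AlgSt.ofSp G) ≃ₜ Points G),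
      Points.map a = ψ ∘ AlgSt.Points.map (FibCat.fpFst u f) ∘ φ := by
  obtain ⟨e, he, ⟨β⟩⟩ := ha
  haveI := isFibGrpd_of_isAlgStack h𝒳
  haveI := isFibGrpd_of_isAlgStack h𝒴
  haveI : IsFibGrpd (AlgSt.ofSp G).p := Stk.isFibGrpd_ofPsh _
  haveI : IsFibGrpd (fp u f).p := isFibGrpd_fp
  have hfp := isAlgStack_fp' (isAlgStack_ofSp hG) h𝒳 h𝒴 u f
  obtain ⟨e', he', ⟨μ⟩, ⟨κ⟩⟩ := exists_inverse he
  haveI : IsFibGrpd (AlgSt.ofSp H).p := Stk.isFibGrpd_ofPsh _
  let eH : AlgSt.Points (AlgSt.ofSp H) ≃ₜ AlgSt.Points (fp u f) :=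
    { toFun := AlgSt.Points.map e
      invFun := AlgSt.Points.map e'
      left_inv := fun x => by rw [← map_comp, map_congr μ, map_id]
      right_inv := fun x => by rw [← map_comp, map_congr κ, map_id]
      continuous_toFun := continuous_map hfp.atlas e
      continuous_invFun := continuous_map (hasAtlas_ofSp hH) e' }
  refine ⟨(ptsHomeo hH).symm.trans eH, ptsHomeo hG, funext fun x => ?_⟩
  change _ = ptsEquiv G (AlgSt.Points.map (FibCat.fpFst u f) (AlgSt.Points.map e ((ptsEquiv H).symm x)))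
  rw [← map_comp, map_congr β, ptsEquiv_map, Equiv.apply_symm_apply]

/-- The equivalence for a topological property. -/
theorem repByAlgSpWith_univSp_iff (h𝒳 : IsAS 𝒳) (h𝒴 : IsAS 𝒴) (f : 𝒳 ⥤ᵇ 𝒴) (hf : AlgSt.RepByAlgSp1 f)
    (Φ : ∀ {A B : Type (u + 1)} [TopologicalSpace A] [TopologicalSpace B], (A → B) → Prop)
    (desc : ∀ {P Z H U : Type (u + 1)} [TopologicalSpace P] [TopologicalSpace Z] [TopologicalSpace H]
      [TopologicalSpace U] {g : P → Z} {a : H → U} {z : U → Z} {q : H → P}, PtsSquare g a z q → Φ a → Φ g)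
    (homeo : ∀ {A B C D : Type (u + 1)} [TopologicalSpace A] [TopologicalSpace B] [TopologicalSpace C]
      [TopologicalSpace D] (φ : A ≃ₜ B) (m : B → C) (ψ : C ≃ₜ D), Φ m → Φ (ψ ∘ m ∘ φ)) :
    AlgSt.RepByAlgSpWith (UnivSp fun _ _ a => Φ (Points.map a)) f ↔
      ∀ (𝒵 : AlgSt.Cat S), IsAS 𝒵 → ∀ (g : 𝒵 ⥤ᵇ 𝒴), Φ (AlgSt.Points.map (FibCat.fpFst g f)) := by
  constructor
  · intro h 𝒵 h𝒵 g
    obtain ⟨H, U, a, z, q, ha, hsq⟩ := exists_ptsSquare h𝒳 h𝒴 h h𝒵 g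
    exact desc hsq ha
  · intro h
    refine repByAlgSpWith_of_forall hf fun U u H a hH ha Z Z' hZ g fst snd sq => ?_
    have hZ' := isAlgSpace_of_isPullback hH hZ (IsAlgSpace.yon_obj U) sq
    obtain ⟨φ, ψ, e⟩ := exists_homeomorph_of_along h𝒳 h𝒴 hZ hZ' (ha.of_isPullback (isPullback_sheaf sq))
    show Φ (Points.map snd)
    rw [e]
    exact homeo φ _ ψ (h _ (isAlgStack_ofSp hZ) _)

variable (h𝒳 : IsAS 𝒳) (h𝒴 : IsAS 𝒴) (f : 𝒳 ⥤ᵇ 𝒴) (hf : AlgSt.RepByAlgSp1 f)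
include h𝒳 h𝒴 hf

theorem univOpen_iff :
    AlgSt.RepByAlgSpWith IsUnivOpenMor f ↔ AlgSt.IsUnivOpen Scheme.fppfPrecoverage f :=
  repByAlgSpWith_univSp_iff h𝒳 h𝒴 f hf (fun m => IsOpenMap m) (fun h => h.isOpenMap)
    fun φ _ ψ h => ψ.isOpenMap.comp (h.comp φ.isOpenMap)

theorem univClosed_iff :
    AlgSt.RepByAlgSpWith IsUnivClosedMor f ↔ AlgSt.IsUnivClosed Scheme.fppfPrecoverage f :=
  repByAlgSpWith_univSp_iff h𝒳 h𝒴 f hf (fun m => IsClosedMap m) (fun h => h.isClosedMap)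
    fun φ _ ψ h => ψ.isClosedMap.comp (h.comp φ.isClosedMap)

theorem univInjective_iff :
    AlgSt.RepByAlgSpWith IsUnivInjectiveMor f ↔ AlgSt.IsUnivInjective Scheme.fppfPrecoverage f :=
  repByAlgSpWith_univSp_iff h𝒳 h𝒴 f hf (fun m => Function.Injective m) (fun h => h.injective)
    fun φ _ ψ h => ψ.injective.comp (h.comp φ.injective)

theorem univHomeo_iff :
    AlgSt.RepByAlgSpWith IsUnivHomeoMor f ↔ AlgSt.IsUnivHomeo Scheme.fppfPrecoverage f :=
  repByAlgSpWith_univSp_iff h𝒳 h𝒴 f hf (fun m => IsHomeomorph m) (fun h => h.isHomeomorph)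
    fun φ _ ψ h => ψ.isHomeomorph.comp (h.comp φ.isHomeomorph)

theorem univSubmersive_iff :
    AlgSt.RepByAlgSpWith IsUnivSubmersiveMor f ↔ ∀ (𝒵 : AlgSt.Cat S), IsAS 𝒵 → ∀ (g : 𝒵 ⥤ᵇ 𝒴),
      IsQuotientMap (AlgSt.Points.map (FibCat.fpFst g f)) :=
  repByAlgSpWith_univSp_iff h𝒳 h𝒴 f hf (fun m => IsQuotientMap m) (fun h => h.isQuotientMap)
    fun φ _ ψ h => ψ.isQuotientMap.comp (h.comp φ.isQuotientMap)

end AlgStLib
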